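import Cfsg.Agent.S0799
import Cfsg.Agent.ClassicalGeometry.PSL2Solvable
import Cfsg.Agent.LieExceptional.PGLeqPSL
import Cfsg.Agent.H946.ExcNum_m3
import Cfsg.Agent.H436.TTPsl2
import Cfsg.Agent.H76.PermFour
import Cfsg.Agent.H951.Lin
import Mathlib
import Cfsg.Agent.H899.Pt.Inst_m3
import Cfsg.Agent.H548.BS.Transf
import Cfsg.Agent.H357.NT
import Cfsg.Agent.H529.AltIndex
import Cfsg.Agent.H427.Fc.AltA
import Cfsg.Agent.H884.ElRows_m3
import Cfsg.Agent.H583.PFixed
import Cfsg.Agent.H955.QMinus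
import Cfsg.Agent.H925.OrthBasic
import Cfsg.Agent.S0300
import Cfsg.Agent.H200.LinFixE_m3
import Cfsg.Agent.H469.RowPSL_m3
import Cfsg.Agent.H948.OnCyc
import Cfsg.Agent.H235.ExtOut
import Cfsg.Agent.H427.TWComp
import Cfsg.Agent.H175.OmegaAdjust
import Cfsg.Agent.H501.RowOmega
import Cfsg.Agent.S0750
import Cfsg.Agent.H906.SL2Real
import Cfsg.Agent.H716.S5.Own
import Cfsg.Agent.H947.Cyc.Basic_m3
import Cfsg.Agent.FastGrp
import Cfsg.Agent.Prune
set_option linter.all false

section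
prune_inst 0x7ffeadff29f8a9dedfff7e7fa6d4cdfc39909fffa6dff94bffe063ff0bdf030209c5638d89e010fe1ef6c21410a87803f9ffeeffe26bd87ffffd1ff41ffbee5ff5f6b508519488340fbc2ffe03f0778e7f3fffffffffffffffffffffffffffaeffbfffffffff

-- part: H946/DK/Dick
section
set_option linter.all false
open scoped Cfsg.Agent.FastGrp

/-!
# Subgroups of `PSL(2, q)` of order divisible by a primitive prime (helper946, for S3679)

* `simple_of_prim` : non-abelian simple proper subgroups of `PSL(2, p^N)` of order divisible by a prime `r` with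
  `ord_r(p) = N` : `PSL(2, E)`, `|E|² = p^N`, or `A₅`, `r = 5`;
* `card_dvd_of_prim` : proper subgroups of `PSL(2, p^N)` of order divisible by a prime `r` with `ord_r(p) = 2 N` :
  the order divides `2 (p^N + 1) / (2, p^N - 1)`, or `A₅`, `r = 5`.
-/

set_option autoImplicit false

namespace Cfsg.Agent.H946.DK

open Matrix Cfsg.Agent.ClassicalGeometry Cfsg.Agent.H436

/-! ### numbers -/

theorem exists_exp {p M m k : ℕ} (hp : p.Prime) (hM : M ≠ 0) (hk : IsPrimePow k) (h : k ^ m = p ^ M) :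
    ∃ b, k = p ^ b ∧ b * m = M := by
  obtain ⟨l, b, hl, hb, rfl⟩ := (isPrimePow_nat_iff _).1 hk
  have hm : m ≠ 0 := by
    rintro rfl
    rw [pow_zero] at h
    exact absurd h.symm (Nat.one_lt_pow hM hp.one_lt).ne'
  rw [← pow_mul] at h
  have h1 : l ∣ p ^ M := by
    rw [← h]
    exact dvd_pow_self l (Nat.mul_ne_zero hb.ne' hm)
  have h2 : l = p := (Nat.prime_dvd_prime_iff_eq hl hp).1 (hl.dvd_of_dvd_pow h1)
  subst h2
  exact ⟨b, rfl, Nat.pow_right_injective hl.two_le h⟩

theorem prim_dvd {p N r b c g : ℕ} (h : Prim p N r) (hc : c * g = p ^ b * ((p ^ b) ^ 2 - 1)) (hr : r ∣ c) :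
    N ∣ 2 * b := by
  have h1 : r ∣ p ^ b * ((p ^ b) ^ 2 - 1) := by
    rw [← hc]
    exact hr.mul_right g
  rcases (Nat.Prime.dvd_mul h.prime).1 h1 with h2 | h2
  · exact absurd h2 (h.not_dvd_pow b)
  · rw [← pow_mul, mul_comm] at h2
    exact (h.dvd_iff _).1 h2

theorem prim_lt {p N r : ℕ} (hp : 2 ≤ p) (hN : 3 ≤ N) (h : Prim p N r) : N < r := by
  have hr := h.prime
  have h1 : r ∣ p ^ (r - 1) - 1 := by
    have : Fact r.Prime := ⟨hr⟩
    have h2 : ((p : ℕ) : ZMod r) ≠ 0 := fun h3 => h.not_dvd ((ZMod.natCast_eq_zero_iff p r).1 h3)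
    have h3 := ZMod.pow_card_sub_one_eq_one h2
    have h4 : 1 ≤ p ^ (r - 1) := Nat.one_le_pow _ _ (by omega)
    rw [← ZMod.natCast_eq_zero_iff, Nat.cast_sub h4, Nat.cast_pow, h3, Nat.cast_one, sub_self]
  have h2 := (h.dvd_iff _).1 h1
  have h3 : N ≤ r - 1 := by
    refine Nat.le_of_dvd ?_ h2
    have := hr.two_le
    omega
  have := hr.two_le
  omega

theorem prim_sixty {p N r : ℕ} (hp : 2 ≤ p) (hN : 3 ≤ N) (h : Prim p N r) (hr : r ∣ 60) : r = 5 := by
  have h1 := prim_lt hp hN h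
  have h2 : r ∣ 2 * 2 * 3 * 5 := hr
  have h3 := h.prime
  rcases (Nat.Prime.dvd_mul h3).1 h2 with h4 | h4
  · rcases (Nat.Prime.dvd_mul h3).1 h4 with h5 | h5
    · rcases (Nat.Prime.dvd_mul h3).1 h5 with h6 | h6 <;>
      · have := Nat.le_of_dvd (by norm_num) h6
        omega
    · have := Nat.le_of_dvd (by norm_num) h5
      omega
  · exact (Nat.prime_dvd_prime_iff_eq h3 (by norm_num)).1 h4

theorem prim_not_24 {p N r : ℕ} (hp : 2 ≤ p) (hN : 3 ≤ N) (h : Prim p N r) : ¬ r ∣ 24 := by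
  intro hr
  have h1 := prim_lt hp hN h
  have h2 : r ∣ 2 * 2 * 2 * 3 := hr
  have h3 := h.prime
  rcases (Nat.Prime.dvd_mul h3).1 h2 with h4 | h4
  · rcases (Nat.Prime.dvd_mul h3).1 h4 with h5 | h5
    · rcases (Nat.Prime.dvd_mul h3).1 h5 with h6 | h6 <;>
      · have := Nat.le_of_dvd (by norm_num) h6
        omega
    · have := Nat.le_of_dvd (by norm_num) h5
      omega
  · have := Nat.le_of_dvd (by norm_num) h4
    omega

theorem card_alt4 : Nat.card (alternatingGroup (Fin 4)) = 12 := by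
  have := two_mul_nat_card_alternatingGroup (α := Fin 4)
  rw [Nat.card_perm, Nat.card_fin] at this
  have h2 : Nat.factorial 4 = 24 := rfl
  omega

theorem card_alt5 : Nat.card (alternatingGroup (Fin 5)) = 60 := by
  have := two_mul_nat_card_alternatingGroup (α := Fin 5)
  rw [Nat.card_perm, Nat.card_fin] at this
  have h2 : Nat.factorial 5 = 120 := rfl
  omega

/-! ### `PGL(2, E)` is not simple for odd `|E|` -/

theorem card_psl_congr {E E' : Type*} [Field E] [Fintype E] [Field E'] [Fintype E'] (h : Fintype.card E = Fintype.card E') :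
    Nat.card (ProjectiveSpecialLinearGroup (Fin 2) E) = Nat.card (ProjectiveSpecialLinearGroup (Fin 2) E') := by
  rw [PSL2Basic.card_PSL2_div, PSL2Basic.card_PSL2_div, h]

theorem psl_of_pgl {S : Type*} [Group S] [IsSimpleGroup S] {E : Type*} [Field E] [Fintype E]
    (e : S ≃* ProjGenLinGroup (Fin 2) E) : Nonempty (S ≃* ProjectiveSpecialLinearGroup (Fin 2) E) := by
  have hq : 1 < Fintype.card E := Fintype.one_lt_card
  have hfin : Finite (ProjGenLinGroup (Fin 2) E) :=
    Finite.of_surjective _ Matrix.ProjGenLinGroup.mk_surjective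
  rcases Nat.even_or_odd (Fintype.card E) with hE | hE
  · -- every element is a square
    have h2 : (2 : E) = 0 := by
      by_contra h
      exact (Nat.not_even_iff_odd.2 ((PSL2Basic.two_ne_zero_iff_odd E).1 h)) hE
    obtain ⟨f⟩ := LieExceptional.PGLeqPSL.nonempty_pgl_mulEquiv_psl E (fun x => by
      have hc : ringChar E = 2 := by
        refine CharP.ringChar_of_prime_eq_zero Nat.prime_two ?_
        exact_mod_cast h2
      obtain ⟨y, hy⟩ := FiniteField.isSquare_of_char_two hc x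
      exact ⟨y, by rw [pow_two]; exact hy⟩)
    exact ⟨e.trans f⟩
  · exfalso
    have hs : IsSimpleGroup (ProjGenLinGroup (Fin 2) E) := e.symm.isSimpleGroup
    set ι := Matrix.ProjectiveSpecialLinearGroup.toPGL (n := Fin 2) (R := E) with hι
    have hinj : Function.Injective ι := Matrix.ProjectiveSpecialLinearGroup.toPGL_injective (n := Fin 2) (R := E)
    have h1 : Nat.card ι.range = Nat.card (ProjectiveSpecialLinearGroup (Fin 2) E) :=
      (Nat.card_congr (MonoidHom.ofInjective hinj).toEquiv).symm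
    have h2 := ι.range.card_mul_index
    have h3 := PSL2Basic.card_PSL2_odd E hE
    rw [h1, PSL2Basic.card_PGL2, ← h3] at h2
    have h4 : 0 < Nat.card (ProjectiveSpecialLinearGroup (Fin 2) E) := by
      rw [← h1]
      exact Nat.card_pos
    have h5 : ι.range.index = 2 := Nat.eq_of_mul_eq_mul_left h4 h2
    have h6 : ι.range.Normal := Subgroup.normal_of_index_eq_two h5
    rcases h6.eq_bot_or_eq_top with h7 | h7
    · rw [h7, Subgroup.card_bot] at h1
      have h8 : 3 ≤ Fintype.card E := by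
        obtain ⟨k, hk⟩ := hE
        omega
      rw [← h1, one_mul] at h3
      have h9 : 8 ≤ Fintype.card E ^ 2 - 1 := by
        have : 9 ≤ Fintype.card E ^ 2 := by nlinarith
        omega
      have h10 : 3 * 8 ≤ Fintype.card E * (Fintype.card E ^ 2 - 1) := Nat.mul_le_mul h8 h9
      omega
    · rw [h7, Subgroup.index_top] at h5
      omega

/-! ### the two theorems -/

/-- **simple proper subgroups** -/
theorem simple_of_prim {K : Type*} [Field K] [Fintype K] {p N r : ℕ} (hp : p.Prime) (hK : Fintype.card K = p ^ N)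
    (hN : 3 ≤ N) (hr : Prim p N r) {S : Type*} [Group S] [Finite S] [IsSimpleGroup S]
    (hna : ¬ ∀ a b : S, a * b = b * a) (ψ : S →* ProjectiveSpecialLinearGroup (Fin 2) K)
    (hψ : Function.Injective ψ) (htop : ψ.range ≠ ⊤) (hrS : r ∣ Nat.card S) :
    (∃ (E : Type) (_ : Field E) (_ : Fintype E), Fintype.card E ^ 2 = p ^ N ∧
      Nonempty (S ≃* ProjectiveSpecialLinearGroup (Fin 2) E)) ∨
    (r = 5 ∧ Nonempty (S ≃* alternatingGroup (Fin 5))) := by
  have hpf : Fact p.Prime := ⟨hp⟩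
  have hchar : CharP K p := by
    obtain ⟨l, hl⟩ := CharP.exists K
    obtain ⟨n, hlp, hn⟩ := FiniteField.card K l
    have h1 : l ∣ p ^ N := by
      rw [← hK, hn]
      exact dvd_pow_self l n.2.ne'
    have h2 := (Nat.prime_dvd_prime_iff_eq hlp hp).1 (hlp.dvd_of_dvd_pow h1)
    rw [← h2]
    exact hl
  have hS4 := Cfsg.Agent.H76.PermFour.solvable_perm_four
  let e₀ : S ≃* ψ.range := MonoidHom.ofInjective hψ
  have hns : ¬ Group.IsSolvable S := fun hs => hna (IsSimpleGroup.comm_iff_isSolvable.mpr hs)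
  rcases Cfsg.Agent.S0799.result (F := K) rfl p ψ.range with ⟨k, -, h | ⟨⟨e⟩⟩⟩ | ⟨P, L, hL, ⟨e⟩⟩ | ⟨⟨e⟩⟩ | ⟨⟨e⟩⟩ |
    ⟨⟨e⟩⟩ | ⟨E, _, _, m, hm, he⟩
  · exfalso
    have := h.1
    apply hna
    intro a b
    apply e₀.injective
    rw [map_mul, map_mul]
    let _ := this.commGroup
    exact mul_comm _ _
  · exfalso
    have := ClassicalGeometry.PSL2Solvable.isSolvable_dihedral k
    exact hns (Group.isSolvable_of_surjective (e₀.trans e).symm.surjective (f := (e₀.trans e).symm.toMonoidHom))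
  · exfalso
    have := ClassicalGeometry.PSL2Solvable.isSolvable_of_le_normalizer p P L hL
    exact hns (Group.isSolvable_of_surjective (e₀.trans e).symm.surjective (f := (e₀.trans e).symm.toMonoidHom))
  · exfalso
    have : Group.IsSolvable ↥(alternatingGroup (Fin 4)) := inferInstance
    exact hns (Group.isSolvable_of_surjective (e₀.trans e).symm.surjective (f := (e₀.trans e).symm.toMonoidHom))
  · exfalso
    exact hns (Group.isSolvable_of_surjective (e₀.trans e).symm.surjective (f := (e₀.trans e).symm.toMonoidHom))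
  · right
    refine ⟨prim_sixty hp.two_le hN hr ?_, ⟨e₀.trans e⟩⟩
    rw [Nat.card_congr (e₀.trans e).toEquiv, card_alt5] at hrS
    exact hrS
  · left
    obtain ⟨e⟩ : Nonempty (S ≃* ProjectiveSpecialLinearGroup (Fin 2) E) := by
      rcases he with ⟨⟨e⟩⟩ | ⟨⟨e⟩⟩
      · exact ⟨e₀.trans e⟩
      · exact psl_of_pgl (e₀.trans e)
    refine ⟨E, inferInstance, inferInstance, ?_, ⟨e⟩⟩
    obtain ⟨b, hb, hbm⟩ := exists_exp hp (by omega) (Fintype.isPrimePow_card_of_field (α := E)) (hm.trans hK)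
    have h1 : N ∣ 2 * b := by
      refine prim_dvd (c := Nat.card S) (g := Nat.gcd 2 (Fintype.card E - 1)) hr ?_ hrS
      rw [Nat.card_congr e.toEquiv, ← hb]
      exact PSL2Basic.card_PSL2_gcd E
    have hb0 : 0 < b := Nat.pos_of_ne_zero (by rintro rfl; omega)
    have h2 : m ∣ 2 := by
      rw [← hbm, mul_comm 2 b] at h1
      exact Nat.dvd_of_mul_dvd_mul_left hb0 h1
    have h3 : m = 1 ∨ m = 2 := (Nat.dvd_prime Nat.prime_two).1 h2
    rcases h3 with rfl | rfl
    · exfalso
      apply htop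
      apply Subgroup.eq_top_of_card_eq
      rw [← Nat.card_congr e₀.toEquiv, Nat.card_congr e.toEquiv]
      rw [pow_one] at hm
      exact card_psl_congr hm
    · rw [hm, hK]

/-- **proper subgroups of order divisible by a primitive prime of `p ^ (2 N) - 1`** -/
theorem struct_of_prim {E : Type*} [Field E] [Fintype E] {p N r : ℕ} (hp : p.Prime) (hE : Fintype.card E = p ^ N)
    (hN : 2 ≤ N) (hr : Prim p (2 * N) r) (X : Subgroup (ProjectiveSpecialLinearGroup (Fin 2) E)) (hX : X ≠ ⊤)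
    (hrX : r ∣ Nat.card X) :
    (∃ k, k ∣ (p ^ N + 1) / Nat.gcd 2 (p ^ N - 1) ∧ ((IsCyclic X ∧ Nat.card X = k) ∨ Nonempty (X ≃* DihedralGroup k))) ∨
      (r = 5 ∧ Nonempty (X ≃* alternatingGroup (Fin 5))) := by
  have hpf : Fact p.Prime := ⟨hp⟩
  have hchar : CharP E p := by
    obtain ⟨l, hl⟩ := CharP.exists E
    obtain ⟨n, hlp, hn⟩ := FiniteField.card E l
    have h1 : l ∣ p ^ N := by
      rw [← hE, hn]
      exact dvd_pow_self l n.2.ne'
    have h2 := (Nat.prime_dvd_prime_iff_eq hlp hp).1 (hlp.dvd_of_dvd_pow h1)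
    rw [← h2]
    exact hl
  have hr2 : r ≠ 2 := by
    have := prim_lt hp.two_le (by omega) hr
    omega
  have hq1 : 2 ≤ p ^ N := hp.two_le.trans (Nat.le_self_pow (by omega) p)
  have hrm : ¬ r ∣ p ^ N - 1 := by
    rw [hr.dvd_iff]
    intro h
    have := Nat.le_of_dvd (by omega) h
    omega
  rcases Cfsg.Agent.S0799.result (F := E) hE p X with ⟨k, hk, h⟩ | ⟨P, L, hL, ⟨e⟩⟩ | ⟨⟨e⟩⟩ | ⟨⟨e⟩⟩ |
    ⟨⟨e⟩⟩ | ⟨E', _, _, m, hm, he⟩
  · left
    have hc : Nat.card X ∣ 2 * k := by
      rcases h with ⟨_, h⟩ | ⟨⟨f⟩⟩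
      · rw [h]; exact Dvd.intro_left _ rfl
      · rw [Nat.card_congr f.toEquiv, DihedralGroup.nat_card]
    rcases hk with hk | hk
    · exact ⟨k, hk, h⟩
    · exfalso
      apply hrm
      have h1 : r ∣ 2 * k := hrX.trans hc
      have h2 : r ∣ k := ((Nat.Prime.dvd_mul hr.prime).1 h1).resolve_left fun h =>
        hr2 ((Nat.prime_dvd_prime_iff_eq hr.prime Nat.prime_two).1 h)
      exact h2.trans (hk.trans (Nat.div_dvd_of_dvd (Nat.gcd_dvd_right _ _)))
  · exfalso
    have h1 := H436.TT.index_normalizer p P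
    set M := Subgroup.normalizer ((P : Subgroup (ProjectiveSpecialLinearGroup (Fin 2) E)) :
      Set (ProjectiveSpecialLinearGroup (Fin 2) E)) with hM
    have h2 : Nat.card M * Nat.gcd 2 (p ^ N - 1) = p ^ N * (p ^ N - 1) := by
      have h3 := M.card_mul_index
      have h4 := PSL2Basic.card_PSL2_gcd E
      rw [← h3, h1, hE] at h4
      have h5 : (p ^ N) ^ 2 - 1 = (p ^ N - 1) * (p ^ N + 1) := by
        have := Nat.sq_sub_sq (p ^ N) 1
        rw [one_pow] at this
        rw [this]; ring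
      rw [h5] at h4
      refine Nat.eq_of_mul_eq_mul_right (show 0 < p ^ N + 1 by omega) ?_
      calc _ = Nat.card M * (p ^ N + 1) * Nat.gcd 2 (p ^ N - 1) := by ring
        _ = _ := by rw [h4]; ring
    have h3 : r ∣ p ^ N * (p ^ N - 1) := by
      rw [← h2]
      refine Dvd.dvd.mul_right ?_ _
      rw [Nat.card_congr e.toEquiv] at hrX
      exact hrX.trans (Subgroup.card_dvd_of_le hL)
    rcases (Nat.Prime.dvd_mul hr.prime).1 h3 with h4 | h4
    · exact hr.not_dvd_pow _ h4
    · exact hrm h4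
  · exfalso
    rw [Nat.card_congr e.toEquiv, card_alt4] at hrX
    exact prim_not_24 hp.two_le (by omega) hr (hrX.trans (by norm_num))
  · exfalso
    rw [Nat.card_congr e.toEquiv, Nat.card_perm, Nat.card_fin] at hrX
    exact prim_not_24 hp.two_le (by omega) hr hrX
  · right
    refine ⟨prim_sixty hp.two_le (by omega) hr ?_, ⟨e⟩⟩
    rw [Nat.card_congr e.toEquiv, card_alt5] at hrX
    exact hrX
  · exfalso
    obtain ⟨b, hb, hbm⟩ := exists_exp hp (by omega) (Fintype.isPrimePow_card_of_field (α := E')) hm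
    have hc : Nat.card X * Nat.gcd 2 (Fintype.card E' - 1) = Fintype.card E' * (Fintype.card E' ^ 2 - 1) ∨
        Nat.card X = Fintype.card E' * (Fintype.card E' ^ 2 - 1) := by
      rcases he with ⟨⟨e⟩⟩ | ⟨⟨e⟩⟩
      · left
        rw [Nat.card_congr e.toEquiv]
        exact PSL2Basic.card_PSL2_gcd E'
      · right
        rw [Nat.card_congr e.toEquiv]
        exact PSL2Basic.card_PGL2 E'
    have h1 : 2 * N ∣ 2 * b := by
      rcases hc with hc | hc
      · rw [hb] at hc
        exact prim_dvd hr hc hrX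
      · rw [hb, ← mul_one (Nat.card X)] at hc
        exact prim_dvd hr hc hrX
    have h2 : m = 1 := by
      have hb0 : 0 < b := Nat.pos_of_ne_zero (by rintro rfl; omega)
      have h3 : N ≤ b := Nat.le_of_dvd hb0 (Nat.dvd_of_mul_dvd_mul_left (by norm_num) h1)
      have h4 : m ≠ 0 := by rintro rfl; omega
      by_contra h5
      have : b * 2 ≤ b * m := Nat.mul_le_mul_left b (by omega)
      omega
    subst h2
    rw [pow_one] at hm
    apply hX
    apply Subgroup.eq_top_of_le_card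
    have h3 := PSL2Basic.card_PSL2_gcd E
    rw [hE] at h3
    rw [hm] at hc
    have h4 : 0 < Nat.gcd 2 (p ^ N - 1) := Nat.gcd_pos_of_pos_left _ (by norm_num)
    rcases hc with hc | hc
    · exact (Nat.eq_of_mul_eq_mul_right h4 (h3.trans hc.symm)).le
    · rw [hc, ← h3]
      exact Nat.le_mul_of_pos_right _ h4

theorem card_dvd_of_prim {E : Type*} [Field E] [Fintype E] {p N r : ℕ} (hp : p.Prime) (hE : Fintype.card E = p ^ N)
    (hN : 2 ≤ N) (hr : Prim p (2 * N) r) (X : Subgroup (ProjectiveSpecialLinearGroup (Fin 2) E)) (hX : X ≠ ⊤)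
    (hrX : r ∣ Nat.card X) :
    Nat.card X ∣ 2 * ((p ^ N + 1) / Nat.gcd 2 (p ^ N - 1)) ∨ (r = 5 ∧ Nonempty (X ≃* alternatingGroup (Fin 5))) := by
  rcases struct_of_prim hp hE hN hr X hX hrX with ⟨k, hk, h⟩ | h
  · left
    have hc : Nat.card X ∣ 2 * k := by
      rcases h with ⟨_, h⟩ | ⟨⟨f⟩⟩
      · rw [h]; exact Dvd.intro_left _ rfl
      · rw [Nat.card_congr f.toEquiv, DihedralGroup.nat_card]
    exact hc.trans (Nat.mul_dvd_mul_left 2 hk)
  · exact Or.inr h

end Cfsg.Agent.H946.DK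
end

-- part: H946/DK/Main
section
prune_inst 0x140009607500100000000010a0001c62f20001000048000000800d020d898c4000000020bab004100002008440380040000000800040000004000000011800801000000400000000000000000000000000000000000000000000000000010000000000000
set_option linter.all false
open scoped Cfsg.Agent.FastGrp

-- part: H946/DK/Lin
section
/-!
# Fixed point free operators of prime order `r` on a space of dimension `2 n`, `n = ord_r(q)` (helper946, for S3679)

* `cyclic_or_homog` : `V = F[x] v` for some `v`, or an irreducible polynomial of degree `n` kills `x`;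
* `commute_of_cyclic` : in the first case the operators commuting with `x` commute.
-/

set_option autoImplicit false

namespace Cfsg.Agent.H946.DK

open Module Polynomial Cfsg.Agent.H951

variable {F : Type*} [Field F] {V : Type*} [AddCommGroup V] [Module F V] {x a b : Module.End F V}

theorem aeval_comm (ha : Commute a x) (P : F[X]) (v : V) : a (aeval x P v) = aeval x P (a v) := by
  have h : Commute a (aeval x P) := by
    induction P using Polynomial.induction_on' with
    | add p q hp hq => rw [map_add]; exact hp.add_right hq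
    | monomial n c =>
      rw [aeval_monomial]
      exact (show Commute a (algebraMap F (Module.End F V) c) from (Algebra.commutes c a).symm).mul_right (ha.pow_right n)
  exact LinearMap.congr_fun h.eq v

theorem commute_of_cyclic {v : V} (hv : ∀ w : V, ∃ P : F[X], aeval x P v = w) (ha : Commute a x)
    (hb : Commute b x) : Commute a b := by
  obtain ⟨P, hP⟩ := hv (a v)
  obtain ⟨Q, hQ⟩ := hv (b v)
  refine LinearMap.ext fun w => ?_
  obtain ⟨R, rfl⟩ := hv w
  show a (b (aeval x R v)) = b (a (aeval x R v))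
  rw [aeval_comm hb, aeval_comm ha, aeval_comm ha, aeval_comm hb, ← hP, ← hQ, aeval_comm ha, aeval_comm hb, ← hP, ← hQ,
    ← Module.End.mul_apply (aeval x Q), ← Module.End.mul_apply (aeval x P), ← map_mul, ← map_mul, mul_comm]

/-- the cyclic subspace -/
noncomputable def cyc (x : Module.End F V) (v : V) : Submodule F V :=
  LinearMap.range ((LinearMap.applyₗ v).comp (aeval x : F[X] →ₐ[F] Module.End F V).toLinearMap)

theorem mem_cyc {v w : V} : w ∈ cyc x v ↔ ∃ P : F[X], aeval x P v = w := by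
  rw [cyc, LinearMap.mem_range]
  rfl

theorem inv_cyc (v : V) : Inv x (cyc x v) := by
  intro w hw
  obtain ⟨P, rfl⟩ := mem_cyc.1 hw
  exact mem_cyc.2 ⟨X * P, by rw [map_mul, aeval_X, Module.End.mul_apply]⟩

theorem self_mem_cyc (v : V) : v ∈ cyc x v := mem_cyc.2 ⟨1, by simp⟩

variable [FiniteDimensional F V] [Fintype F] {r n : ℕ} [hrp : Fact r.Prime]

include hrp in
theorem le_finrank (hx : x ^ r = 1) (hf : fx x = ⊥) (hn : orderOf (Fintype.card F : ZMod r) = n) {W : Submodule F V}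
    (hW : Inv x W) (h0 : W ≠ ⊥) : n ≤ finrank F W := by
  have h1 := ord_dvd_finrank hx hW (by rw [hf, inf_bot_eq])
  rw [hn] at h1
  refine Nat.le_of_dvd (Nat.pos_of_ne_zero fun h => h0 (Submodule.finrank_eq_zero.1 h)) h1

theorem cyclic_or_homog (hr : (r : F) ≠ 0) (hx : x ^ r = 1) (hf : fx x = ⊥)
    (hn : orderOf (Fintype.card F : ZMod r) = n) (hn0 : 0 < n) (hV : finrank F V = 2 * n) :
    (∃ v, ∀ w : V, ∃ P : F[X], aeval x P v = w) ∨
      ∃ g : F[X], Irreducible g ∧ g.natDegree = n ∧ aeval x g = 0 := by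
  have hcm : cm x = ⊤ := by
    have := (isCompl_fx_cm hr hx).sup_eq_top
    rwa [hf, bot_sup_eq] at this
  have hcy : ∀ v : V, aeval x (cyclotomic r F) v = 0 := fun v =>
    cyclotomic_apply_of_mem_cm hx (by rw [hcm]; trivial)
  have hcy0 : cyclotomic r F ≠ 0 := cyclotomic_ne_zero r F
  have hnt : Nontrivial V := by
    rw [← Module.finrank_pos_iff (R := F)]
    omega
  obtain ⟨v₀, hv₀⟩ := exists_ne (0 : V)
  obtain ⟨g, hg, hgd, u, -, hu0, hgu⟩ := exists_irreducible_factor (x := x) (W := ⊤) inv_top (cyclotomic r F) hcy0 v₀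
    trivial hv₀ (hcy v₀)
  by_cases hK : LinearMap.ker (aeval x g) = ⊤
  · right
    exact ⟨g, hg, by rw [natDegree_factor hr hg hgd, hn], LinearMap.ker_eq_top.1 hK⟩
  left
  obtain ⟨T, hT, -, hKT, hKT'⟩ := exists_rel_compl (semisimple_of_pow hr hx) (inv_ker_aeval (x := x) g) inv_top le_top
  have hT0 : T ≠ ⊥ := by
    rintro rfl
    rw [sup_bot_eq] at hKT'
    exact hK hKT'
  obtain ⟨t, ht, ht0⟩ := (Submodule.ne_bot_iff _).1 hT0
  obtain ⟨g', hg', hgd', u', hu', hu'0, hgu'⟩ := exists_irreducible_factor hT (cyclotomic r F) hcy0 t ht ht0 (hcy t)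
  have hgT : ∀ w ∈ T, w ≠ 0 → aeval x g w ≠ 0 := by
    intro w hw hw0 h
    apply hw0
    rw [← Submodule.mem_bot F, ← hKT]
    exact ⟨LinearMap.mem_ker.2 h, hw⟩
  refine ⟨u + u', fun w => ?_⟩
  rw [← mem_cyc]
  -- the intersection with `T`
  have h1 : n ≤ finrank F ↥(cyc x (u + u') ⊓ T) := by
    refine le_finrank hx hf hn ((inv_cyc _).inf hT) ?_
    intro h
    apply hgT u' hu' hu'0
    rw [← Submodule.mem_bot F, ← h]
    refine ⟨mem_cyc.2 ⟨g, ?_⟩, hT.aeval g u' hu'⟩
    rw [map_add, hgu, zero_add]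
  have hnd : ¬ g' ∣ g := by
    intro hd
    obtain ⟨c, hc⟩ := hd
    apply hgT u' hu' hu'0
    rw [hc, mul_comm, map_mul, Module.End.mul_apply, hgu', map_zero]
  have h2 : n ≤ finrank F ↥(cyc x (u + u') ⊓ LinearMap.ker (aeval x g)) := by
    refine le_finrank hx hf hn ((inv_cyc _).inf (inv_ker_aeval g)) ?_
    intro h
    have h3 : aeval x g' u = 0 := by
      rw [← Submodule.mem_bot F, ← h]
      refine ⟨mem_cyc.2 ⟨g', ?_⟩, inv_ker_aeval (x := x) g |>.aeval g' u (LinearMap.mem_ker.2 hgu)⟩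
      rw [map_add, hgu', add_zero]
    obtain ⟨c, d, hcd⟩ := hg'.coprime_iff_not_dvd.2 hnd
    apply hu0
    have h4 : aeval x (c * g' + d * g) u = u := by rw [hcd]; simp only [_root_.map_one, _root_.Module.End.one_apply]
    rw [← h4, map_add, map_mul, map_mul, LinearMap.add_apply, Module.End.mul_apply, Module.End.mul_apply, h3, hgu,
      map_zero, map_zero, add_zero]
  have h3 : (cyc x (u + u') ⊓ T) ⊓ (cyc x (u + u') ⊓ LinearMap.ker (aeval x g)) = ⊥ := by
    rw [eq_bot_iff, ← hKT]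
    exact fun v hv => ⟨hv.2.2, hv.1.2⟩
  have h4 := finrank_sup_of_disj h3
  have h5 : (cyc x (u + u') ⊓ T) ⊔ (cyc x (u + u') ⊓ LinearMap.ker (aeval x g)) ≤ cyc x (u + u') :=
    sup_le inf_le_left inf_le_left
  have h6 := Submodule.finrank_mono h5
  have h7 : cyc x (u + u') = ⊤ := Submodule.eq_top_of_finrank_eq (le_antisymm (Submodule.finrank_le _) (by omega))
  rw [h7]
  trivial

end Cfsg.Agent.H946.DK
end

-- part: H946/DK/Psl
section
/-!
# Simple groups of operators on a plane over a field and `PSL(2, K)` (helper946, for S3679)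

`V` a `K`-space of dimension `2`, `ρ : H → End_K(V)`, `α : H → S` onto a non-abelian simple group, `α h = 1` for
`ρ h = 1`, and `ρ h` is a scalar for `α h = 1`.  Then `S` embeds in `PSL(2, K)` (`exists_psl`), and if the image is
`PSL(2, K)` and `ξ ∈ K`, `ξ² ≠ 1`, then a biadditive function on `V` invariant under `ρ H` and `ξ` is `0` (`form_zero`).
-/

set_option autoImplicit false

namespace Cfsg.Agent.H946.DK

open Module Matrix
open scoped commutatorElement

section psl

variable {K : Type*} [Field K] {V : Type*} [AddCommGroup V] [Module K V] {H S : Type*} [Group H] [Group S]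

/-- the matrices of the elements of the derived group -/
noncomputable def toSL (b : Basis (Fin 2) K V) (ρ : H →* Module.End K V) :
    ↥(commutator H) →* SpecialLinearGroup (Fin 2) K where
  toFun h := ⟨LinearMap.toMatrix b b (ρ h), by
    rw [LinearMap.det_toMatrix]
    have h1 := Abelianization.commutator_subset_ker (((LinearMap.det : Module.End K V →* K).comp ρ).toHomUnits) h.2
    exact congrArg Units.val (MonoidHom.mem_ker.1 h1)⟩
  map_one' := by
    apply Subtype.ext
    show LinearMap.toMatrix b b (ρ 1) = 1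
    rw [map_one]
    exact LinearMap.toMatrix_one b
  map_mul' := fun g h => by
    apply Subtype.ext
    show LinearMap.toMatrix b b (ρ (g * h)) = LinearMap.toMatrix b b (ρ g) * LinearMap.toMatrix b b (ρ h)
    rw [map_mul]
    exact LinearMap.toMatrix_mul b _ _

theorem coe_toSL (b : Basis (Fin 2) K V) (ρ : H →* Module.End K V) (h : ↥(commutator H)) :
    ((toSL b ρ h : SpecialLinearGroup (Fin 2) K) : Matrix (Fin 2) (Fin 2) K) = LinearMap.toMatrix b b (ρ h) := rfl

theorem toLin_toSL (b : Basis (Fin 2) K V) (ρ : H →* Module.End K V) (h : ↥(commutator H)) :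
    Matrix.toLin b b (toSL b ρ h : SpecialLinearGroup (Fin 2) K) = ρ h := by
  rw [coe_toSL]
  exact Matrix.toLin_toMatrix b b _

theorem scalar_iff (b : Basis (Fin 2) K V) (ρ : H →* Module.End K V) (h : ↥(commutator H)) :
    toSL b ρ h ∈ Subgroup.center (SpecialLinearGroup (Fin 2) K) ↔ ∃ c : K, ρ h = c • 1 := by
  rw [Matrix.SpecialLinearGroup.mem_center_iff]
  constructor
  · rintro ⟨c, -, hc⟩
    refine ⟨c, ?_⟩
    rw [← toLin_toSL b ρ h, ← hc]
    apply (LinearMap.toMatrix b b).injective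
    rw [LinearMap.toMatrix_toLin, map_smul, LinearMap.toMatrix_one]
    ext i j
    simp [Matrix.scalar_apply, Matrix.diagonal, Matrix.one_apply, Matrix.smul_apply]
  · rintro ⟨c, hc⟩
    have h1 : ((toSL b ρ h : SpecialLinearGroup (Fin 2) K) : Matrix (Fin 2) (Fin 2) K) = Matrix.scalar (Fin 2) c := by
      rw [coe_toSL, hc, map_smul, LinearMap.toMatrix_one]
      ext i j
      simp [Matrix.scalar_apply, Matrix.diagonal, Matrix.one_apply, Matrix.smul_apply]
    refine ⟨c, ?_, h1.symm⟩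
    have h2 := (toSL b ρ h).det_coe
    rw [h1, Matrix.scalar_apply, Matrix.det_diagonal, Finset.prod_const, Finset.card_univ] at h2
    exact h2

/-- **embedding in `PSL(2, K)`** -/
theorem exists_psl [IsSimpleGroup S] (hna : ¬ ∀ a b : S, a * b = b * a) (b : Basis (Fin 2) K V)
    (ρ : H →* Module.End K V) (α : H →* S) (hα : Function.Surjective α)
    (h1 : ∀ h, ρ h = 1 → α h = 1) (h2 : ∀ h, α h = 1 → ∃ c : K, ρ h = c • 1) :
    ∃ ψ : S →* ProjectiveSpecialLinearGroup (Fin 2) K, Function.Injective ψ ∧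
      ∀ A : SpecialLinearGroup (Fin 2) K, (QuotientGroup.mk A : ProjectiveSpecialLinearGroup (Fin 2) K) ∈ ψ.range →
        ∃ (h : H) (c : K), c ^ 2 = 1 ∧ Matrix.toLin b b A = c • ρ h := by
  -- the derived group
  have hcen : ∀ s : S, (∀ t : S, s * t = t * s) → s = 1 := by
    intro s hs
    have hc : Subgroup.center S = ⊥ := by
      rcases (inferInstance : (Subgroup.center S).Normal).eq_bot_or_eq_top with h | h
      · exact h
      · exact absurd (fun a c => (Subgroup.mem_center_iff.1 (h ▸ Subgroup.mem_top c : c ∈ Subgroup.center S) a)) hna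
    rw [← Subgroup.mem_bot, ← hc, Subgroup.mem_center_iff]
    exact fun t => (hs t).symm
  have hcomm : commutator S = ⊤ := by
    rcases (inferInstance : (commutator S).Normal).eq_bot_or_eq_top with h | h
    · exfalso
      apply hna
      intro a c
      have h3 : ⁅a, c⁆ ∈ commutator S := Subgroup.commutator_mem_commutator (Subgroup.mem_top _) (Subgroup.mem_top _)
      rw [h, Subgroup.mem_bot, commutatorElement_eq_one_iff_mul_comm] at h3
      exact h3
    · exact h
  set D := commutator H with hD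
  set β : ↥D →* S := α.comp D.subtype with hβ
  have hβs : Function.Surjective β := by
    intro s
    have h3 : s ∈ commutator S := by rw [hcomm]; trivial
    have h4 : commutator S = D.map α := by
      rw [hD, commutator_def, commutator_def, Subgroup.map_commutator, ← MonoidHom.range_eq_map,
        MonoidHom.range_eq_top.2 hα]
    rw [h4] at h3
    obtain ⟨d, hd, rfl⟩ := h3
    exact ⟨⟨d, hd⟩, rfl⟩
  set ψ₀ : ↥D →* ProjectiveSpecialLinearGroup (Fin 2) K :=
    (QuotientGroup.mk' (Subgroup.center (SpecialLinearGroup (Fin 2) K))).comp (toSL b ρ) with hψ₀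
  have hker : ∀ d : ↥D, β d = 1 ↔ ψ₀ d = 1 := by
    intro d
    have e1 : ψ₀ d = 1 ↔ toSL b ρ d ∈ Subgroup.center (SpecialLinearGroup (Fin 2) K) :=
      QuotientGroup.eq_one_iff (toSL b ρ d)
    rw [e1, scalar_iff]
    constructor
    · exact fun h => h2 _ h
    · rintro ⟨c, hc⟩
      apply hcen
      intro t
      obtain ⟨h, rfl⟩ := hα t
      have h3 : ρ ((d : H) * h * (d : H)⁻¹ * h⁻¹) = 1 := by
        have h4 : Commute (ρ d) (ρ h) := by
          rw [hc]
          exact (Commute.one_left _).smul_left c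
        have h5 : (d : H) * h * (d : H)⁻¹ * h⁻¹ = ((d : H) * h) * (h * d)⁻¹ := by group
        rw [h5, map_mul, map_mul, h4.eq, ← map_mul, ← map_mul, mul_inv_cancel, map_one]
      have h6 := h1 _ h3
      rw [map_mul, map_mul, map_mul, map_inv, map_inv, mul_inv_eq_one, mul_inv_eq_iff_eq_mul] at h6
      exact h6
  have hle : β.ker ≤ ψ₀.ker := fun d hd => MonoidHom.mem_ker.2 ((hker d).1 (MonoidHom.mem_ker.1 hd))
  obtain ⟨ψ, hψ⟩ : ∃ ψ : S →* ProjectiveSpecialLinearGroup (Fin 2) K, ∀ d, ψ (β d) = ψ₀ d := by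
    refine ⟨β.liftOfRightInverse _ (Function.rightInverse_surjInv hβs) ⟨ψ₀, hle⟩, fun d => ?_⟩
    exact MonoidHom.liftOfRightInverse_comp_apply β _ (Function.rightInverse_surjInv hβs) ⟨ψ₀, hle⟩ d
  refine ⟨ψ, ?_, ?_⟩
  · rw [injective_iff_map_eq_one]
    intro s hs
    obtain ⟨d, rfl⟩ := hβs s
    rw [hψ] at hs
    exact (hker d).2 hs
  · rintro A ⟨s, hs⟩
    obtain ⟨d, rfl⟩ := hβs s
    rw [hψ] at hs
    have h3 : (QuotientGroup.mk (toSL b ρ d) : ProjectiveSpecialLinearGroup (Fin 2) K) = QuotientGroup.mk A := hs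
    rw [QuotientGroup.eq, Matrix.SpecialLinearGroup.mem_center_iff] at h3
    obtain ⟨c, hc, hcA⟩ := h3
    rw [Fintype.card_fin] at hc
    refine ⟨d, c, hc, ?_⟩
    have h4 : A = toSL b ρ d * ((toSL b ρ d)⁻¹ * A) := by group
    have h5 : (A : Matrix (Fin 2) (Fin 2) K) = (toSL b ρ d : SpecialLinearGroup (Fin 2) K) *
        Matrix.scalar (Fin 2) c := by
      rw [hcA]
      exact congrArg Subtype.val h4
    rw [h5, ← toLin_toSL b ρ d]
    apply (LinearMap.toMatrix b b).injective
    rw [LinearMap.toMatrix_toLin, map_smul, LinearMap.toMatrix_toLin]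
    ext i j
    simp [Matrix.scalar_apply, Matrix.smul_apply, Matrix.mul_diagonal, mul_comm]

end psl

section form

variable {K : Type*} [Field K] {V : Type*} [AddCommGroup V] [Module K V] {C : Type*} [AddCommGroup C]
  {B : V → V → C} (hl : ∀ u v w, B (u + v) w = B u w + B v w) (hr : ∀ u v w, B w (u + v) = B w u + B w v)

include hl in
theorem B_zero_left (w : V) : B 0 w = 0 := by
  have := hl 0 0 w
  rw [add_zero] at this
  exact left_eq_add.1 this

include hr in
theorem B_zero_right (w : V) : B w 0 = 0 := by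
  have := hr 0 0 w
  rw [add_zero] at this
  exact left_eq_add.1 this

include hl in
theorem B_neg_left (u w : V) : B (-u) w = - B u w := by
  have := hl u (-u) w
  rw [add_neg_cancel, B_zero_left hl] at this
  exact (neg_eq_of_add_eq_zero_right this.symm).symm

include hr in
theorem B_neg_right (u w : V) : B w (-u) = - B w u := by
  have := hr u (-u) w
  rw [add_neg_cancel, B_zero_right hr] at this
  exact (neg_eq_of_add_eq_zero_right this.symm).symm

include hl hr in
/-- **an invariant form is zero** -/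
theorem form_zero (b : Basis (Fin 2) K V) (hA : ∀ A : SpecialLinearGroup (Fin 2) K, ∀ u v,
      B (Matrix.toLin b b A u) (Matrix.toLin b b A v) = B u v) {ξ : K} (hξ0 : ξ ≠ 0) (hξ : ξ ^ 2 ≠ 1)
    (hx : ∀ u v, B (ξ • u) (ξ • v) = B u v) (u v : V) : B u v = 0 := by
  have hLin : ∀ (A : SpecialLinearGroup (Fin 2) K) (i : Fin 2) (a : K), Matrix.toLin b b A (a • b i) =
      (A 0 i * a) • b 0 + (A 1 i * a) • b 1 := by
    intro A i a
    rw [map_smul, Matrix.toLin_self, Fin.sum_univ_two, smul_add, smul_smul, smul_smul, mul_comm a, mul_comm a]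
  have hξ1 : ξ ^ 2 - 1 ≠ 0 := sub_ne_zero.2 hξ
  let D : SpecialLinearGroup (Fin 2) K := ⟨!![ξ, 0; 0, ξ⁻¹], by simp [Matrix.det_fin_two, hξ0]⟩
  have hD0 : ∀ a : K, Matrix.toLin b b D (a • b 0) = (ξ * a) • b 0 := by
    intro a
    rw [hLin]
    simp only [D, _root_.Fin.isValue, _root_.Matrix.of_apply, _root_.Matrix.cons_val', _root_.Matrix.cons_val_zero, _root_.Matrix.cons_val_fin_one, _root_.Matrix.cons_val_one, _root_.MulZeroClass.zero_mul, _root_.zero_smul, _root_.add_zero]
  have hD1 : ∀ a : K, Matrix.toLin b b D (a • b 1) = (ξ⁻¹ * a) • b 1 := by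
    intro a
    rw [hLin]
    simp only [D, _root_.Fin.isValue, _root_.Matrix.of_apply, _root_.Matrix.cons_val', _root_.Matrix.cons_val_one, _root_.Matrix.cons_val_fin_one, _root_.Matrix.cons_val_zero, _root_.MulZeroClass.zero_mul, _root_.zero_smul, _root_.zero_add]
  have h01 : ∀ a c : K, B (a • b 0) (c • b 1) = 0 := by
    intro a c
    have key : ∀ a' : K, B ((ξ ^ 2 * a') • b 0) (c • b 1) = B (a' • b 0) (c • b 1) := by
      intro a'
      rw [← hA D (a' • b 0) (c • b 1), hD0, hD1, ← hx ((ξ * a') • b 0), smul_smul, smul_smul]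
      congr 2
      · ring
      · rw [← mul_assoc, mul_inv_cancel₀ hξ0, one_mul]
    have h1 := key ((ξ ^ 2 - 1)⁻¹ * a)
    have h2 : (ξ ^ 2 * ((ξ ^ 2 - 1)⁻¹ * a)) • b 0 = a • b 0 + ((ξ ^ 2 - 1)⁻¹ * a) • b 0 := by
      rw [← add_smul]
      congr 1
      field_simp
      ring
    rw [h2, hl] at h1
    exact add_eq_right.1 h1
  have h10 : ∀ a c : K, B (c • b 1) (a • b 0) = 0 := by
    intro a c
    have key : ∀ a' : K, B (c • b 1) ((ξ ^ 2 * a') • b 0) = B (c • b 1) (a' • b 0) := by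
      intro a'
      rw [← hA D (c • b 1) (a' • b 0), hD0, hD1, ← hx ((ξ⁻¹ * c) • b 1), smul_smul, smul_smul]
      congr 2
      · rw [← mul_assoc, mul_inv_cancel₀ hξ0, one_mul]
      · ring
    have h1 := key ((ξ ^ 2 - 1)⁻¹ * a)
    have h2 : (ξ ^ 2 * ((ξ ^ 2 - 1)⁻¹ * a)) • b 0 = a • b 0 + ((ξ ^ 2 - 1)⁻¹ * a) • b 0 := by
      rw [← add_smul]
      congr 1
      field_simp
      ring
    rw [h2, hr] at h1
    exact add_eq_right.1 h1
  let U : SpecialLinearGroup (Fin 2) K := ⟨!![1, 0; 1, 1], by simp [Matrix.det_fin_two]⟩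
  let U' : SpecialLinearGroup (Fin 2) K := ⟨!![1, 1; 0, 1], by simp [Matrix.det_fin_two]⟩
  have h11 : ∀ a c : K, B (a • b 1) (c • b 1) = 0 := by
    intro a c
    have h1 := hA U (a • b 0) (c • b 0)
    have hU : ∀ a : K, Matrix.toLin b b U (a • b 0) = a • b 0 + a • b 1 := by
      intro a
      rw [hLin]
      simp only [U, _root_.Fin.isValue, _root_.Matrix.of_apply, _root_.Matrix.cons_val', _root_.Matrix.cons_val_zero, _root_.Matrix.cons_val_fin_one, _root_.one_mul, _root_.Matrix.cons_val_one]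
    rw [hU, hU, hl, hr, hr, h01, h10, add_zero, zero_add] at h1
    exact add_eq_left.1 h1
  have h00 : ∀ a c : K, B (a • b 0) (c • b 0) = 0 := by
    intro a c
    have h1 := hA U' (a • b 1) (c • b 1)
    have hU : ∀ a : K, Matrix.toLin b b U' (a • b 1) = a • b 0 + a • b 1 := by
      intro a
      rw [hLin]
      simp only [U', _root_.Fin.isValue, _root_.Matrix.of_apply, _root_.Matrix.cons_val', _root_.Matrix.cons_val_one, _root_.Matrix.cons_val_fin_one, _root_.Matrix.cons_val_zero, _root_.one_mul]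
    rw [hU, hU, hl, hr, hr, h01, h10, add_zero, zero_add] at h1
    exact add_eq_right.1 h1
  rw [← b.sum_repr u, ← b.sum_repr v, Fin.sum_univ_two, Fin.sum_univ_two, hl, hr, hr, h00, h01, h10, h11]
  simp

end form

end Cfsg.Agent.H946.DK
end

-- part: H946/DK/Plane
section
/-!
# The plane over `F[x]` (helper946, for S3679)

`exists_plane` : `x` fixed point free of odd prime order `r` on `V`, `dim V = 2 n`, `n = ord_r(q)`, `H` a group of
operators commuting with `x`, `S` a non-abelian simple quotient of `H` with scalar kernel: `S` embeds in `PSL(2, K)`,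
`|K| = q ^ n`, and the image is proper if there is a non-zero biadditive function invariant under `x` and `H`.
-/

set_option autoImplicit false

namespace Cfsg.Agent.H946.DK

open Module Polynomial Cfsg.Agent.H951

variable {F : Type*} [Field F] {V : Type*} [AddCommGroup V] [Module F V] {x : Module.End F V}

theorem aeval_eq_zero_of_mem {g : F[X]} (hg : aeval x g = 0) (P : F[X]) (hP : P ∈ Ideal.span {g}) :
    aeval x P = 0 := by
  obtain ⟨c, rfl⟩ := Ideal.mem_span_singleton'.1 hP
  rw [map_mul, hg, mul_zero]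

/-- the action of `F[X] / (g)` -/
noncomputable def act {g : F[X]} (hg : aeval x g = 0) : AdjoinRoot g →+* Module.End F V :=
  Ideal.Quotient.lift (Ideal.span {g}) (aeval x : F[X] →ₐ[F] Module.End F V).toRingHom
    (aeval_eq_zero_of_mem hg)

theorem act_mk {g : F[X]} (hg : aeval x g = 0) (P : F[X]) : act hg (AdjoinRoot.mk g P) = aeval x P := rfl

theorem act_of {g : F[X]} (hg : aeval x g = 0) (c : F) : act hg (algebraMap F (AdjoinRoot g) c) = algebraMap F _ c := by
  have h : algebraMap F (AdjoinRoot g) c = AdjoinRoot.mk g (C c) := rfl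
  rw [h, act_mk, aeval_C]

theorem exists_plane [FiniteDimensional F V] [Fintype F] {r n : ℕ} [hrp : Fact r.Prime] (hr2 : r ≠ 2) (hr : (r : F) ≠ 0)
    (hx : x ^ r = 1) (hf : fx x = ⊥) (hn : orderOf (Fintype.card F : ZMod r) = n) (hn0 : 0 < n)
    (hV : finrank F V = 2 * n) {H S : Type*} [Group H] [Group S] [IsSimpleGroup S] (hna : ¬ ∀ a b : S, a * b = b * a)
    (ρ : H →* Module.End F V) (hρx : ∀ h, Commute (ρ h) x) (α : H →* S) (hα : Function.Surjective α)
    (h1 : ∀ h, ρ h = 1 → α h = 1) (h2 : ∀ h, α h = 1 → ∃ c : F, ρ h = c • 1)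
    {C : Type*} [AddCommGroup C] {B : V → V → C} (hl : ∀ u v w, B (u + v) w = B u w + B v w)
    (hr' : ∀ u v w, B w (u + v) = B w u + B w v) (hB : ∃ u v, B u v ≠ 0)
    (hBρ : ∀ h u v, B (ρ h u) (ρ h v) = B u v) (hBx : ∀ u v, B (x u) (x v) = B u v) :
    ∃ g : F[X], ∃ _ : Fact (Irreducible g), ∃ _ : Fintype (AdjoinRoot g),
      Fintype.card (AdjoinRoot g) = Fintype.card F ^ n ∧
      ∃ ψ : S →* Matrix.ProjectiveSpecialLinearGroup (Fin 2) (AdjoinRoot g), Function.Injective ψ ∧ ψ.range ≠ ⊤ := by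
  rcases cyclic_or_homog hr hx hf hn hn0 hV with ⟨v, hv⟩ | ⟨g, hg, hgn, hxg⟩
  · exfalso
    apply hna
    intro a b
    obtain ⟨a, rfl⟩ := hα a
    obtain ⟨b, rfl⟩ := hα b
    have h3 : Commute (ρ a) (ρ b) := commute_of_cyclic hv (hρx a) (hρx b)
    have h4 : ρ ((a * b) * (b * a)⁻¹) = 1 := by
      rw [map_mul, map_mul, h3.eq, ← map_mul, ← map_mul, mul_inv_cancel, map_one]
    have h5 := h1 _ h4
    rw [map_mul, map_inv, mul_inv_eq_one, map_mul, map_mul] at h5
    exact h5
  have hgf : Fact (Irreducible g) := ⟨hg⟩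
  have hfin : Module.Finite F (AdjoinRoot g) := (AdjoinRoot.powerBasis hg.ne_zero).finite
  have hfK : Finite (AdjoinRoot g) := Module.finite_of_finite F
  letI : Fintype (AdjoinRoot g) := Fintype.ofFinite _
  have hdim : finrank F (AdjoinRoot g) = n := by
    rw [(AdjoinRoot.powerBasis hg.ne_zero).finrank, AdjoinRoot.powerBasis_dim, hgn]
  refine ⟨g, hgf, inferInstance, ?_, ?_⟩
  · rw [Module.card_eq_pow_finrank (K := F) (V := AdjoinRoot g), hdim]
  letI : Module (AdjoinRoot g) V := Module.compHom V (act hxg)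
  have hsmul : ∀ (P : F[X]) (v : V), (AdjoinRoot.mk g P) • v = aeval x P v := fun P v => rfl
  have htower : IsScalarTower F (AdjoinRoot g) V := by
    refine ⟨fun c k v => ?_⟩
    show act hxg (c • k) v = c • act hxg k v
    rw [Algebra.smul_def, map_mul, act_of, Module.End.mul_apply, Module.algebraMap_end_apply]
  have hK2 : finrank (AdjoinRoot g) V = 2 := by
    have h3 := Module.finrank_mul_finrank F (AdjoinRoot g) V
    rw [hdim, hV, mul_comm 2] at h3
    exact Nat.eq_of_mul_eq_mul_left hn0 h3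
  have hfinK : Module.Finite (AdjoinRoot g) V := Module.finite_of_finrank_pos (by rw [hK2]; norm_num)
  let b : Basis (Fin 2) (AdjoinRoot g) V := Module.finBasisOfFinrankEq _ _ hK2
  let ρK : H →* Module.End (AdjoinRoot g) V :=
    { toFun := fun h =>
        { toFun := fun v => ρ h v
          map_add' := fun u v => map_add _ _ _
          map_smul' := fun k v => by
            obtain ⟨P, rfl⟩ := AdjoinRoot.mk_surjective k
            exact aeval_comm (hρx h) P v }
      map_one' := LinearMap.ext fun v => by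
        show ρ 1 v = v
        rw [map_one]; rfl
      map_mul' := fun a b => LinearMap.ext fun v => by
        show ρ (a * b) v = ρ a (ρ b v)
        rw [map_mul]; rfl }
  have hρK : ∀ h v, ρK h v = ρ h v := fun h v => rfl
  obtain ⟨ψ, hψ, hψ2⟩ := exists_psl hna b ρK α hα
    (fun h hh => h1 h (LinearMap.ext fun v => by
      rw [← hρK, hh]; rfl))
    (fun h hh => by
      obtain ⟨c, hc⟩ := h2 h hh
      refine ⟨AdjoinRoot.mk g (Polynomial.C c), LinearMap.ext fun v => ?_⟩
      show ρ h v = AdjoinRoot.mk g (Polynomial.C c) • v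
      rw [hsmul, aeval_C, hc]; rfl)
  refine ⟨ψ, hψ, fun htop => ?_⟩
  obtain ⟨u, v, huv⟩ := hB
  apply huv
  have hξ : ∀ v : V, AdjoinRoot.root g • v = x v := fun v => by
    show AdjoinRoot.mk g X • v = x v
    rw [hsmul, aeval_X]
  have hnt : Nontrivial V := by
    rw [← Module.finrank_pos_iff (R := F)]
    omega
  obtain ⟨w, hw⟩ := exists_ne (0 : V)
  have hxw : ∀ v : V, x v = v → v = 0 := fun v hv => by
    rw [← Submodule.mem_bot F, ← hf]
    exact mem_fx.2 hv
  refine form_zero hl hr' b ?_ (ξ := AdjoinRoot.root g) ?_ ?_ (fun u v => by rw [hξ, hξ, hBx]) u v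
  · intro A u v
    obtain ⟨h, c, hc, hA⟩ := hψ2 A (by rw [htop]; trivial)
    rw [hA, LinearMap.smul_apply, LinearMap.smul_apply]
    rcases mul_self_eq_one_iff.1 ((pow_two c).symm.trans hc) with rfl | rfl
    · rw [one_smul, one_smul]
      exact hBρ h u v
    · rw [neg_smul, neg_smul, one_smul, one_smul, B_neg_left hl, B_neg_right hr', neg_neg]
      exact hBρ h u v
  · intro h0
    apply hw
    have h3 : x w = 0 := by rw [← hξ, h0, zero_smul]
    have h4 : (x ^ r) w = 0 := by
      obtain ⟨k, hk⟩ := Nat.exists_eq_succ_of_ne_zero hrp.out.ne_zero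
      rw [hk, pow_succ, Module.End.mul_apply, h3, map_zero]
    rwa [hx] at h4
  · intro h0
    apply hw
    apply hxw
    have h3 : ∀ v, (x ^ 2) v = v := fun v => by
      rw [pow_two, Module.End.mul_apply, ← hξ, ← hξ, smul_smul, ← pow_two, h0, one_smul]
    obtain ⟨k, hk⟩ := hrp.out.odd_of_ne_two hr2
    have h4 : (x ^ r) w = w := by rw [hx]; rfl
    rw [hk, pow_succ, Module.End.mul_apply, pow_mul] at h4
    have h5 : ∀ (j : ℕ) v, ((x ^ 2) ^ j) v = v := by
      intro j
      induction j with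
      | zero => intro v; rfl
      | succ j ih => intro v; rw [pow_succ, Module.End.mul_apply, h3, ih]
    rwa [h5] at h4

end Cfsg.Agent.H946.DK
end

-- part: H946/DK/Main
section
/-!
# Simple groups commuting with an element of order `r`, `ord_r(q) = n`, in dimension `2 n`, `2 n + 1`
(helper946, DK-lin for S3679)

`G` a group of operators of `V` preserving a nondegenerate biadditive `B`, `π : G → T` onto with scalar central kernel of
order prime to `r`, `g ∈ G` of order `r` with `dim [V, g] = 2 n`, `dim V ≤ 2 n + 1`, `r` a primitive prime of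
`p ^ (n f) - 1`, `|F| = p ^ f`; a non-abelian simple group `S ≤ T` commuting with `π g`, `r ∣ |S|`, is `PSL(2, E)`,
`|E| ^ 2 = p ^ (n f)`, or `A₅`, `r = 5` (`dk_lin`).
-/

set_option autoImplicit false

namespace Cfsg.Agent.H946.DK

open Module Polynomial Cfsg.Agent.H951 Cfsg.Agent.H436

/-- the order of `q = p ^ f` modulo a primitive prime of `p ^ (n f) - 1` -/
theorem orderOf_of_prim {p f n r : ℕ} (hp : 2 ≤ p) (hf : 0 < f) (h : Prim p (n * f) r) :
    orderOf ((p ^ f : ℕ) : ZMod r) = n := by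
  have key : ∀ k : ℕ, ((p ^ f : ℕ) : ZMod r) ^ k = 1 ↔ n ∣ k := by
    intro k
    have h1 : 1 ≤ p ^ (k * f) := Nat.one_le_pow _ _ (by omega)
    rw [← Nat.cast_pow, ← pow_mul, mul_comm f k]
    rw [← Nat.mul_dvd_mul_iff_right hf, ← h.dvd_iff, ← ZMod.natCast_eq_zero_iff, Nat.cast_sub h1, Nat.cast_one,
      sub_eq_zero]
  apply Nat.dvd_antisymm
  · rw [orderOf_dvd_iff_pow_eq_one, key]
  · rw [← key, pow_orderOf_eq_one]

section comm

variable {G T : Type*} [Group G] [Group T]

/-- lifts of elements commuting with `π g` commute with `g` -/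
theorem comm_lift [Finite G] (π : G →* T) (hK : π.ker ≤ Subgroup.center G) {r : ℕ} (hr : r.Prime)
    (hrK : ¬ r ∣ Nat.card π.ker) {g h : G} (hg : g ^ r = 1) (hc : π h * π g = π g * π h) : h * g = g * h := by
  have h3 : h * g * h⁻¹ * g⁻¹ ∈ π.ker := by
    rw [MonoidHom.mem_ker, map_mul, map_mul, map_mul, map_inv, map_inv, hc]
    group
  have hcen := Subgroup.mem_center_iff.1 (hK h3)
  set c := h * g * h⁻¹ * g⁻¹ with hcdef
  have h4 : h * g * h⁻¹ = c * g := by rw [hcdef]; group
  have h5 : (h * g * h⁻¹) ^ r = 1 := by rw [conj_pow, hg, mul_one, mul_inv_cancel]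
  have h6 : c ^ r = 1 := by
    have hc' : Commute c g := (hcen g).symm
    rw [h4, hc'.mul_pow, hg, mul_one] at h5
    exact h5
  have h7 : c = 1 := by
    have h8 : (⟨c, h3⟩ : π.ker) = 1 := by
      have h9 : orderOf (⟨c, h3⟩ : π.ker) ∣ r := orderOf_dvd_of_pow_eq_one (Subtype.ext h6)
      have h10 : orderOf (⟨c, h3⟩ : π.ker) ∣ Nat.card π.ker := orderOf_dvd_natCard _
      rcases (Nat.dvd_prime hr).1 h9 with h11 | h11
      · exact orderOf_eq_one_iff.1 h11
      · exact absurd (h11 ▸ h10) hrK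
    exact congrArg Subtype.val h8
  rw [hcdef, mul_inv_eq_one, mul_inv_eq_iff_eq_mul] at h7
  exact h7

end comm

/-- **DK-lin** -/
theorem dk_lin {F : Type*} [Field F] [Fintype F] {V : Type*} [AddCommGroup V] [Module F V] [FiniteDimensional F V]
    {p f n r : ℕ} (hp : p.Prime) (hF : Fintype.card F = p ^ f) (hn : 3 ≤ n) (hr : Prim p (n * f) r)
    (hV : finrank F V ≤ 2 * n + 1) {G T : Type*} [Group G] [Group T] [Finite G] (π : G →* T)
    (hπ : Function.Surjective π) (hK : π.ker ≤ Subgroup.center G) (hrK : ¬ r ∣ Nat.card π.ker)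
    (ρ : G →* Module.End F V) (hρ : Function.Injective ρ) (hsc : ∀ k ∈ π.ker, ∃ c : F, ρ k = c • 1)
    {C : Type*} [AddCommGroup C] {B : V → V → C} (hl : ∀ u v w, B (u + v) w = B u w + B v w)
    (hr' : ∀ u v w, B w (u + v) = B w u + B w v) (hnd : ∀ u, u ≠ 0 → ∃ v, B u v ≠ 0)
    (hBρ : ∀ g u v, B (ρ g u) (ρ g v) = B u v)
    {g : G} (hg : g ^ r = 1) (hgd : finrank F ↥(cm (ρ g)) = 2 * n)
    {S : Type*} [Group S] [Finite S] [IsSimpleGroup S] (hna : ¬ ∀ a b : S, a * b = b * a) (φ : S →* T)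
    (hφ : Function.Injective φ) (hφg : ∀ s, φ s * π g = π g * φ s) (hrS : r ∣ Nat.card S) :
    (∃ (E : Type) (_ : Field E) (_ : Fintype E), Fintype.card E ^ 2 = p ^ (n * f) ∧
      Nonempty (S ≃* Matrix.ProjectiveSpecialLinearGroup (Fin 2) E)) ∨
    (r = 5 ∧ Nonempty (S ≃* alternatingGroup (Fin 5))) := by
  have hf : 0 < f := by
    rcases Nat.eq_zero_or_pos f with h | h
    · exfalso
      rw [h, pow_zero] at hF
      have : 1 < Fintype.card F := Fintype.one_lt_card
      omega
    · exact h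
  have hnf : 3 ≤ n * f := hn.trans (Nat.le_mul_of_pos_right n hf)
  have hrp : Fact r.Prime := ⟨hr.prime⟩
  have hr2 : r ≠ 2 := by
    have := prim_lt hp.two_le hnf hr
    omega
  have hr0 : (r : F) ≠ 0 := by
    intro h
    obtain ⟨l, hl⟩ := CharP.exists F
    obtain ⟨k, hlp, hk⟩ := FiniteField.card F l
    have h1 : l ∣ p ^ f := by
      rw [← hF, hk]
      exact dvd_pow_self l k.2.ne'
    have h2 := (Nat.prime_dvd_prime_iff_eq hlp hp).1 (hlp.dvd_of_dvd_pow h1)
    have h3 : l ∣ r := (CharP.cast_eq_zero_iff F l r).1 h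
    have h4 := (Nat.prime_dvd_prime_iff_eq hlp hr.prime).1 h3
    exact hr.not_dvd (by rw [← h2, h4])
  have hxr : (ρ g) ^ r = 1 := by rw [← map_pow, hg, map_one]
  have hcompl := isCompl_fx_cm hr0 hxr
  have hdim := finrank_fx_add_cm hr0 hxr
  rw [hgd] at hdim
  -- the group
  let H : Subgroup G := φ.range.comap π
  have hHg : ∀ h : H, (h : G) * g = g * h := by
    rintro ⟨h, s, hs⟩
    refine comm_lift π hK hr.prime hrK hg ?_
    rw [← hs]
    exact hφg s
  have hHx : ∀ h : H, Commute (ρ h) (ρ g) := fun h => by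
    show ρ h * ρ g = ρ g * ρ h
    rw [← map_mul, ← map_mul, hHg]
  have hinv : ∀ h : H, Inv (ρ h) (cm (ρ g)) := by
    intro h v hv
    obtain ⟨w, rfl⟩ := mem_cm.1 hv
    refine mem_cm.2 ⟨ρ h w, ?_⟩
    rw [map_sub]
    have : ρ h (ρ g w) = ρ g (ρ h w) := LinearMap.congr_fun (hHx h).eq w
    rw [this]
  let e : S ≃* φ.range := MonoidHom.ofInjective hφ
  let π' : H →* φ.range :=
    { toFun := fun h => ⟨π h, h.2⟩
      map_one' := Subtype.ext (map_one π)
      map_mul' := fun a b => Subtype.ext (map_mul π _ _) }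
  let α : H →* S := e.symm.toMonoidHom.comp π'
  have hα1 : ∀ h : H, φ (α h) = π h := fun h => congrArg Subtype.val (e.apply_symm_apply (π' h))
  have hα : Function.Surjective α := by
    intro s
    obtain ⟨h, hh⟩ := hπ (φ s)
    refine ⟨⟨h, ⟨s, hh.symm⟩⟩, hφ ?_⟩
    rw [hα1]
    exact hh
  -- the restriction to the commutator space
  let ρ' : H →* Module.End F ↥(cm (ρ g)) :=
    { toFun := fun h => (ρ h).restrict (hinv h)
      map_one' := LinearMap.ext fun v => Subtype.ext (by
        show ρ (1 : G) v = v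
        rw [map_one]; rfl)
      map_mul' := fun a b => LinearMap.ext fun v => Subtype.ext (by
        show ρ ((a : G) * b) v = ρ a (ρ b v)
        rw [map_mul]; rfl) }
  have hρ' : ∀ (h : H) (v : ↥(cm (ρ g))), ((ρ' h v : ↥(cm (ρ g))) : V) = ρ h v := fun h v => rfl
  let x : Module.End F ↥(cm (ρ g)) := (ρ g).restrict inv_cm
  have hx : ∀ v : ↥(cm (ρ g)), ((x v : ↥(cm (ρ g))) : V) = ρ g v := fun v => rfl
  have hxp : ∀ (k : ℕ) (v : ↥(cm (ρ g))), (((x ^ k) v : ↥(cm (ρ g))) : V) = ((ρ g) ^ k) v := by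
    intro k
    induction k with
    | zero => intro v; rfl
    | succ k ih => intro v; rw [pow_succ, pow_succ, Module.End.mul_apply, Module.End.mul_apply, ih, hx]
  have hxr' : x ^ r = 1 := LinearMap.ext fun v => Subtype.ext (by rw [hxp, hxr]; rfl)
  have hfx : fx x = ⊥ := by
    rw [eq_bot_iff]
    intro v hv
    have h1 : ρ g v = v := congrArg Subtype.val (mem_fx.1 hv)
    have h2 : (v : V) ∈ fx (ρ g) ⊓ cm (ρ g) := ⟨mem_fx.2 h1, v.2⟩
    rw [hcompl.inf_eq_bot, Submodule.mem_bot] at h2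
    rw [Submodule.mem_bot]
    exact Subtype.ext h2
  have hord : orderOf (Fintype.card F : ZMod r) = n := by
    rw [hF]
    exact orderOf_of_prim hp.two_le hf hr
  -- scalars on the fixed space
  have hinvf : ∀ h : H, ∀ v ∈ fx (ρ g), ρ h v ∈ fx (ρ g) := by
    intro h v hv
    rw [mem_fx] at hv ⊢
    have : ρ g (ρ h v) = ρ h (ρ g v) := LinearMap.congr_fun (hHx h).symm.eq v
    rw [this, hv]
  have hfx1 : ∀ a b : H, ∀ v ∈ fx (ρ g), ρ a (ρ b v) = ρ b (ρ a v) := by
    intro a b v hv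
    by_cases hv0 : v = 0
    · simp only [hv0, _root_.map_zero]
    have h1 : finrank F ↥(fx (ρ g)) = 1 := by
      have h2 : 0 < finrank F ↥(fx (ρ g)) := by
        rw [Module.finrank_pos_iff]
        exact ⟨⟨⟨v, hv⟩, 0, fun h => hv0 (congrArg Subtype.val h)⟩⟩
      omega
    have h3 : ∀ w ∈ fx (ρ g), ∃ c : F, w = c • v := by
      intro w hw
      obtain ⟨c, hc⟩ := (finrank_eq_one_iff_of_nonzero' (⟨v, hv⟩ : ↥(fx (ρ g)))
        (fun h => hv0 (congrArg Subtype.val h))).1 h1 ⟨w, hw⟩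
      exact ⟨c, (congrArg Subtype.val hc).symm⟩
    obtain ⟨c, hc⟩ := h3 _ (hinvf a v hv)
    obtain ⟨d, hd⟩ := h3 _ (hinvf b v hv)
    rw [hc, hd, map_smul, map_smul, hc, hd, smul_smul, smul_smul, mul_comm]
  have hcen : ∀ s : S, (∀ t : S, s * t = t * s) → s = 1 := by
    intro s hs
    have hc : Subgroup.center S = ⊥ := by
      rcases (inferInstance : (Subgroup.center S).Normal).eq_bot_or_eq_top with h | h
      · exact h
      · exact absurd (fun a c => (Subgroup.mem_center_iff.1 (h ▸ Subgroup.mem_top c : c ∈ Subgroup.center S) a)) hna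
    rw [← Subgroup.mem_bot, ← hc, Subgroup.mem_center_iff]
    exact fun t => (hs t).symm
  have h1 : ∀ h : H, ρ' h = 1 → α h = 1 := by
    intro h hh
    apply hcen
    intro t
    obtain ⟨k, rfl⟩ := hα t
    rw [← map_mul, ← map_mul]
    congr 1
    apply Subtype.ext
    apply hρ
    show ρ ((h : G) * k) = ρ ((k : G) * h)
    rw [map_mul, map_mul]
    refine LinearMap.ext fun v => ?_
    have hv : v ∈ fx (ρ g) ⊔ cm (ρ g) := by rw [hcompl.sup_eq_top]; trivial
    obtain ⟨a, ha, b, hb, rfl⟩ := Submodule.mem_sup.1 hv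
    have hid : ∀ w ∈ cm (ρ g), ρ h w = w := fun w hw => by
      have := congrArg Subtype.val (LinearMap.congr_fun hh ⟨w, hw⟩)
      exact this
    rw [map_add, map_add, Module.End.mul_apply, Module.End.mul_apply, Module.End.mul_apply, Module.End.mul_apply,
      hfx1 h k a ha, hid b hb, hid _ (hinv k b hb)]
  have h2 : ∀ h : H, α h = 1 → ∃ c : F, ρ' h = c • 1 := by
    intro h hh
    have h3 : (h : G) ∈ π.ker := by
      rw [MonoidHom.mem_ker, ← hα1, hh, map_one]
    obtain ⟨c, hc⟩ := hsc _ h3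
    refine ⟨c, LinearMap.ext fun v => Subtype.ext ?_⟩
    rw [hρ', hc]
    rfl
  -- the form
  have hB0 : ∀ u ∈ cm (ρ g), ∀ v ∈ fx (ρ g), B u v = 0 := by
    intro u hu v hv
    obtain ⟨w, rfl⟩ := mem_cm.1 hu
    have h3 := hBρ g w v
    rw [mem_fx.1 hv] at h3
    rw [sub_eq_add_neg, hl, B_neg_left hl, h3, add_neg_cancel]
  have hBne : ∃ u v : ↥(cm (ρ g)), B u v ≠ 0 := by
    have hpos : 0 < finrank F ↥(cm (ρ g)) := by omega
    rw [Module.finrank_pos_iff] at hpos
    obtain ⟨u, hu⟩ := exists_ne (0 : ↥(cm (ρ g)))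
    obtain ⟨v, hv⟩ := hnd u (fun h => hu (Subtype.ext h))
    have hv' : v ∈ fx (ρ g) ⊔ cm (ρ g) := by rw [hcompl.sup_eq_top]; trivial
    obtain ⟨a, ha, b, hb, rfl⟩ := Submodule.mem_sup.1 hv'
    refine ⟨u, ⟨b, hb⟩, fun h => hv ?_⟩
    rw [hr', hB0 u u.2 a ha, zero_add]
    exact h
  obtain ⟨q, hq1, hq2, hcard, ψ, hψ, htop⟩ := exists_plane (V := ↥(cm (ρ g))) (x := x) hr2 hr0 hxr' hfx hord
    (by omega) hgd hna ρ' (fun h => LinearMap.ext fun v => Subtype.ext (by
      show ρ h (ρ g v) = ρ g (ρ h v)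
      exact LinearMap.congr_fun (hHx h).eq v)) α hα h1 h2 (C := C) (B := fun u v => B u v)
    (fun u v w => hl _ _ _) (fun u v w => hr' _ _ _) hBne (fun h u v => hBρ h u v) (fun u v => hBρ g u v)
  refine simple_of_prim hp ?_ hnf hr hna ψ hψ htop hrS
  rw [hcard, hF, ← pow_mul, mul_comm]

end Cfsg.Agent.H946.DK
end

private theorem dce_271f9e825580 : _root_.True := by
  try have : _root_.True := by simp only [_root_.Cfsg.Agent.H946.DK.cyc.eq_1]
  exact _root_.True.intro
end

-- part: H953/Cyc/N9a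
section
prune_inst 0x142009607560120000180090a3001c26f2000100000b000028800f0207898c4280420660bef00400108a184468340040001000800040000004000400411a0080108010048008030008000e000000000000000000000000000000000000010004000000000
set_option linter.all false
open scoped Cfsg.Agent.FastGrp

/-!
# Operators commuting with an element of order `r`, `dim [V, x] = 2 n`, `n = ord_r(q)` even, `q` odd (helper953, S3679)

`gamma` : no `Q₈ ∘ Q₈` commutes with `x` : there are no `a b c d` commuting with `x` with `a² = b² = c² = d² = z`, `z² = 1 ≠ z`,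
`a b = z b a`, `c d = z d c`, `c`, `d` commuting with `a`.
-/

set_option autoImplicit false
set_option linter.unusedSectionVars false

namespace Cfsg.Agent.H953.N9

open Module Polynomial Cfsg.Agent.H899.Pt Cfsg.Agent.H946.DK
open Cfsg.Agent.H951 (fx cm Inv mem_fx)

variable {F : Type*} [Field F] [Fintype F] {V : Type*} [AddCommGroup V] [Module F V] [FiniteDimensional F V] {r n : ℕ}

/-- operators commuting with `x` commute on an irreducible invariant subspace -/
theorem comm_on (hr : RD F r n) {x a b : Module.End F V} (hx : x ^ r = 1) {Z : Submodule F V} (hZ : _root_.Cfsg.Agent.H951.Inv x Z)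
    (hd : finrank F Z = n) (hf : Z ⊓ fx x = ⊥) (ha : Commute a x) (hb : Commute b x) (hZa : _root_.Cfsg.Agent.H951.Inv a Z) (hZb : _root_.Cfsg.Agent.H951.Inv b Z) :
    ∀ w ∈ Z, a (b w) = b (a w) := by
  have hn := hr.pos
  have hZ0 : Z ≠ ⊥ := by
    rintro rfl
    rw [finrank_bot] at hd
    omega
  obtain ⟨v, hv, hv0⟩ := (Submodule.ne_bot_iff _).1 hZ0
  have hcle : cyc x v ≤ Z := by
    intro w hw
    obtain ⟨P, rfl⟩ := mem_cyc.1 hw
    exact hZ.aeval P v hv
  have h1 : n ≤ finrank F (cyc x v) := by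
    refine hr.le_finrank hx (inv_cyc v) ?_ ?_
    · rw [eq_bot_iff, ← hf]
      exact inf_le_inf_right _ hcle
    · intro h
      have := self_mem_cyc (x := x) v
      rw [h, Submodule.mem_bot] at this
      exact hv0 this
  have hC : cyc x v = Z := Submodule.eq_of_le_of_finrank_le hcle (by omega)
  intro w hw
  have hmem : ∀ u ∈ Z, ∃ P : F[X], aeval x P v = u := fun u hu => by
    rw [← hC] at hu
    exact mem_cyc.1 hu
  obtain ⟨R, rfl⟩ := hmem w hw
  obtain ⟨P, hP⟩ := hmem _ (hZa v hv)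
  obtain ⟨Q, hQ⟩ := hmem _ (hZb v hv)
  rw [aeval_comm hb, aeval_comm ha, aeval_comm ha, aeval_comm hb, ← hP, ← hQ, aeval_comm ha, aeval_comm hb, ← hP,
    ← hQ, ← Module.End.mul_apply (aeval x Q), ← Module.End.mul_apply (aeval x P), ← map_mul, ← map_mul, mul_comm]

/-- a square root of `-1` in `F[x]` -/
theorem exists_sqrt {x : Module.End F V} (hn : Even n) (hn0 : 0 < n) (h2 : (2 : F) ≠ 0) {g : F[X]}
    (hg : Irreducible g) (hgn : g.natDegree = n) (hxg : aeval x g = 0) :
    ∃ P : F[X], aeval x P * aeval x P = -1 := by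
  have hgf : Fact (Irreducible g) := ⟨hg⟩
  have hfin : Module.Finite F (AdjoinRoot g) := (AdjoinRoot.powerBasis hg.ne_zero).finite
  have hfK : Finite (AdjoinRoot g) := Module.finite_of_finite F
  let _ : Fintype (AdjoinRoot g) := Fintype.ofFinite _
  have hdim : finrank F (AdjoinRoot g) = n := by
    rw [(AdjoinRoot.powerBasis hg.ne_zero).finrank, AdjoinRoot.powerBasis_dim, hgn]
  have hcard : Fintype.card (AdjoinRoot g) = Fintype.card F ^ n := by
    rw [Module.card_eq_pow_finrank (K := F) (V := AdjoinRoot g), hdim]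
  have hodd : Odd (Fintype.card F) := Nat.odd_iff.2 (FiniteField.odd_card_of_char_ne_two (fun h => h2 (by
    have : CharP F 2 := ringChar.of_eq h
    exact_mod_cast CharP.cast_eq_zero F 2)))
  have h4 : Fintype.card (AdjoinRoot g) % 4 ≠ 3 := by
    rw [hcard]
    obtain ⟨k, rfl⟩ := hn
    have h5 : (Fintype.card F) ^ 2 % 4 = 1 := by
      rw [Nat.pow_mod]
      have : Fintype.card F % 4 = 1 ∨ Fintype.card F % 4 = 3 := by
        obtain ⟨j, hj⟩ := hodd
        omega
      rcases this with h | h <;> rw [h]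
    rw [← two_mul, pow_mul, Nat.pow_mod, h5, one_pow]
    norm_num
  obtain ⟨y, hy⟩ := FiniteField.isSquare_neg_one_iff.2 h4
  obtain ⟨P, rfl⟩ := AdjoinRoot.mk_surjective y
  refine ⟨P, ?_⟩
  have h5 : AdjoinRoot.mk g (P * P + 1) = 0 := by
    rw [map_add, map_mul, map_one, ← hy]
    ring
  rw [AdjoinRoot.mk_eq_zero] at h5
  obtain ⟨c, hc⟩ := h5
  have h6 : aeval x (P * P + 1) = 0 := by rw [hc, map_mul, hxg, zero_mul]
  rw [map_add, map_mul, map_one] at h6
  exact eq_neg_of_add_eq_zero_left h6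

theorem commute_aeval {x a : Module.End F V} (ha : Commute a x) (P : F[X]) : Commute a (aeval x P) :=
  LinearMap.ext fun v => aeval_comm ha P v

/-- the homogeneous case -/
theorem gammaZ (hr : RD F r n) (hn : Even n) (h2 : (2 : F) ≠ 0) (hV : finrank F V = 2 * n)
    {x a b c d : Module.End F V} (hx : x ^ r = 1) (hf : fx x = ⊥) (hax : Commute a x) (hbx : Commute b x)
    (hcx : Commute c x) (hdx : Commute d x) (ha : a * a = -1) (hb : b * b = -1) (hc : c * c = -1) (hd : d * d = -1)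
    (hab : a * b = -(b * a)) (hcd : c * d = -(d * c)) (hac : Commute a c) (had : Commute a d) : False := by
  have hn0 := hr.pos
  have hnt : Nontrivial V := by
    rw [← Module.finrank_pos_iff (R := F)]
    omega
  have hrf := Fact.mk hr.prime
  have hneg : ∀ v : V, v = -v → v = 0 := by
    intro v hv
    have h3 : (2 : F) • v = 0 := by
      rw [two_smul]
      nth_rewrite 2 [hv]
      rw [add_neg_cancel]
    exact (smul_eq_zero.1 h3).resolve_left h2
  rcases cyclic_or_homog hr.ne0 hx hf hr.ord hn0 hV with ⟨v, hv⟩ | ⟨g, hg, hgn, hxg⟩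
  · have h3 : Commute a b := commute_of_cyclic hv hax hbx
    obtain ⟨w, hw⟩ := exists_ne (0 : V)
    have h4 : b (a w) = 0 := hneg _ (by
      have h5 : (a * b) w = -(b * a) w := by rw [hab]; rfl
      rw [h3.eq] at h5
      exact h5)
    apply hw
    have h5 : (a * (b * b) * a) w = 0 := by
      show a (b (b (a w))) = 0
      rw [h4, map_zero, map_zero]
    rw [hb, mul_neg, mul_one, neg_mul, ha, neg_neg] at h5
    exact h5
  · obtain ⟨P, hP⟩ := exists_sqrt hn hn0 h2 hg hgn hxg
    obtain ⟨i, hi⟩ : ∃ i, i = aeval x P := ⟨_, rfl⟩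
    rw [← hi] at hP
    have hix : ∀ {e : Module.End F V}, Commute e x → Commute e i := fun he => by
      rw [hi]
      exact commute_aeval he P
    have app : ∀ {e f : Module.End F V}, Commute e f → ∀ v, e (f v) = f (e v) := fun h v =>
      LinearMap.congr_fun h.eq v
    have hii : ∀ v, i (i v) = -v := fun v => LinearMap.congr_fun hP v
    have haa : ∀ v, a (a v) = -v := fun v => LinearMap.congr_fun ha v
    have hbb : ∀ v, b (b v) = -v := fun v => LinearMap.congr_fun hb v
    have hab' : ∀ v, a (b v) = -(b (a v)) := fun v => LinearMap.congr_fun hab v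
    -- the eigenspaces
    let W : Submodule F V := LinearMap.ker (a - i)
    let W' : Submodule F V := LinearMap.ker (a + i)
    have hW : ∀ v, v ∈ W ↔ a v = i v := fun v => by
      rw [LinearMap.mem_ker, LinearMap.sub_apply, sub_eq_zero]
    have hW' : ∀ v, v ∈ W' ↔ a v = -(i v) := fun v => by
      rw [LinearMap.mem_ker, LinearMap.add_apply, add_eq_zero_iff_eq_neg]
    have hbinj : Function.Injective b := fun u v huv => by
      have := congrArg b huv
      rw [hbb, hbb] at this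
      exact neg_injective this
    have hle : ∀ {A B : Submodule F V}, (∀ v ∈ A, b v ∈ B) → finrank F A ≤ finrank F B := by
      intro A B h
      refine LinearMap.finrank_le_finrank_of_injective (f := b.restrict h) fun u v huv => ?_
      exact Subtype.ext (hbinj (congrArg Subtype.val huv))
    have h3 : finrank F W ≤ finrank F W' := hle fun v hv => by
      rw [hW'] 
      rw [hW] at hv
      rw [hab', hv, app (hix hbx)]
    have h4 : finrank F W' ≤ finrank F W := hle fun v hv => by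
      rw [hW]
      rw [hW'] at hv
      rw [hab', hv, map_neg, neg_neg, app (hix hbx)]
    have hinf : W ⊓ W' = ⊥ := by
      rw [eq_bot_iff]
      rintro v ⟨hv, hv'⟩
      rw [SetLike.mem_coe, hW] at hv
      rw [SetLike.mem_coe, hW'] at hv'
      have h5 := hneg _ (hv.symm.trans hv')
      rw [Submodule.mem_bot, ← neg_eq_zero, ← hii, h5, map_zero]
    have hsup : W ⊔ W' = ⊤ := by
      rw [eq_top_iff]
      intro v _
      have h5 : v - a (i v) ∈ W := by
        rw [hW, map_sub, map_sub, haa, ← app (hix hax), hii, map_neg]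
        abel
      have h6 : v + a (i v) ∈ W' := by
        rw [hW', map_add, map_add, haa, ← app (hix hax), hii, map_neg]
        abel
      have h7 : v = (2 : F)⁻¹ • ((v - a (i v)) + (v + a (i v))) := by
        rw [show (v - a (i v)) + (v + a (i v)) = (2 : F) • v by rw [two_smul]; abel, smul_smul,
          inv_mul_cancel₀ h2, one_smul]
      rw [h7]
      exact Submodule.smul_mem _ _ (Submodule.add_mem_sup h5 h6)
    have hdim : finrank F W = n := by
      have h5 := H951.finrank_sup_of_disj hinf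
      rw [hsup, finrank_top, hV] at h5
      omega
    have hInv : ∀ {e : Module.End F V}, Commute a e → Commute e x → _root_.Cfsg.Agent.H951.Inv e W := by
      intro e hae hex v hv
      rw [hW] at hv ⊢
      rw [app hae, hv, app (hix hex)]
    have h5 := comm_on hr hx (Z := W) (hInv hax (Commute.refl x)) hdim (by rw [hf, inf_bot_eq]) hcx hdx
      (hInv hac hcx) (hInv had hdx)
    have hW0 : W ≠ ⊥ := by
      intro h
      rw [h, finrank_bot] at hdim
      omega
    obtain ⟨w, hw, hw0⟩ := (Submodule.ne_bot_iff _).1 hW0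
    have h6 : c (d w) = -(d (c w)) := LinearMap.congr_fun hcd w
    have h7 : d (c w) = 0 := hneg _ ((h5 w hw).symm.trans h6)
    apply hw0
    have h8 : (c * (d * d) * c) w = 0 := by
      show c (d (d (c w))) = 0
      rw [h7, map_zero, map_zero]
    rw [hd, mul_neg, mul_one, neg_mul, hc, neg_neg] at h8
    exact h8

/-- **no `Q₈ ∘ Q₈` in the centralizer** -/
theorem gamma (hr : RD F r n) (hn : Even n) (h2 : (2 : F) ≠ 0) (hV : finrank F V ≤ 2 * n + 1)
    {x a b c d z : Module.End F V} (hx : x ^ r = 1) (hcm : finrank F (cm x) = 2 * n) (hax : Commute a x)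
    (hbx : Commute b x) (hcx : Commute c x) (hdx : Commute d x) (ha : a * a = z) (hb : b * b = z) (hc : c * c = z)
    (hd : d * d = z) (hz : z * z = 1) (hz1 : z ≠ 1) (hab : a * b = z * (b * a)) (hcd : c * d = z * (d * c))
    (hac : Commute a c) (had : Commute a d) : False := by
  have hn0 := hr.pos
  have hneg : ∀ v : V, v = -v → v = 0 := by
    intro v hv
    have h3 : (2 : F) • v = 0 := by
      rw [two_smul]
      nth_rewrite 2 [hv]
      rw [add_neg_cancel]
    exact (smul_eq_zero.1 h3).resolve_left h2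
  have app : ∀ {e f : Module.End F V}, Commute e f → ∀ v, e (f v) = f (e v) := fun h v =>
    LinearMap.congr_fun h.eq v
  have hzx : Commute z x := by rw [← ha]; exact hax.mul_left hax
  have hza : Commute a z := by rw [← ha]; exact (Commute.refl a).mul_right (Commute.refl a)
  have hzb : Commute b z := by rw [← hb]; exact (Commute.refl b).mul_right (Commute.refl b)
  have hzz : ∀ v, z (z v) = v := fun v => LinearMap.congr_fun hz v
  have haa : ∀ v, a (a v) = z v := fun v => LinearMap.congr_fun ha v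
  have hbb : ∀ v, b (b v) = z v := fun v => LinearMap.congr_fun hb v
  have hab' : ∀ v, a (b v) = z (b (a v)) := fun v => LinearMap.congr_fun hab v
  have hInvc : ∀ {e : Module.End F V}, Commute e x → _root_.Cfsg.Agent.H951.Inv e (cm x) := by
    intro e he w hw
    obtain ⟨u, rfl⟩ := H951.mem_cm.1 hw
    exact H951.mem_cm.2 ⟨e u, by rw [map_sub, app he]⟩
  have hInvf : ∀ {e : Module.End F V}, Commute e x → _root_.Cfsg.Agent.H951.Inv e (fx x) := by
    intro e he w hw
    rw [mem_fx] at hw ⊢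
    rw [← app he, hw]
  have hcomp := H951.isCompl_fx_cm hr.ne0 hx
  have hfd := H951.finrank_fx_add_cm hr.ne0 hx
  -- the fixed space
  have hfz : ∀ v ∈ fx x, z v = v := by
    intro v hv
    by_cases hv0 : v = 0
    · rw [hv0, map_zero]
    have h1 : finrank F (fx x) ≤ 1 := by omega
    have key : ∀ e : Module.End F V, Commute e x → ∃ t : F, e v = t • v := by
      intro e he
      obtain ⟨u, hu⟩ := finrank_le_one_iff.1 h1
      obtain ⟨t, ht⟩ := hu ⟨v, hv⟩
      obtain ⟨s, hs⟩ := hu ⟨e v, hInvf he v hv⟩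
      have ht' : t • (u : V) = v := congrArg Subtype.val ht
      have hs' : s • (u : V) = e v := congrArg Subtype.val hs
      have ht0 : t ≠ 0 := by
        rintro rfl
        rw [zero_smul] at ht'
        exact hv0 ht'.symm
      exact ⟨s * t⁻¹, by rw [← hs', ← ht', smul_smul, mul_assoc, inv_mul_cancel₀ ht0, mul_one]⟩
    obtain ⟨t, ht⟩ := key a hax
    obtain ⟨s, hs⟩ := key b hbx
    have h3 : a (b v) = b (a v) := by rw [hs, ht, map_smul, map_smul, hs, ht, smul_comm]
    have h4 : b (a v) = z (b (a v)) := by rw [← hab', h3]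
    have h5 : b (a v) = b (a (z v)) := by
      rw [h4, ← app hzb, ← app hza]
    have h6 : z (z (z v)) = z (z v) := by
      have h7 := congrArg (fun w => a (b w)) h5
      simp only [hbb] at h7
      rw [app hza, app hza, haa, haa] at h7
      exact h7.symm
    rwa [hzz, hzz] at h6
  -- the negative part
  let N : Submodule F V := LinearMap.ker (z + 1)
  have hN : ∀ v, v ∈ N ↔ z v = -v := fun v => by
    rw [LinearMap.mem_ker, LinearMap.add_apply, Module.End.one_apply, add_eq_zero_iff_eq_neg]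
  have hInvN : ∀ {e : Module.End F V}, Commute e z → _root_.Cfsg.Agent.H951.Inv e N := by
    intro e he v hv
    rw [hN] at hv ⊢
    rw [← app he, hv, map_neg]
  have hNf : N ⊓ fx x = ⊥ := by
    rw [eq_bot_iff]
    rintro v ⟨hv, hv'⟩
    rw [SetLike.mem_coe, hN, hfz v hv'] at hv
    exact hneg v hv
  have hNcm : N ≤ cm x := by
    have h3 := H951.inf_fx_sup_inf_cm hr.ne0 hx (hInvN hzx.symm)
    rw [hNf, bot_sup_eq] at h3
    exact inf_eq_left.1 h3
  have hN0 : N ≠ ⊥ := by
    intro h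
    apply hz1
    apply LinearMap.ext
    intro v
    have h3 : z v - v ∈ N := by rw [hN, map_sub, hzz]; abel
    rw [h, Submodule.mem_bot, sub_eq_zero] at h3
    exact h3
  have hdv : n ∣ finrank F N := hr.dvd hx (hInvN hzx.symm) hNf
  have hle : n ≤ finrank F N := hr.le_finrank hx (hInvN hzx.symm) hNf hN0
  have hle2 : finrank F N ≤ 2 * n := hcm ▸ Submodule.finrank_mono hNcm
  have hcases : finrank F N = n ∨ finrank F N = 2 * n := by
    obtain ⟨k, hk⟩ := hdv
    have h3 : k ≤ 2 := by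
      by_contra hcon
      have : n * 3 ≤ n * k := Nat.mul_le_mul_left n (by omega)
      omega
    interval_cases k
    · omega
    · left; omega
    · right; omega
  rcases hcases with h3 | h3
  · obtain ⟨w, hw, hw0⟩ := (Submodule.ne_bot_iff _).1 hN0
    have h4 := comm_on hr hx (hInvN hzx.symm) h3 hNf hax hbx (hInvN hza) (hInvN hzb) w hw
    have h5 : z (b (a w)) = -(b (a w)) := (hN _).1 (hInvN hzb _ (hInvN hza _ hw))
    have h6 : b (a w) = 0 := hneg _ (by rw [← h5, ← hab', h4])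
    apply hw0
    have h7 : a (b (b (a w))) = 0 := by rw [h6, map_zero, map_zero]
    rw [hbb, app hza, haa, hzz] at h7
    exact h7
  · have hNe : N = cm x := Submodule.eq_of_le_of_finrank_eq hNcm (by omega)
    have hzU : ∀ v ∈ cm x, z v = -v := fun v hv => (hN v).1 (by rw [hNe]; exact hv)
    have mk : ∀ {e : Module.End F V} (he : Commute e x), ∃ e' : Module.End F (cm x), ∀ v : cm x,
        (e' v : V) = e v := fun he => ⟨LinearMap.restrict _ (hInvc he), fun v => rfl⟩
    obtain ⟨x', hx'⟩ := mk (Commute.refl x)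
    obtain ⟨a', ha'⟩ := mk hax
    obtain ⟨b', hb'⟩ := mk hbx
    obtain ⟨c', hc'⟩ := mk hcx
    obtain ⟨d', hd'⟩ := mk hdx
    have hpow : ∀ (k : ℕ) (v : cm x), ((x' ^ k) v : V) = (x ^ k) v := by
      intro k
      induction k with
      | zero => intro v; rfl
      | succ k ih =>
        intro v
        rw [pow_succ', pow_succ', Module.End.mul_apply, Module.End.mul_apply, hx', ih]
    refine gammaZ hr hn h2 hcm (x := x') (a := a') (b := b') (c := c') (d := d') ?_ ?_ ?_ ?_ ?_ ?_ ?_ ?_ ?_ ?_ ?_ ?_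
      ?_ ?_
    · refine LinearMap.ext fun v => Subtype.ext ?_
      rw [hpow, hx]
      rfl
    · rw [eq_bot_iff]
      intro v hv
      rw [mem_fx] at hv
      have h4 : (v : V) ∈ fx x := by
        rw [mem_fx, ← hx', hv]
      rw [Submodule.mem_bot]
      apply Subtype.ext
      have h5 : (v : V) ∈ fx x ⊓ cm x := ⟨h4, v.2⟩
      rwa [hcomp.inf_eq_bot, Submodule.mem_bot] at h5
    · refine LinearMap.ext fun v => Subtype.ext ?_
      rw [Module.End.mul_apply, Module.End.mul_apply, ha', hx', hx', ha', app hax]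
    · refine LinearMap.ext fun v => Subtype.ext ?_
      rw [Module.End.mul_apply, Module.End.mul_apply, hb', hx', hx', hb', app hbx]
    · refine LinearMap.ext fun v => Subtype.ext ?_
      rw [Module.End.mul_apply, Module.End.mul_apply, hc', hx', hx', hc', app hcx]
    · refine LinearMap.ext fun v => Subtype.ext ?_
      rw [Module.End.mul_apply, Module.End.mul_apply, hd', hx', hx', hd', app hdx]
    · refine LinearMap.ext fun v => Subtype.ext ?_
      rw [Module.End.mul_apply, ha', ha', haa, hzU _ v.2]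
      rfl
    · refine LinearMap.ext fun v => Subtype.ext ?_
      rw [Module.End.mul_apply, hb', hb', hbb, hzU _ v.2]
      rfl
    · refine LinearMap.ext fun v => Subtype.ext ?_
      rw [Module.End.mul_apply, hc', hc', show c (c (v : V)) = z v from LinearMap.congr_fun hc _, hzU _ v.2]
      rfl
    · refine LinearMap.ext fun v => Subtype.ext ?_
      rw [Module.End.mul_apply, hd', hd', show d (d (v : V)) = z v from LinearMap.congr_fun hd _, hzU _ v.2]
      rfl
    · refine LinearMap.ext fun v => Subtype.ext ?_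
      rw [Module.End.mul_apply, ha', hb', hab', ← ha', ← hb', hzU _ (b' (a' v)).2]
      rfl
    · refine LinearMap.ext fun v => Subtype.ext ?_
      rw [Module.End.mul_apply, hc', hd', show c (d (v : V)) = z (d (c v)) from LinearMap.congr_fun hcd _, ← hc', ← hd',
        hzU _ (d' (c' v)).2]
      rfl
    · refine LinearMap.ext fun v => Subtype.ext ?_
      rw [Module.End.mul_apply, Module.End.mul_apply, ha', hc', hc', ha', app hac]
    · refine LinearMap.ext fun v => Subtype.ext ?_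
      rw [Module.End.mul_apply, Module.End.mul_apply, ha', hd', hd', ha', app had]

end Cfsg.Agent.H953.N9
end

-- part: H427/Fc/Alt
section
prune_inst 0x10000000000000
set_option linter.all false
open scoped Cfsg.Agent.FastGrp

/-!
# S3679, the row `T = A_n` (helper427)

`fac_alt` : `A_n = A B`, `A ≅ S ^ l`, `l ≥ 2`, `B ≠ ⊤`: then `|A_n : B| = n` and `B ≅ A_{n-1}`.
-/

set_option autoImplicit false
set_option linter.unusedSectionVars false

namespace Cfsg.Agent.H427.Fc

open Equiv Equiv.Perm MulAction Cfsg.Agent.H899.CG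
open scoped Pointwise Nat

theorem sq_not_dvd_factorial {r m : ℕ} (hr : r.Prime) (h : m < 2 * r) : ¬ r ^ 2 ∣ m ! := by
  intro h1
  have hr2 := hr.two_le
  have hlog : Nat.log r m < 2 := by
    apply Nat.log_lt_of_lt_pow' (by norm_num)
    nlinarith
  rw [Nat.Prime.pow_dvd_factorial_iff hr hlog] at h1
  have h2 : ∑ i ∈ Finset.Ico 1 2, m / r ^ i = m / r := by
    rw [Finset.sum_Ico_succ_top (by norm_num), Finset.Ico_self, Finset.sum_empty, zero_add, pow_one]
  rw [h2] at h1
  have h3 : m / r < 2 := Nat.div_lt_of_lt_mul (by omega)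
  omega

/-- a prime in `(n/2, n - 4]` -/
theorem exists_prime_four {n : ℕ} (hn : 9 ≤ n) (h10 : n ≠ 10) (h14 : n ≠ 14) :
    ∃ p : ℕ, p.Prime ∧ n < 2 * p ∧ p + 4 ≤ n := by
  by_cases h : 45 ≤ n
  · obtain ⟨r, s, hr, -, h1, h2, h3⟩ := Cfsg.Agent.H357.NT.two_primes (n := n - 3) (by omega)
    exact ⟨r, hr, by omega, by omega⟩
  · have key : ∀ n < 45, 9 ≤ n ∧ ¬ (n = 10 ∨ n = 14) → ∃ p < 45, Nat.Prime p ∧ n < 2 * p ∧ p + 4 ≤ n := by decide
    obtain ⟨p, -, hp⟩ := key n (by omega) (by omega)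
    exact ⟨p, hp⟩

/-- a prime in `(n/2, n - 3]` -/
theorem exists_prime_three {n : ℕ} (hn : 8 ≤ n) : ∃ p : ℕ, p.Prime ∧ n < 2 * p ∧ p + 3 ≤ n := by
  by_cases h : 44 ≤ n
  · obtain ⟨r, s, hr, -, h1, h2, h3⟩ := Cfsg.Agent.H357.NT.two_primes (n := n - 3) (by omega)
    exact ⟨r, hr, by omega, by omega⟩
  · have key : ∀ n < 44, 8 ≤ n → ∃ p < 44, Nat.Prime p ∧ n < 2 * p ∧ p + 3 ≤ n := by decide
    obtain ⟨p, -, hp⟩ := key n (by omega) hn
    exact ⟨p, hp⟩

variable {n l : ℕ} {A B : Subgroup (alternatingGroup (Fin n))} {S : Type*} [Group S] [Finite S]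

theorem cycW_alt {p : ℕ} (hp : p.Prime) (hn : n < 2 * p) (hpn : p + 3 ≤ n) : CycW (alternatingGroup (Fin n)) p := by
  have h2 := Cfsg.Agent.H663.AltD.two_mul_card (n := n) (by omega)
  refine (cyc_of_sq hp ?_ ?_).1
  · have h3 : p ∣ 2 * Nat.card (alternatingGroup (Fin n)) := by
      rw [h2]
      exact (hp.dvd_factorial).2 (by omega)
    rcases hp.dvd_mul.1 h3 with h4 | h4
    · have := Nat.le_of_dvd (by norm_num) h4
      omega
    · exact h4
  · intro h3
    apply sq_not_dvd_factorial hp hn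
    rw [← h2]
    exact h3.mul_left 2

/-- the copy of `A` in the symmetric group -/
def img (A : Subgroup (alternatingGroup (Fin n))) : Subgroup (Perm (Fin n)) := A.map (alternatingGroup (Fin n)).subtype

theorem img_equiv (h : Fac (alternatingGroup (Fin n)) A B S l) : Nonempty (img A ≃* (Fin l → S)) := by
  obtain ⟨e⟩ := h.iso
  exact ⟨(A.equivMapOfInjective _ (alternatingGroup (Fin n)).subtype_injective).symm.trans e⟩

/-- a finite set invariant under `B` -/
def Iv (B : Subgroup (alternatingGroup (Fin n))) (D : Finset (Fin n)) : Prop :=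
  ∀ g ∈ B, ∀ x ∈ D, (g : Perm (Fin n)) x ∈ D

theorem Iv.compl {D : Finset (Fin n)} (h : Iv B D) : Iv B Dᶜ := by
  intro g hg x hx
  rw [Finset.mem_compl] at hx ⊢
  intro h1
  apply hx
  have := h g⁻¹ (inv_mem hg) _ h1
  rwa [Subgroup.coe_inv, Equiv.Perm.inv_def, Equiv.symm_apply_apply] at this

theorem Iv.smul_eq {D : Finset (Fin n)} (h : Iv B D) {g : alternatingGroup (Fin n)} (hg : g ∈ B) :
    (g : Perm (Fin n)) • D = D := by
  apply Finset.eq_of_subset_of_card_le
  · intro x hx
    obtain ⟨y, hy, rfl⟩ := Finset.mem_smul_finset.1 hx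
    exact h g hg y hy
  · rw [Finset.card_smul_finset]

theorem Iv.union {D E : Finset (Fin n)} (h : Iv B D) (h' : Iv B E) : Iv B (D ∪ E) := by
  intro g hg x hx
  rw [Finset.mem_union] at hx ⊢
  rcases hx with hx | hx
  · exact Or.inl (h g hg x hx)
  · exact Or.inr (h' g hg x hx)

/-- **The orbits of `B`.** -/
theorem Iv.false (hn : 5 ≤ n) (hS : IsSimpleGroup S) (hSna : ¬ IsMulCommutative S)
    (h : Fac (alternatingGroup (Fin n)) A B S l) {D : Finset (Fin n)} (hD : Iv B D) (h2 : 2 ≤ D.card)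
    (h2n : 2 * D.card ≤ n) : False := by
  obtain ⟨e⟩ := img_equiv h
  refine not_hom e h.two_le hS hSna h2 (by rw [Fintype.card_fin]; exact h2n) ?_
  have htr := Set.powersetCard.isPretransitive_alternatingGroup (α := Fin n) (n := D.card)
    (by rw [Nat.card_eq_fintype_card, Fintype.card_fin]; omega)
  -- every `k`-set is `x • D` with `x ∈ A`
  have key : ∀ K : Set.powersetCard (Fin n) D.card, ∃ x ∈ A, ((x : Perm (Fin n)) • D) = (K : Finset (Fin n)) := by
    intro K
    obtain ⟨t, ht⟩ := htr.exists_smul_eq ⟨D, rfl⟩ K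
    obtain ⟨x, hx, y, hy, rfl⟩ := h.fac t
    refine ⟨x, hx, ?_⟩
    have h1 : ((x * y : alternatingGroup (Fin n)) : Perm (Fin n)) • D = (K : Finset (Fin n)) := congrArg Subtype.val ht
    rw [Subgroup.coe_mul, mul_smul, hD.smul_eq hy] at h1
    exact h1
  refine ⟨fun K L => ?_⟩
  obtain ⟨x, hx, h1⟩ := key K
  obtain ⟨y, hy, h3⟩ := key L
  refine ⟨⟨((y * x⁻¹ : alternatingGroup (Fin n)) : Perm (Fin n)), ⟨y * x⁻¹, A.mul_mem hy (A.inv_mem hx), rfl⟩⟩, ?_⟩
  apply Subtype.ext
  change (((y * x⁻¹ : alternatingGroup (Fin n)) : Perm (Fin n)) • (K : Finset (Fin n))) = (L : Finset (Fin n))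
  rw [← h1, ← h3, Subgroup.coe_mul, Subgroup.coe_inv, mul_smul, inv_smul_smul]

theorem Iv.card (hn : 5 ≤ n) (hS : IsSimpleGroup S) (hSna : ¬ IsMulCommutative S)
    (h : Fac (alternatingGroup (Fin n)) A B S l) {D : Finset (Fin n)} (hD : Iv B D) :
    D.card ≤ 1 ∨ n ≤ D.card + 1 := by
  by_contra hcon
  push Not at hcon
  have hc : Dᶜ.card = n - D.card := by rw [Finset.card_compl, Fintype.card_fin]
  by_cases h2 : 2 * D.card ≤ n
  · exact Iv.false hn hS hSna h hD (by omega) h2
  · exact Iv.false hn hS hSna h hD.compl (by omega) (by omega)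

/-- the orbit of a point, as a finite set -/
theorem exists_orbit (B : Subgroup (alternatingGroup (Fin n))) (x : Fin n) :
    ∃ D : Finset (Fin n), Iv B D ∧ ∀ y, y ∈ D ↔ ∃ g ∈ B, (g : Perm (Fin n)) x = y := by
  classical
  refine ⟨Finset.univ.filter fun y => ∃ g ∈ B, (g : Perm (Fin n)) x = y, ?_, fun y => by simp⟩
  intro g hg y hy
  rw [Finset.mem_filter] at hy ⊢
  obtain ⟨-, k, hk, rfl⟩ := hy
  exact ⟨Finset.mem_univ _, g * k, B.mul_mem hg hk, rfl⟩

/-- `B` fixes a point -/
theorem exists_fix_alt (hn : 8 ≤ n) (hS : IsSimpleGroup S) (hSna : ¬ IsMulCommutative S)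
    (h : Fac (alternatingGroup (Fin n)) A B S l) : ∃ a : Fin n, ∀ g ∈ B, (g : Perm (Fin n)) a = a := by
  obtain ⟨p, hp, hp1, hp2⟩ := exists_prime_three hn
  have hnt : ¬ ∀ a b : Fin n, ∃ x ∈ B, (x : Perm (Fin n)) a = b := fun ht =>
    Cfsg.Agent.H663.AltD.not_dvd h.ne_top ht hp hp1 hp2 (h.dvd (cycW_alt hp hp1 hp2))
  push Not at hnt
  obtain ⟨x, y, hxy⟩ := hnt
  obtain ⟨D, hD, hDm⟩ := exists_orbit B x
  have hx : x ∈ D := (hDm x).2 ⟨1, B.one_mem, rfl⟩
  have hy : y ∉ D := fun hy => by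
    obtain ⟨g, hg, hgx⟩ := (hDm y).1 hy
    exact hxy g hg hgx
  have hc : Dᶜ.card = n - D.card := by rw [Finset.card_compl, Fintype.card_fin]
  have hDn : D.card ≤ n := by simpa using D.card_le_univ
  have key : ∀ E : Finset (Fin n), Iv B E → E.card = 1 → ∃ a : Fin n, ∀ g ∈ B, (g : Perm (Fin n)) a = a := by
    intro E hE h1
    obtain ⟨a, rfl⟩ := Finset.card_eq_one.1 h1
    exact ⟨a, fun g hg => Finset.mem_singleton.1 (hE g hg a (Finset.mem_singleton_self a))⟩
  rcases Iv.card (by omega) hS hSna h hD with h1 | h1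
  · exact key D hD (by
      have : 0 < D.card := Finset.card_pos.2 ⟨x, hx⟩
      omega)
  · exact key Dᶜ hD.compl (by
      have : 0 < Dᶜ.card := Finset.card_pos.2 ⟨y, Finset.mem_compl.2 hy⟩
      omega)

/-- `B` is transitive on the other points -/
theorem trans_rest (hn : 8 ≤ n) (hS : IsSimpleGroup S) (hSna : ¬ IsMulCommutative S)
    (h : Fac (alternatingGroup (Fin n)) A B S l) {a : Fin n} (ha : ∀ g ∈ B, (g : Perm (Fin n)) a = a) {x y : Fin n}
    (hx : x ≠ a) (hy : y ≠ a) : ∃ g ∈ B, (g : Perm (Fin n)) x = y := by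
  obtain ⟨D, hD, hDm⟩ := exists_orbit B x
  have hxD : x ∈ D := (hDm x).2 ⟨1, B.one_mem, rfl⟩
  have haD : a ∉ D := by
    intro h1
    obtain ⟨g, hg, hgx⟩ := (hDm a).1 h1
    exact hx ((g : Perm (Fin n)).injective (hgx.trans (ha g hg).symm))
  have haI : Iv B {a} := by
    intro g hg z hz
    rw [Finset.mem_singleton] at hz ⊢
    rw [hz, ha g hg]
  rw [← hDm]
  rcases Iv.card (by omega) hS hSna h hD with h1 | h1
  · exfalso
    have h2 : ({a} ∪ D).card = 1 + D.card := by
      rw [Finset.card_union_of_disjoint (Finset.disjoint_singleton_left.2 haD), Finset.card_singleton]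
    have h3 : 0 < D.card := Finset.card_pos.2 ⟨x, hxD⟩
    exact Iv.false (by omega) hS hSna h (haI.union hD) (by omega) (by omega)
  · have h2 : D = {a}ᶜ := by
      apply Finset.eq_of_subset_of_card_le
      · intro z hz
        rw [Finset.mem_compl, Finset.mem_singleton]
        rintro rfl
        exact haD hz
      · rw [Finset.card_compl, Fintype.card_fin, Finset.card_singleton]
        omega
    rw [h2, Finset.mem_compl, Finset.mem_singleton]
    exact hy

/-! ### the stabiliser of a point -/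

section psi

variable {m : ℕ} {a : Fin n} (f : Fin m ≃ {x : Fin n // x ≠ a})

/-- `A_m → A_n` on the points `≠ a` -/
noncomputable def psi : alternatingGroup (Fin m) →* alternatingGroup (Fin n) :=
  ((Perm.ofSubtype (p := fun x : Fin n => x ≠ a)).comp
    (f.permCongrHom.toMonoidHom.comp (alternatingGroup (Fin m)).subtype)).codRestrict (alternatingGroup (Fin n))
    (fun σ => by
      rw [Perm.mem_alternatingGroup]
      change sign (Perm.ofSubtype (f.permCongr (σ : Perm (Fin m)))) = 1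
      rw [sign_ofSubtype, sign_permCongr]
      exact Perm.mem_alternatingGroup.1 σ.2)

theorem psi_val (σ : alternatingGroup (Fin m)) :
    ((psi f σ : alternatingGroup (Fin n)) : Perm (Fin n)) = Perm.ofSubtype (f.permCongr (σ : Perm (Fin m))) := rfl

theorem psi_apply (σ : alternatingGroup (Fin m)) (i : Fin m) :
    ((psi f σ : alternatingGroup (Fin n)) : Perm (Fin n)) (f i) = f ((σ : Perm (Fin m)) i) := by
  rw [psi_val, Perm.ofSubtype_apply_coe]
  simp

theorem psi_injective : Function.Injective (psi f) := by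
  intro σ τ h
  have h1 := congrArg Subtype.val h
  rw [psi_val, psi_val] at h1
  exact Subtype.ext (f.permCongr.injective (Perm.ofSubtype_injective h1))

theorem exists_psi {g : alternatingGroup (Fin n)} (hg : (g : Perm (Fin n)) a = a) : ∃ σ, psi f σ = g := by
  have hmem : ∀ x, (g : Perm (Fin n)) x ≠ a ↔ x ≠ a := by
    intro x
    constructor
    · rintro hx rfl
      exact hx hg
    · intro hx e
      exact hx ((g : Perm (Fin n)).injective (by rw [e, hg]))
  have hsub : Perm.ofSubtype ((g : Perm (Fin n)).subtypePerm (p := fun x => x ≠ a) hmem) = (g : Perm (Fin n)) := by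
    apply Perm.ofSubtype_subtypePerm
    intro x hx e
    apply hx
    rw [e, hg]
  have hs : sign ((g : Perm (Fin n)).subtypePerm (p := fun x => x ≠ a) hmem) = 1 := by
    rw [← sign_ofSubtype, hsub]
    exact Perm.mem_alternatingGroup.1 g.2
  refine ⟨⟨f.symm.permCongr ((g : Perm (Fin n)).subtypePerm (p := fun x => x ≠ a) hmem), ?_⟩, ?_⟩
  · rw [Perm.mem_alternatingGroup, sign_permCongr]
    exact hs
  · apply Subtype.ext
    rw [psi_val]
    change Perm.ofSubtype (f.permCongr (f.symm.permCongr _)) = _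
    rw [← Equiv.permCongr_symm, Equiv.apply_symm_apply, hsub]

end psi

/-- **The row `T = A_n` of S3679.** -/
theorem fac_alt (hS : IsSimpleGroup S) (hSna : ¬ IsMulCommutative S)
    (h : Fac (alternatingGroup (Fin n)) A B S l) :
    B.index = n ∧ Nonempty (B ≃* alternatingGroup (Fin (n - 1))) := by
  have h60 := sixty_le hS hSna
  have h2 := h.two_le
  have hdvd := h.pow_dvd_card
  have hsq : Nat.card S ^ 2 ∣ Nat.card (alternatingGroup (Fin n)) := (pow_dvd_pow _ h2).trans hdvd
  have hn9 : 9 ≤ n := by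
    by_contra hlt
    have h8 : Nat.card (alternatingGroup (Fin n)) ∣ 20160 := by
      rcases Nat.lt_or_ge n 2 with h3 | h3
      · have : Nat.card (alternatingGroup (Fin n)) = 1 := by
          rw [Nat.card_eq_one_iff_unique]
          have : n = 0 ∨ n = 1 := by omega
          rcases this with rfl | rfl
          · exact ⟨⟨fun a b => Subtype.ext (Subsingleton.elim _ _)⟩, inferInstance⟩
          · exact ⟨⟨fun a b => Subtype.ext (Subsingleton.elim _ _)⟩, inferInstance⟩
        rw [this]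
        exact one_dvd _
      · have h4 := Cfsg.Agent.H663.AltD.two_mul_card (n := n) h3
        have h5 : n ! ∣ 8 ! := Nat.factorial_dvd_factorial (by omega)
        rw [← h4, show (8 ! : ℕ) = 2 * 20160 by decide] at h5
        exact Nat.dvd_of_mul_dvd_mul_left (by norm_num) h5
    have h9 := hsq.trans h8
    have h10 : Nat.card S < 142 := by
      by_contra hge
      have h11 := Nat.le_of_dvd (by norm_num) h9
      nlinarith
    have key : ∀ s < 142, s ^ 2 ∣ 20160 → s < 60 := by decide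
    have := key _ h10 h9
    omega
  obtain ⟨a, ha⟩ := exists_fix_alt (by omega) hS hSna h
  -- `n ≠ 10, 14`
  have hAt : IsPretransitive (img A) (Fin n) := by
    have := alternatingGroup.isPretransitive_of_three_le_card (Fin n)
      (by rw [Nat.card_eq_fintype_card, Fintype.card_fin]; omega)
    have key : ∀ x : Fin n, ∃ g ∈ A, (g : Perm (Fin n)) a = x := by
      intro x
      obtain ⟨t, ht⟩ := this.exists_smul_eq a x
      obtain ⟨g, hg, y, hy, rfl⟩ := h.fac t
      refine ⟨g, hg, ?_⟩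
      have h1 : ((g * y : alternatingGroup (Fin n)) : Perm (Fin n)) a = x := ht
      rw [Subgroup.coe_mul, Perm.mul_apply, ha y hy] at h1
      exact h1
    refine ⟨fun x y => ?_⟩
    obtain ⟨g, hg, hgx⟩ := key x
    obtain ⟨k, hk, hkx⟩ := key y
    refine ⟨⟨((k * g⁻¹ : alternatingGroup (Fin n)) : Perm (Fin n)), ⟨k * g⁻¹, A.mul_mem hk (A.inv_mem hg), rfl⟩⟩, ?_⟩
    change ((k * g⁻¹ : alternatingGroup (Fin n)) : Perm (Fin n)) x = y
    rw [← hgx, ← hkx, Subgroup.coe_mul, Subgroup.coe_inv, Perm.mul_apply, Equiv.Perm.inv_def, Equiv.symm_apply_apply]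
  obtain ⟨e⟩ := img_equiv h
  have h10 : n ≠ 10 := by
    rintro rfl
    exact not_trans_two_prime e h2 hS hSna (p := 5) (by norm_num) (by simp) (by simp) hAt
  have h14 : n ≠ 14 := by
    rintro rfl
    exact not_trans_two_prime e h2 hS hSna (p := 7) (by norm_num) (by simp) (by simp) hAt
  -- `B` is the stabiliser of `a`
  have hcard : Fintype.card {x : Fin n // x ≠ a} = n - 1 := by
    rw [Fintype.card_subtype_compl, Fintype.card_fin, Fintype.card_subtype_eq]
  have f : Fin (n - 1) ≃ {x : Fin n // x ≠ a} := (Fintype.equivFinOfCardEq hcard).symm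
  have hmap : (B.comap (psi f)).map (psi f) = B := by
    apply le_antisymm (Subgroup.map_comap_le _ _)
    intro g hg
    obtain ⟨σ, rfl⟩ := exists_psi f (ha g hg)
    exact ⟨σ, hg, rfl⟩
  have hcB : Nat.card (B.comap (psi f)) = Nat.card B := by
    conv_rhs => rw [← hmap]
    rw [Subgroup.card_map_of_injective (psi_injective f)]
  obtain ⟨p, hp, hp1, hp2⟩ := exists_prime_four hn9 h10 h14
  have htop : B.comap (psi f) = ⊤ := by
    by_contra hne
    refine Cfsg.Agent.H663.AltD.not_dvd hne ?_ hp (n := n - 1) (by omega) (by omega) ?_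
    · intro x y
      obtain ⟨g, hg, hgx⟩ := trans_rest (by omega) hS hSna h ha (f x).2 (f y).2
      obtain ⟨σ, rfl⟩ := exists_psi f (ha g hg)
      refine ⟨σ, hg, ?_⟩
      rw [psi_apply] at hgx
      exact f.injective (Subtype.ext hgx)
    · rw [hcB]
      exact h.dvd (cycW_alt hp hp1 (by omega))
  have hcard2 : 2 * Nat.card B = (n - 1)! := by
    rw [← hcB, htop, Subgroup.card_top, Cfsg.Agent.H663.AltD.two_mul_card (n := n - 1) (by omega)]
  have hcard3 := Cfsg.Agent.H663.AltD.two_mul_card (n := n) (by omega)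
  have hidx : B.index = n := by
    rw [← Subgroup.card_mul_index B, ← mul_assoc, hcard2] at hcard3
    have h5 : n ! = (n - 1)! * n := by
      obtain ⟨k, rfl⟩ : ∃ k, n = k + 1 := ⟨n - 1, by omega⟩
      rw [Nat.factorial_succ, Nat.add_sub_cancel, mul_comm]
    rw [h5] at hcard3
    exact Nat.eq_of_mul_eq_mul_left (Nat.factorial_pos _) hcard3
  exact ⟨hidx, Cfsg.Agent.H529.AltIndex.mulEquiv_of_index (by omega) (MulEquiv.refl _) B hidx⟩

end Cfsg.Agent.H427.Fc
end

-- part: H953/Cyc/O8k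
section
prune_inst 0x500000001000200000005020000184282000000000b0000000000000580040009020660b0000000100280040034000000000000000000000000040001180080008042000240000424000e000000000000000000000000000000000000000000000000000
set_option linter.all false
open scoped Cfsg.Agent.FastGrp

-- part: H953/Cyc/O8a
section
/-!
# `p`-groups of isometries commuting with an element of order `ppd(q, 4)` in dimension 8 (helper953, S3679)

* `card_le_sq` : such a group has order at most `q ^ 2`.
-/

set_option autoImplicit false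

namespace Cfsg.Agent.H953.O8

open Module QuadraticMap Cfsg.Agent.LieClassical.OrthCore Cfsg.Agent.H955 Cfsg.Agent.H954.TSing Cfsg.Agent.H884.El
open Cfsg.Agent.H951 (fx cm Inv)

universe u v

variable {F : Type u} [Field F] [Fintype F] {V : Type v} [AddCommGroup V] [Module F V] [FiniteDimensional F V]
  {Q : QuadraticForm F V} {x : Module.End F V} {r : ℕ}

/-- invariant subspaces have dimension divisible by 4 -/
theorem four_dvd (hx : Iso Q x r) (hr : PP (Nat.card F) 4 r) (hcm : cm x = ⊤) {W : Submodule F V} (hW : _root_.Cfsg.Agent.H951.Inv x W) :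
    4 ∣ finrank F W := by
  have := hx.dvd hr hW
  rwa [hcm, inf_top_eq] at this

/-- a proper nonzero invariant subspace has dimension 4 -/
theorem finrank_eq (hx : Iso Q x r) (hr : PP (Nat.card F) 4 r) (hV : finrank F V = 8) (hcm : cm x = ⊤)
    {W : Submodule F V} (hW : _root_.Cfsg.Agent.H951.Inv x W) (h0 : W ≠ ⊥) (h1 : W ≠ ⊤) : finrank F W = 4 := by
  have h2 := four_dvd hx hr hcm hW
  have h3 : finrank F W ≠ 0 := fun h => h0 (Submodule.finrank_eq_zero.1 h)
  have h4 : finrank F W < 8 := by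
    rw [← hV]
    exact Submodule.finrank_lt h1
  omega

/-- **`p`-groups of isometries commuting with `x`.** -/
theorem card_le_sq (hx : Iso Q x r) (hr : PP (Nat.card F) 4 r) (hQ : Nondeg Q) (hV : finrank F V = 8)
    (hcm : cm x = ⊤) {p : ℕ} [Fact p.Prime] [CharP F p] {G : Type*} [Group G] [Finite G] (hG : IsPGroup p G)
    (ρ : G →* Module.End F V) (hρ : Function.Injective ρ) (hiso : ∀ g v, Q (ρ g v) = Q v)
    (hcomm : ∀ g v, ρ g (x v) = x (ρ g v)) : Nat.card G ≤ Nat.card F ^ 2 := by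
  classical
  have hfV : Finite V := Module.finite_of_finite F
  have hone : ∀ v, ρ 1 v = v := fun v => by rw [MonoidHom.map_one]; rfl
  have hmul : ∀ a b v, ρ (a * b) v = ρ a (ρ b v) := fun a b v => by rw [MonoidHom.map_mul]; rfl
  have hpol : ∀ g u v, polar Q (ρ g u) (ρ g v) = polar Q u v := by
    intro g u v
    simp only [polar, ← map_add, hiso]
  have hxpol : ∀ u v, polar Q (x u) (x v) = polar Q u v := by
    intro u v
    simp only [polar, ← map_add, hx.iso]
  by_cases hG1 : ∀ g : G, g = 1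
  · have : Subsingleton G := ⟨fun a b => by rw [hG1 a, hG1 b]⟩
    rw [Nat.card_unique]
    exact Nat.one_le_pow _ _ Nat.card_pos
  push Not at hG1
  obtain ⟨g0, hg0⟩ := hG1
  have hVtop : (⊤ : Submodule F V) ≠ ⊥ := by
    intro h
    have h1 : finrank F (⊤ : Submodule F V) = 8 := by rw [finrank_top, hV]
    rw [h, finrank_bot] at h1
    omega
  -- the fixed space
  let L : Submodule F V :=
    { carrier := {v | ∀ g, ρ g v = v}
      add_mem' := fun {a b} ha hb g => by rw [map_add, ha g, hb g]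
      zero_mem' := fun g => map_zero _
      smul_mem' := fun c v hv g => by rw [map_smul, hv g] }
  have hLx : _root_.Cfsg.Agent.H951.Inv x L := fun v hv g => by rw [hcomm, hv g]
  have hL0 : L ≠ ⊥ := by
    obtain ⟨v, -, hv0, hv⟩ := H583.PFixed.exists_fixed hG ρ ⊤ (fun _ _ _ => Submodule.mem_top) hVtop
    intro h
    apply hv0
    have : v ∈ L := hv
    rwa [h, Submodule.mem_bot] at this
  have hfxne : ∀ g : G, g ≠ 1 → fx (ρ g) ≠ ⊤ := by
    intro g hg h
    apply hg
    apply hρ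
    apply LinearMap.ext
    intro v
    have h1 : v ∈ fx (ρ g) := by rw [h]; trivial
    rw [H951.mem_fx.1 h1, MonoidHom.map_one]
    rfl
  have hLfx : ∀ g : G, L ≤ fx (ρ g) := fun g v hv => H951.mem_fx.2 (hv g)
  have hfxx : ∀ g : G, _root_.Cfsg.Agent.H951.Inv x (fx (ρ g)) := fun g v hv => by
    rw [H951.mem_fx] at hv ⊢
    rw [hcomm, hv]
  have hcmx : ∀ g : G, _root_.Cfsg.Agent.H951.Inv x (cm (ρ g)) := fun g v hv => by
    obtain ⟨w, rfl⟩ := H951.mem_cm.1 hv
    exact H951.mem_cm.2 ⟨x w, by rw [hcomm, map_sub]⟩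
  have hfxg : ∀ g : G, g ≠ 1 → finrank F (fx (ρ g)) = 4 := fun g hg =>
    finrank_eq hx hr hV hcm (hfxx g) (fun h => hL0 (le_bot_iff.1 (h ▸ hLfx g))) (hfxne g hg)
  have hL4 : finrank F L = 4 :=
    finrank_eq hx hr hV hcm hLx hL0 (fun h => hfxne g0 hg0 (top_le_iff.1 (h ▸ hLfx g0)))
  have hfxL : ∀ g : G, g ≠ 1 → fx (ρ g) = L := fun g hg =>
    (Submodule.eq_of_le_of_finrank_eq (hLfx g) (by rw [hL4, hfxg g hg])).symm
  have hcmL : ∀ g : G, g ≠ 1 → cm (ρ g) = L := by
    intro g hg
    have h1 : finrank F (cm (ρ g)) + finrank F (fx (ρ g)) = 8 := by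
      rw [← hV]
      exact LinearMap.finrank_range_add_finrank_ker (ρ g - 1)
    have h2 : cm (ρ g) ≠ ⊥ := by
      intro h
      rw [h, finrank_bot, hfxg g hg] at h1
      omega
    -- a fixed vector in the commutator space
    have h3 : cm (ρ g) ⊓ fx (ρ g) ≠ ⊥ := by
      obtain ⟨v, hv, hv0, hv1⟩ := H583.PFixed.exists_fixed (P := Subgroup.zpowers g) (hG.to_subgroup _)
        (ρ.comp (Subgroup.subtype _)) (cm (ρ g)) (by
          rintro ⟨_, k, rfl⟩ v hv
          obtain ⟨w, rfl⟩ := H951.mem_cm.1 hv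
          refine H951.mem_cm.2 ⟨ρ (g ^ k) w, ?_⟩
          show ρ g (ρ (g ^ k) w) - ρ (g ^ k) w = ρ (g ^ k) (ρ g w - w)
          rw [map_sub, ← hmul, ← hmul, ← zpow_one_add, ← zpow_add_one, add_comm]) h2
      intro h
      apply hv0
      have : v ∈ cm (ρ g) ⊓ fx (ρ g) := ⟨hv, H951.mem_fx.2 (hv1 ⟨g, Subgroup.mem_zpowers g⟩)⟩
      rwa [h, Submodule.mem_bot] at this
    have h4 : finrank F ↥(cm (ρ g) ⊓ fx (ρ g)) = 4 :=
      finrank_eq hx hr hV hcm ((hcmx g).inf (hfxx g)) h3 (fun h =>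
        hfxne g hg (top_le_iff.1 (h ▸ inf_le_right)))
    have h5 : cm (ρ g) ⊓ fx (ρ g) = fx (ρ g) :=
      Submodule.eq_of_le_of_finrank_eq inf_le_right (by rw [h4, hfxg g hg])
    have h6 : cm (ρ g) ⊓ fx (ρ g) = cm (ρ g) :=
      Submodule.eq_of_le_of_finrank_eq inf_le_left (by rw [h4]; have := hfxg g hg; omega)
    rw [← h6, h5, hfxL g hg]
  have hcmL' : ∀ g v, ρ g v - v ∈ L := by
    intro g v
    by_cases hg : g = 1
    · subst hg
      rw [hone, sub_self]
      exact L.zero_mem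
    · rw [← hcmL g hg]
      exact H951.mem_cm.2 ⟨v, rfl⟩
  -- `L` is totally singular
  have hBL : ∀ u ∈ L, ∀ w ∈ L, polar Q u w = 0 := by
    intro u hu w hw
    rw [← hcmL g0 hg0] at hw
    obtain ⟨v, rfl⟩ := H951.mem_cm.1 hw
    rw [polar_sub_right, sub_eq_zero]
    conv_lhs => rw [← hu g0]
    exact hpol g0 u v
  have hQL : ∀ u ∈ L, Q u = 0 := by
    by_cases h2 : (2 : F) = 0
    · -- characteristic 2
      let Z : Submodule F V :=
        { carrier := {v | v ∈ L ∧ Q v = 0}
          add_mem' := fun {a b} ha hb => ⟨L.add_mem ha.1 hb.1, by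
            rw [QuadraticMap.map_add Q, ha.2, hb.2, hBL a ha.1 b hb.1, add_zero, add_zero]⟩
          zero_mem' := ⟨L.zero_mem, QuadraticMap.map_zero Q⟩
          smul_mem' := fun c v hv => ⟨L.smul_mem c hv.1, by rw [QuadraticMap.map_smul, hv.2, smul_zero]⟩ }
      have hZx : _root_.Cfsg.Agent.H951.Inv x Z := fun v hv => ⟨hLx v hv.1, by rw [hx.iso]; exact hv.2⟩
      have hZL : Z ≤ L := fun v hv => hv.1
      have h4 := four_dvd hx hr hcm hZx
      have h5 : Z ≠ ⊥ := by
        intro hZ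
        have hinj : Function.Injective (fun u : L => Q (u : V)) := by
          intro a b hab
          have hab' : Q (a : V) = Q (b : V) := hab
          have h6 : (a : V) - b ∈ Z := by
            refine ⟨L.sub_mem a.2 b.2, ?_⟩
            rw [sub_eq_add_neg, QuadraticMap.map_add Q, QuadraticMap.map_neg, hBL _ a.2 _ (L.neg_mem b.2), hab',
              add_zero, ← two_mul, h2, zero_mul]
          rw [hZ, Submodule.mem_bot, sub_eq_zero] at h6
          exact Subtype.ext h6
        have h7 := Nat.card_le_card_of_injective _ hinj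
        rw [Module.natCard_eq_pow_finrank (K := F) (V := L), hL4] at h7
        have h8 : 1 < Nat.card F := Finite.one_lt_card
        have h9 : Nat.card F ^ 1 < Nat.card F ^ 4 := Nat.pow_lt_pow_right h8 (by norm_num)
        rw [pow_one] at h9
        omega
      have h6 : finrank F Z ≠ 0 := fun h => h5 (Submodule.finrank_eq_zero.1 h)
      have h7 : finrank F Z ≤ finrank F L := Submodule.finrank_mono hZL
      have h8 : Z = L := Submodule.eq_of_le_of_finrank_eq hZL (by omega)
      intro u hu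
      rw [← h8] at hu
      exact hu.2
    · intro u hu
      have h3 := hBL u hu u hu
      rw [polar_self] at h3
      rw [nsmul_eq_mul] at h3
      rcases mul_eq_zero.1 h3 with h4 | h4
      · exact absurd (by exact_mod_cast h4) h2
      · exact h4
  have hLtop : L ≠ ⊤ := by
    intro h
    rw [h, finrank_top, hV] at hL4
    omega
  obtain ⟨w, hw⟩ : ∃ w, w ∉ L := by
    by_contra hcon
    push Not at hcon
    exact hLtop (eq_top_iff.2 fun v _ => hcon v)
  -- `y = x⁻¹`
  obtain ⟨y, hxy⟩ : ∃ y : Module.End F V, ∀ v, x (y v) = v := by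
    refine ⟨x ^ (r - 1), fun v => ?_⟩
    rw [← Module.End.mul_apply, ← pow_succ', Nat.sub_add_cancel hx.prime.one_le, hx.pow]
    rfl
  let A : Submodule F V := L ⊔ Submodule.span F {w}
  let C : Submodule F V := A ⊔ Submodule.span F {x w + y w}
  have hwA : w ∈ A := (le_sup_right : _ ≤ A) (Submodule.mem_span_singleton_self w)
  have hLA : L ≤ A := le_sup_left
  have hyC : x w + y w ∈ C := (le_sup_right : _ ≤ C) (Submodule.mem_span_singleton_self _)
  have hAC : A ≤ C := le_sup_left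
  have hA5 : 5 ≤ finrank F A := by
    have h1 : L < A := lt_of_le_of_ne hLA (fun h => hw (h ▸ hwA))
    have h2 := Submodule.finrank_lt_finrank_of_lt h1
    omega
  have hC6 : 6 ≤ finrank F C := by
    have h1 : A < C := by
      refine lt_of_le_of_ne hAC (fun h => ?_)
      have h2 : x w + y w ∈ A := h ▸ hyC
      -- `x`-invariance
      let D : Submodule F V := L ⊔ Submodule.span F {w, x w}
      have hLD : L ≤ D := le_sup_left
      have hwD : w ∈ D := (le_sup_right : _ ≤ D) (Submodule.subset_span (by simp))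
      have hxwD : x w ∈ D := (le_sup_right : _ ≤ D) (Submodule.subset_span (by simp))
      have hxA : ∀ v ∈ A, x v ∈ D := by
        intro v hv
        obtain ⟨a, ha, b, hb, rfl⟩ := Submodule.mem_sup.1 hv
        obtain ⟨c, rfl⟩ := Submodule.mem_span_singleton.1 hb
        rw [map_add, map_smul]
        exact D.add_mem (hLD (hLx a ha)) (D.smul_mem c hxwD)
      have hxxw : x (x w) ∈ D := by
        have h3 := hxA _ h2
        rw [map_add, hxy] at h3
        have h4 := D.sub_mem h3 hwD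
        rwa [add_sub_cancel_right] at h4
      have hDx : _root_.Cfsg.Agent.H951.Inv x D := by
        intro v hv
        obtain ⟨a, ha, b, hb, rfl⟩ := Submodule.mem_sup.1 hv
        obtain ⟨c, d, rfl⟩ := Submodule.mem_span_pair.1 hb
        rw [map_add, map_add, map_smul, map_smul]
        exact D.add_mem (hLD (hLx a ha)) (D.add_mem (D.smul_mem c hxwD) (D.smul_mem d hxxw))
      have hDle : finrank F D ≤ 6 := by
        have h5 := Submodule.finrank_add_le_finrank_add_finrank L (Submodule.span F {w, x w})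
        have h6 : finrank F (Submodule.span F ({w, x w} : Set V)) ≤ 2 := by
          have h7 := finrank_span_finset_le_card (R := F) ({w, x w} : Finset V)
          rw [Finset.coe_pair] at h7
          exact h7.trans Finset.card_le_two
        have h8 : finrank F D ≤ finrank F L + finrank F (Submodule.span F ({w, x w} : Set V)) := h5
        omega
      have hD4 : finrank F D = 4 := by
        apply finrank_eq hx hr hV hcm hDx
        · intro h
          exact hL0 (le_bot_iff.1 (h ▸ hLD))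
        · intro h
          rw [h, finrank_top, hV] at hDle
          omega
      have hDL : L = D := Submodule.eq_of_le_of_finrank_eq hLD (by rw [hL4, hD4])
      exact hw (hDL ▸ hwD)
    have h2 := Submodule.finrank_lt_finrank_of_lt h1
    omega
  have hU2 : finrank F (perp Q C) ≤ 2 := by
    have := finrank_add_perp hQ C
    omega
  -- the map
  have hmem : ∀ g, ρ g w - w ∈ perp Q C := by
    intro g
    obtain ⟨u, hu⟩ : ∃ u, u = ρ g w - w := ⟨_, rfl⟩
    rw [← hu]
    have huL : u ∈ L := by rw [hu]; exact hcmL' g w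
    have hgw : ρ g w = w + u := by rw [hu]; abel
    have h1 : polar Q w u = 0 := by
      have h2 := hiso g w
      rw [hgw, QuadraticMap.map_add Q, hQL u huL, add_zero] at h2
      exact add_eq_left.1 h2
    have h2 : polar Q (x w + y w) u = 0 := by
      have h3 := hpol g w (x w)
      rw [hcomm, hgw, map_add, polar_add_left, polar_add_right, polar_add_right, hBL u huL (x u) (hLx u huL),
        add_zero, add_assoc] at h3
      have h4 := add_eq_left.1 h3
      rw [polar_add_left, add_comm, polar_comm Q (x w) u, ← hxpol (y w) u, hxy]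
      exact h4
    rw [mem_perp]
    intro c hc
    obtain ⟨a, ha, b, hb, rfl⟩ := Submodule.mem_sup.1 hc
    obtain ⟨c1, rfl⟩ := Submodule.mem_span_singleton.1 hb
    obtain ⟨a1, ha1, b1, hb1, rfl⟩ := Submodule.mem_sup.1 ha
    obtain ⟨c2, rfl⟩ := Submodule.mem_span_singleton.1 hb1
    rw [polar_add_left, polar_add_left, polar_smul_left, polar_smul_left, hBL a1 ha1 u huL, h1, h2, smul_zero,
      smul_zero, add_zero, add_zero]
  have hinj : Function.Injective (fun g : G => (⟨ρ g w - w, hmem g⟩ : perp Q C)) := by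
    intro g h hgh
    have h1 : ρ g w - w = ρ h w - w := congrArg Subtype.val hgh
    have h2 : ρ g w = ρ h w := sub_left_injective h1
    by_contra hne
    have h3 : h⁻¹ * g ≠ 1 := fun h4 => hne (inv_mul_eq_one.1 h4).symm
    apply hw
    rw [← hfxL _ h3, H951.mem_fx, hmul, h2, ← hmul, inv_mul_cancel, hone]
  have h1 := Nat.card_le_card_of_injective _ hinj
  rw [Module.natCard_eq_pow_finrank (K := F) (V := perp Q C)] at h1
  exact h1.trans (Nat.pow_le_pow_right Nat.card_pos hU2)

end Cfsg.Agent.H953.O8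
end

-- part: H953/Cyc/O8b
section
/-!
# Perfect groups of isometries commuting with an element of order `ppd(q, 4)` with a 4-dimensional commutator space
(helper953, S3679)

* `perfect_trivial` : a perfect group commuting with `x` is trivial on `[V, x]` if that has dimension 4;
* `exists_minus_hom` : such a group embeds in `Ω₄⁻(q)` if `V` has dimension 8 and plus type.
-/

set_option autoImplicit false

namespace Cfsg.Agent.H953.O8

open Module QuadraticMap Cfsg.Agent.LieClassical.OrthCore Cfsg.Agent.H955 Cfsg.Agent.H954.TSing Cfsg.Agent.H884.El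
open Cfsg.Agent.H951 (fx cm Inv)
open scoped MatrixGroups Matrix Polynomial

universe u v

variable {F : Type u} [Field F] [Fintype F] {V : Type v} [AddCommGroup V] [Module F V] [FiniteDimensional F V]
  {Q : QuadraticForm F V} {x : Module.End F V} {r : ℕ}

/-- a perfect group commuting with `x` is trivial on the irreducible commutator space -/
theorem perfect_trivial (hx : Iso Q x r) (hr : PP (Nat.card F) 4 r) (hcm : finrank F (cm x) = 4)
    {G : Type*} [Group G] (hG : commutator G = ⊤) (ρ : G →* Module.End F V)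
    (hcomm : ∀ g v, ρ g (x v) = x (ρ g v)) : ∀ g, ∀ v ∈ cm x, ρ g v = v := by
  intro g v hv
  by_cases hv0 : v = 0
  · rw [hv0, map_zero]
  have hone : ∀ v, ρ 1 v = v := fun v => by rw [MonoidHom.map_one]; rfl
  have hmul : ∀ a b v, ρ (a * b) v = ρ a (ρ b v) := fun a b v => by rw [MonoidHom.map_mul]; rfl
  -- the cyclic subspace generated by `v`
  let C : Submodule F V := LinearMap.range ((LinearMap.applyₗ v).comp (Polynomial.aeval x).toLinearMap :
    F[X] →ₗ[F] V)
  have hC : ∀ a : V, a ∈ C ↔ ∃ f : F[X], Polynomial.aeval x f v = a := fun a => Iff.rfl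
  have hCx : _root_.Cfsg.Agent.H951.Inv x C := by
    intro a ha
    obtain ⟨f, rfl⟩ := (hC a).1 ha
    refine (hC _).2 ⟨Polynomial.X * f, ?_⟩
    rw [map_mul, Polynomial.aeval_X]
    rfl
  have hvC : v ∈ C := (hC v).2 ⟨1, by rw [map_one]; rfl⟩
  have hCcm : C ≤ cm x := by
    intro a ha
    obtain ⟨f, rfl⟩ := (hC a).1 ha
    exact (H951.inv_cm (x := x)).aeval f v hv
  have hC4 : C = cm x := by
    have h1 := hx.dvd hr hCx
    rw [inf_eq_left.2 hCcm] at h1
    have h2 : finrank F C ≠ 0 := by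
      intro h
      rw [Submodule.finrank_eq_zero] at h
      rw [h] at hvC
      exact hv0 ((Submodule.mem_bot F).1 hvC)
    have h3 := Submodule.finrank_mono hCcm
    exact Submodule.eq_of_le_of_finrank_eq hCcm (by omega)
  have hgf : ∀ (g : G) (f : F[X]) (a : V), ρ g (Polynomial.aeval x f a) = Polynomial.aeval x f (ρ g a) := by
    intro g f a
    induction f using Polynomial.induction_on' generalizing a with
    | add p q hp hq => rw [map_add, LinearMap.add_apply, LinearMap.add_apply, map_add, hp, hq]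
    | monomial n c =>
      rw [Polynomial.aeval_monomial, Module.End.mul_apply, Module.End.mul_apply, Module.algebraMap_end_apply,
        Module.algebraMap_end_apply, map_smul]
      congr 1
      induction n generalizing a with
      | zero => rfl
      | succ n ih => rw [pow_succ, Module.End.mul_apply, Module.End.mul_apply, ih, hcomm]
  have hgC : ∀ g : G, ∃ f : F[X], Polynomial.aeval x f v = ρ g v := by
    intro g
    have h1 : ρ g v ∈ cm x := by
      obtain ⟨w, rfl⟩ := H951.mem_cm.1 hv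
      exact H951.mem_cm.2 ⟨ρ g w, by rw [map_sub, hcomm]⟩
    rw [← hC4] at h1
    exact (hC _).1 h1
  have hab : ∀ g h : G, ρ (g * h) v = ρ (h * g) v := by
    intro g h
    obtain ⟨f1, h1⟩ := hgC g
    obtain ⟨f2, h2⟩ := hgC h
    rw [hmul, hmul, ← h1, ← h2, hgf, hgf, ← h1, ← h2, ← Module.End.mul_apply, ← Module.End.mul_apply,
      ← map_mul, ← map_mul, mul_comm]
  -- the stabilizer of `v`
  let K : Subgroup G :=
    { carrier := {g | ρ g v = v}
      mul_mem' := fun {a b} ha hb => by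
        show ρ (a * b) v = v
        rw [hmul, show ρ b v = v from hb, show ρ a v = v from ha]
      one_mem' := hone v
      inv_mem' := fun {a} ha => by
        show ρ a⁻¹ v = v
        have h1 : ρ a v = v := ha
        conv_lhs => rw [← h1]
        rw [← hmul, inv_mul_cancel, hone] }
  have hK : commutator G ≤ K := by
    rw [commutator_def, Subgroup.commutator_le]
    intro a _ b _
    change ρ (a * b * a⁻¹ * b⁻¹) v = v
    rw [mul_assoc, hmul, hab a⁻¹ b⁻¹, ← hmul]
    have : a * b * (b⁻¹ * a⁻¹) = 1 := by group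
    rw [this, hone]
  exact hK (hG ▸ Subgroup.mem_top g)

/-- **the embedding in `Ω₄⁻(q)`.** -/
theorem exists_minus_hom (hx : Iso Q x r) (hr : PP (Nat.card F) 4 r) (hQ : Nondeg Q) (hV : finrank F V = 8)
    (hP : IsPlus Q) (hcm : finrank F (cm x) = 4) {G : Type*} [Group G] (hG : commutator G = ⊤)
    (ρ : G →* Module.End F V) (hρ : Function.Injective ρ) (hiso : ∀ g v, Q (ρ g v) = Q v)
    (hcomm : ∀ g v, ρ g (x v) = x (ρ g v)) :
    ∃ a b : F, (∀ z₁ z₂ : F, z₁ ^ 2 + a * z₁ * z₂ + b * z₂ ^ 2 = 0 → z₁ = 0 ∧ z₂ = 0) ∧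
      ∃ φ : G →* Cfsg.Omega F (Cfsg.quadFormMinus 1 F a b), Function.Injective φ := by
  classical
  have := Fact.mk hr.prime
  have htriv := perfect_trivial hx hr hcm hG ρ hcomm
  have hone : ∀ v, ρ 1 v = v := fun v => by rw [MonoidHom.map_one]; rfl
  have hmul : ∀ a b v, ρ (a * b) v = ρ a (ρ b v) := fun a b v => by rw [MonoidHom.map_mul]; rfl
  have hob_ := exists_aniso_coeff F
  obtain ⟨a, b, hab⟩ := hob_
  refine ⟨a, b, hab, ?_⟩
  -- the fixed space
  have hadd := hx.finrank_add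
  have h4 : finrank F (fx x) = 4 := by omega
  have hfn : Nondeg (res Q (fx x)) := by
    have h1 := nondeg_perp hQ (nondeg_cm hQ hx.iso hx.ne0 hx.pow)
    rwa [perp_cm hQ hx.iso hx.ne0 hx.pow] at h1
  have hcmP : ¬ IsPlus (res Q (cm x)) := by
    rw [isPlus_cm_iff hx.two_lt hQ hx.iso hx.ne0 hx.pow (ord_eq hr) (by decide) (A := 1) (by omega)]
    decide
  have hfP : ¬ IsPlus (res Q (fx x)) := by
    intro h
    have h1 := (hx.isPlus_fx hQ (by rw [hV]; decide) (by rw [hcm]; decide)).1 hP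
    exact hcmP (h1.2 h)
  have hob_ := exists_minus_equiv hab 1 (res Q (fx x)) hfn (by omega) hfP
  obtain ⟨e, he⟩ := hob_
  have hinv : ∀ g, ∀ v ∈ fx x, ρ g v ∈ fx x := by
    intro g v hv
    rw [H951.mem_fx] at hv ⊢
    rw [← hcomm, hv]
  -- the representation on the fixed space
  let ρ0 : G →* Module.End F (fx x) :=
    { toFun := fun g => (ρ g).restrict (hinv g)
      map_one' := by
        ext v
        exact hone v
      map_mul' := fun g h => by
        ext v
        exact hmul g h v }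
  have hρ0 : ∀ g (v : fx x), ((ρ0 g v : fx x) : V) = ρ g v := fun g v => rfl
  let σ : G →* Module.End F ((Fin 1 ⊕ Fin 1) ⊕ Fin 2 → F) := (e.conjAlgEquiv F).toMonoidHom.comp ρ0
  have hσ : ∀ g v, σ g v = e (ρ0 g (e.symm v)) := fun g v => rfl
  let τ : G →* GL ((Fin 1 ⊕ Fin 1) ⊕ Fin 2) F :=
    (Matrix.GeneralLinearGroup.toLin (n := ((Fin 1 ⊕ Fin 1) ⊕ Fin 2)) (R := F)).symm.toMonoidHom.comp σ.toHomUnits
  have hτ : ∀ g v, (τ g : Matrix _ _ F) *ᵥ v = σ g v := by
    intro g v
    have h1 : Matrix.GeneralLinearGroup.toLin (τ g) = σ.toHomUnits g :=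
      (Matrix.GeneralLinearGroup.toLin (n := ((Fin 1 ⊕ Fin 1) ⊕ Fin 2)) (R := F)).apply_symm_apply _
    have h2 := congrArg (fun z : LinearMap.GeneralLinearGroup F ((Fin 1 ⊕ Fin 1) ⊕ Fin 2 → F) =>
      (z : Module.End F ((Fin 1 ⊕ Fin 1) ⊕ Fin 2 → F)) v) h1
    exact h2
  have hτm : ∀ g, τ g ∈ Cfsg.isometryGroup F (Cfsg.quadFormMinus 1 F a b) := by
    intro g
    rw [H925.mem_iso_iff]
    intro v
    have h1 : ∀ w, Cfsg.quadFormMinus 1 F a b w = LieClassical.QuadForms.minusForm 1 F a b w := fun w => by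
      rw [LieClassical.QuadForms.coe_minusForm]
    rw [hτ, hσ, h1, h1, he, res_apply, hρ0, hiso]
    have h2 := he (e.symm v)
    rw [LinearEquiv.apply_symm_apply] at h2
    rw [h2, res_apply]
  let τ1 : G →* Cfsg.isometryGroup F (Cfsg.quadFormMinus 1 F a b) := τ.codRestrict _ hτm
  have hτ1 : Function.Injective τ1 := by
    rw [injective_iff_map_eq_one]
    intro g hg
    apply hρ
    rw [MonoidHom.map_one]
    apply LinearMap.ext
    intro v
    show ρ g v = v
    have h1 : τ g = 1 := congrArg Subtype.val hg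
    have h2 : ∀ w : fx x, ρ g w = w := by
      intro w
      have h3 := hτ g (e w)
      rw [h1, hσ, LinearEquiv.symm_apply_apply, Units.val_one, Matrix.one_mulVec] at h3
      have h4 := e.injective h3
      rw [← hρ0, ← h4]
    have h5 : v ∈ fx x ⊔ cm x := by
      rw [(H951.isCompl_fx_cm hx.ne0 hx.pow).sup_eq_top]
      trivial
    obtain ⟨v1, hv1, v2, hv2, rfl⟩ := Submodule.mem_sup.1 h5
    rw [map_add, htriv g v2 hv2, h2 ⟨v1, hv1⟩]
  have hτ2 : ∀ g, τ1 g ∈ Cfsg.Omega F (Cfsg.quadFormMinus 1 F a b) := by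
    intro g
    have h1 : g ∈ commutator G := hG ▸ Subgroup.mem_top g
    have h2 : (commutator G).map τ1 ≤ commutator (Cfsg.isometryGroup F (Cfsg.quadFormMinus 1 F a b)) := by
      rw [commutator_def, Subgroup.map_commutator, commutator_def]
      exact Subgroup.commutator_mono le_top le_top
    exact h2 ⟨g, h1, rfl⟩
  exact ⟨τ1.codRestrict _ hτ2, fun g h hgh => hτ1 (congrArg Subtype.val hgh)⟩

end Cfsg.Agent.H953.O8
end

-- part: H953/Cyc/O8c
section
/-!
# Lifting commuting pairs, perfect subgroups and `r`-subgroups through a central extension by an elementary abelian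
2-group (helper953, S3679)

* `lift_elt`, `exists_perfect_lift`, `exists_lift_pgroup`;
* `exists_fx_ne_bot`, `card_le_of_elem` : elementary abelian `r`-groups in dimension 8, `ord_r(q) = 4`.
-/

set_option autoImplicit false

namespace Cfsg.Agent.H953.O8

open Subgroup

section lift

variable {E T : Type*} [Group E] [Group T]

/-- a lift of the same odd order, with the full centralizer -/
theorem lift_elt (π : E →* T) (hπ : Function.Surjective π) (hz : ∀ z ∈ π.ker, z * z = 1 ∧ ∀ g, g * z = z * g) {r : ℕ}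
    (hr : Odd r) {x : T} (hx : x ^ r = 1) :
    ∃ y : E, π y = x ∧ y ^ r = 1 ∧ ∀ g : E, π g * x = x * π g → g * y = y * g := by
  obtain ⟨y0, hy0⟩ := hπ x
  obtain ⟨k, hk⟩ := hr
  have h1 : y0 ^ r ∈ π.ker := by rw [MonoidHom.mem_ker, MonoidHom.map_pow, hy0, hx]
  have hyr : (y0 ^ (r + 1)) ^ r = 1 := by
    rw [← pow_mul, mul_comm, pow_mul, hk, show 2 * k + 1 + 1 = 2 * (k + 1) by ring, pow_mul, pow_two, ← hk,
      (hz _ h1).1, one_pow]
  refine ⟨y0 ^ (r + 1), by rw [MonoidHom.map_pow, hy0, pow_succ, hx, one_mul], hyr, ?_⟩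
  generalize hy : y0 ^ (r + 1) = y at hyr
  have hyx : π y = x := by rw [← hy, MonoidHom.map_pow, hy0, pow_succ, hx, one_mul]
  intro g hg
  have hzk : g * y * g⁻¹ * y⁻¹ ∈ π.ker := by
    rw [MonoidHom.mem_ker, MonoidHom.map_mul, MonoidHom.map_mul, MonoidHom.map_mul, MonoidHom.map_inv, MonoidHom.map_inv, hyx, hg]
    group
  obtain ⟨z, hzz⟩ : ∃ z, z = g * y * g⁻¹ * y⁻¹ := ⟨_, rfl⟩
  rw [← hzz] at hzk
  obtain ⟨h2, h3⟩ := hz z hzk
  have h4 : g * y * g⁻¹ = z * y := by rw [hzz]; group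
  have h5 : (g * y * g⁻¹) ^ r = 1 := by
    rw [conj_pow, hyr]
    group
  rw [h4, (show Commute z y from (h3 y).symm).mul_pow, hyr, mul_one] at h5
  have h6 : z = 1 := by
    rw [hk, pow_succ, pow_mul, pow_two, h2, one_pow, one_mul] at h5
    exact h5
  rw [h6, one_mul] at h4
  exact mul_inv_eq_iff_eq_mul.1 h4

/-- a perfect subgroup lifts to a perfect subgroup -/
theorem exists_perfect_lift [Finite E] (π : E →* T) (hπ : Function.Surjective π) {H : Subgroup T} (hH : ⁅H, H⁆ = H) :
    ∃ K : Subgroup E, ⁅K, K⁆ = K ∧ K.map π = H := by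
  have hex : ∃ K : Subgroup E, K.map π = H := ⟨H.comap π, Subgroup.map_comap_eq_self_of_surjective hπ H⟩
  obtain ⟨K, hK⟩ := Set.Finite.exists_minimal (s := {K : Subgroup E | K.map π = H}) (Set.toFinite _) hex
  refine ⟨K, ?_, hK.1⟩
  have h1 : ⁅K, K⁆ ≤ K := Subgroup.commutator_le_self K
  apply le_antisymm h1
  apply hK.2 _ h1
  show (⁅K, K⁆).map π = H
  rw [Subgroup.map_commutator, hK.1, hH]

/-- an `r`-subgroup lifts isomorphically, `r` odd -/
theorem exists_lift_pgroup [Finite E] (π : E →* T) (hπ : Function.Surjective π) (hz : ∀ z ∈ π.ker, z * z = 1) {r : ℕ}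
    (hr : r.Prime) (hr2 : r ≠ 2) {P : Subgroup T} (hP : IsPGroup r P) :
    ∃ P' : Subgroup E, IsPGroup r P' ∧ (∀ a ∈ P', π a ∈ P) ∧ (∀ a ∈ P', π a = 1 → a = 1) ∧
      Nat.card P' = Nat.card P := by
  have := Fact.mk hr
  have hTfin : Finite T := Finite.of_surjective π hπ
  obtain ⟨R⟩ : Nonempty (Sylow r (P.comap π)) := inferInstance
  let P' : Subgroup E := (R : Subgroup (P.comap π)).map (P.comap π).subtype
  have hP' : IsPGroup r P' := R.isPGroup'.map _
  have hle : P' ≤ P.comap π := Subgroup.map_subtype_le _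
  have hinj : ∀ a ∈ P', π a = 1 → a = 1 := by
    intro a ha h1
    obtain ⟨k, hk⟩ := hP' ⟨a, ha⟩
    have hk' : a ^ r ^ k = 1 := by simpa only [_root_.SubmonoidClass.mk_pow, _root_.OneMemClass.coe_one] using congrArg Subtype.val hk
    obtain ⟨j, hj⟩ : Odd (r ^ k) := (hr.odd_of_ne_two hr2).pow
    rw [hj, pow_succ, pow_mul, pow_two, hz a h1, one_pow, one_mul] at hk'
    exact hk'
  refine ⟨P', hP', fun a ha => hle ha, hinj, ?_⟩
  apply le_antisymm
  · refine Nat.card_le_card_of_injective (fun a : P' => (⟨π a, hle a.2⟩ : P)) ?_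
    intro a b hab
    have h1 : π a = π b := congrArg Subtype.val hab
    have h2 : ((a : E)⁻¹ * b) = 1 := hinj _ (P'.mul_mem (P'.inv_mem a.2) b.2) (by
      rw [MonoidHom.map_mul, MonoidHom.map_inv, h1, inv_mul_cancel])
    exact Subtype.ext (inv_mul_eq_one.1 h2)
  · -- the Sylow subgroup has order at least `|P|`
    obtain ⟨n, hn⟩ := hP.exists_card_eq
    have h1 : Nat.card P ∣ Nat.card (P.comap π) := by
      have h2 : (P.comap π).map π = P := Subgroup.map_comap_eq_self_of_surjective hπ P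
      have h3 := Subgroup.card_map_dvd (P.comap π) π
      rwa [h2] at h3
    rw [hn] at h1 ⊢
    have h2 := R.pow_dvd_card_of_pow_dvd_card h1
    have h4 : Nat.card P' = Nat.card R :=
      Subgroup.card_map_of_injective (P.comap π).subtype_injective
    rw [h4]
    exact Nat.le_of_dvd Nat.card_pos h2

end lift

section elem

open Module Cfsg.Agent.H884.El
open Cfsg.Agent.H951 (fx cm Inv)

universe u v

variable {F : Type u} [Field F] [Fintype F] {V : Type v} [AddCommGroup V] [Module F V] [FiniteDimensional F V]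
  {r : ℕ}

theorem card_le_of_cyclic {Γ : Type*} [Group Γ] [Finite Γ] (hexp : ∀ a : Γ, a ^ r = 1) (hr : 0 < r) (h : IsCyclic Γ) :
    Nat.card Γ ≤ r := by
  obtain ⟨g, hg⟩ := h.exists_generator
  rw [← orderOf_eq_card_of_forall_mem_zpowers hg]
  exact Nat.le_of_dvd hr (orderOf_dvd_of_pow_eq_one (hexp g))

/-- exponent `r`, faithful in dimension less than 8 -/
theorem card_le_of_lt (hr : PP (Nat.card F) 4 r) (hV : finrank F V < 8) {Γ : Type*} [Group Γ] [Finite Γ]
    (hexp : ∀ a : Γ, a ^ r = 1) (ρ : Γ →* Module.End F V) (hρ : Function.Injective ρ) : Nat.card Γ ≤ r := by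
  have := Fact.mk hr.prime
  have hfV : Finite V := Module.finite_of_finite F
  apply card_le_of_cyclic hexp hr.prime.pos
  refine H200.LinFix.isCyclic_of (p := r) (d := 4) (fun g => ⟨1, by rw [pow_one]; exact hexp g⟩) ρ hρ
    (fun m hm => (hr.dvd_iff Nat.card_pos m).1 hm) (PP.ne0 hr (by norm_num)) (by omega)

/-- **elementary abelian `r`-groups in dimension 8 have rank at most 2.** -/
theorem card_le_of_elem (hr : PP (Nat.card F) 4 r) (hV : finrank F V = 8) {A : Type*} [Group A] [Finite A]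
    (hcomm : ∀ a b : A, a * b = b * a) (hexp : ∀ a : A, a ^ r = 1) (ρ : A →* Module.End F V)
    (hρ : Function.Injective ρ) : Nat.card A ≤ r ^ 2 := by
  classical
  have := Fact.mk hr.prime
  have hrp := hr.prime.pos
  by_contra hcon
  push Not at hcon
  have hA : IsPGroup r A := fun g => ⟨1, by rw [pow_one]; exact hexp g⟩
  have hnc : ¬ IsCyclic (⊤ : Subgroup A) := by
    intro h
    have h1 : Nat.card (⊤ : Subgroup A) ≤ r :=
      card_le_of_cyclic (fun a => Subtype.ext (hexp a)) hrp h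
    rw [Subgroup.card_top] at h1
    have h2 : r ^ 1 ≤ r ^ 2 := Nat.pow_le_pow_right hrp (by norm_num)
    rw [pow_one] at h2
    omega
  obtain ⟨a, b, -, -, -, hap, -, ha1, v, hav, hbv⟩ := H501.RealGen.nonc ρ hρ
    (by have := hr.lt (by norm_num); omega) (hr.not_dvd (by norm_num)) (hA.to_subgroup ⊤) hnc
  have hv0 : v ≠ 0 := by
    rintro rfl
    exact hbv (map_zero _)
  have hone : ∀ v, ρ 1 v = v := fun v => by rw [MonoidHom.map_one]; rfl
  have hmul : ∀ a b v, ρ (a * b) v = ρ a (ρ b v) := fun a b v => by rw [MonoidHom.map_mul]; rfl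
  have hx : Iso (0 : QuadraticForm F V) (ρ a) r :=
    Iso.mk' hr (by norm_num) (by rw [← MonoidHom.map_pow, hap, MonoidHom.map_one]) (fun v => rfl)
  have hadd := hx.finrank_add
  have hdvd := hx.dvd_cm hr
  have hc0 : finrank F (cm (ρ a)) ≠ 0 := fun h =>
    cm_ne_bot (x := ρ a) (fun h1 => ha1 (hρ (by rw [h1, MonoidHom.map_one]))) (Submodule.finrank_eq_zero.1 h)
  have hf0 : finrank F (fx (ρ a)) ≠ 0 := by
    intro h
    have h1 : v ∈ fx (ρ a) := H951.mem_fx.2 hav
    rw [Submodule.finrank_eq_zero.1 h] at h1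
    exact hv0 ((Submodule.mem_bot F).1 h1)
  have hcomm' : ∀ c v, ρ c (ρ a v) = ρ a (ρ c v) := fun c v => by rw [← hmul, hcomm, hmul]
  have hinv : ∀ c, ∀ v ∈ fx (ρ a), ρ c v ∈ fx (ρ a) := by
    intro c v hv
    rw [H951.mem_fx] at hv ⊢
    rw [← hcomm', hv]
  have hinv' : ∀ c, ∀ v ∈ cm (ρ a), ρ c v ∈ cm (ρ a) := by
    intro c v hv
    obtain ⟨w, rfl⟩ := H951.mem_cm.1 hv
    exact H951.mem_cm.2 ⟨ρ c w, by rw [map_sub, hcomm']⟩
  let ρ0 : A →* Module.End F (fx (ρ a)) :=
    { toFun := fun g => (ρ g).restrict (hinv g)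
      map_one' := by
        ext v
        exact hone v
      map_mul' := fun g h => by
        ext v
        exact hmul g h v }
  let ρ1 : A →* Module.End F (cm (ρ a)) :=
    { toFun := fun g => (ρ g).restrict (hinv' g)
      map_one' := by
        ext v
        exact hone v
      map_mul' := fun g h => by
        ext v
        exact hmul g h v }
  let τ := ρ0.toHomUnits
  have hτfin : Finite τ.range := Finite.of_surjective _ τ.rangeRestrict_surjective
  have h1 : Nat.card τ.range ≤ r := by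
    refine card_le_of_lt (V := fx (ρ a)) hr (by omega) ?_ ((Units.coeHom _).comp τ.range.subtype) ?_
    · rintro ⟨_, c, rfl⟩
      apply Subtype.ext
      show τ c ^ r = 1
      rw [← MonoidHom.map_pow, hexp, MonoidHom.map_one]
    · intro c d hcd
      exact Subtype.ext (Units.ext hcd)
  have h2 : Nat.card τ.ker ≤ r := by
    refine card_le_of_lt (V := cm (ρ a)) hr (by omega) (fun c => Subtype.ext (hexp c)) (ρ1.comp τ.ker.subtype) ?_
    rw [injective_iff_map_eq_one]
    rintro ⟨c, hc⟩ hc1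
    apply Subtype.ext
    apply hρ
    show ρ c = ρ 1
    rw [MonoidHom.map_one]
    apply LinearMap.ext
    intro w
    show ρ c w = w
    have h5 : w ∈ fx (ρ a) ⊔ cm (ρ a) := by
      rw [(H951.isCompl_fx_cm hx.ne0 hx.pow).sup_eq_top]
      trivial
    obtain ⟨v1, hv1, v2, hv2, rfl⟩ := Submodule.mem_sup.1 h5
    rw [map_add]
    congr 1
    · have h6 : τ c = 1 := hc
      have h7 := congrArg (fun z : (Module.End F (fx (ρ a)))ˣ => (((z : Module.End F (fx (ρ a))) ⟨v1, hv1⟩ :
        fx (ρ a)) : V)) h6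
      exact h7
    · have h7 := congrArg (fun z : Module.End F (cm (ρ a)) => ((z ⟨v2, hv2⟩ : cm (ρ a)) : V)) hc1
      exact h7
  have h3 : Nat.card A = Nat.card τ.ker * Nat.card τ.range := by
    rw [← Subgroup.card_mul_index τ.ker, Subgroup.index_ker]
  rw [h3, pow_two] at hcon
  exact absurd (Nat.mul_le_mul h2 h1) (by omega)

end elem

end Cfsg.Agent.H953.O8
end

-- part: H953/Cyc/O8d
section
/-!
# `PΩ₈⁺(q)`: subgroups commuting with an element of order `r`, `ord_r(q) = 4` (helper953, S3679)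

* `pow_dvd_sq` : `H ≤ PΩ₈⁺(q)` perfect with trivial centre, commuting with `x ≠ 1`, `x ^ r = 1`: `|H|_p ∣ q ^ 2`;
* `elem_le` : elementary abelian `r`-subgroups have order at most `r ^ 2`;
* `fac_eq_two`, `fac_pow_dvd`, `fac_index` : in a factorization `T = A M`, `A ≅ S ^ l`, `r ∣ |S|`: `l = 2`,
  `|S|_p ∣ q ^ 2` and `|T : M|_p ∣ q ^ 4`.
-/

set_option autoImplicit false
set_option linter.unusedSectionVars false

namespace Cfsg.Agent.H953.O8

open Subgroup Module Cfsg.Agent.LieClassical.OrthCore Cfsg.Agent.LieClassical.OrthTrans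
  Cfsg.Agent.LieClassical.OrthSimple Cfsg.Agent.LieClassical.OrthFinite
  Cfsg.Agent.ClassicalGeometry.OrthSemiForms Cfsg.Agent.H884.El Cfsg.Agent.H899.CG
open Cfsg.Agent.H951 (fx cm Inv)
open scoped MatrixGroups Matrix

universe u

section basics

variable (F : Type u) [Field F] [Fintype F]

/-- the linear action of `Ω₈⁺(q)` -/
noncomputable def rho : Cfsg.Omega F (Cfsg.quadFormPlus 4 F) →* Module.End F (Fin 4 ⊕ Fin 4 → F) :=
  (Matrix.toLinAlgEquiv' (R := F) (n := Fin 4 ⊕ Fin 4)).toAlgHom.toRingHom.toMonoidHom.comp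
    ((Units.coeHom _).comp ((Cfsg.isometryGroup F (Cfsg.quadFormPlus 4 F)).subtype.comp
      (Cfsg.Omega F (Cfsg.quadFormPlus 4 F)).subtype))

variable {F}

theorem rho_apply (g : Cfsg.Omega F (Cfsg.quadFormPlus 4 F)) (v : Fin 4 ⊕ Fin 4 → F) :
    rho F g v = ((g.1.1 : GL (Fin 4 ⊕ Fin 4) F) : Matrix _ _ F) *ᵥ v := rfl

theorem rho_injective : Function.Injective (rho F) := by
  intro g h hgh
  apply Subtype.ext
  apply Subtype.ext
  apply Units.ext
  exact (Matrix.toLinAlgEquiv' (R := F) (n := Fin 4 ⊕ Fin 4)).injective hgh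

theorem rho_iso (g : Cfsg.Omega F (Cfsg.quadFormPlus 4 F)) (v : Fin 4 ⊕ Fin 4 → F) :
    LieClassical.QuadForms.plusForm 4 F (rho F g v) = LieClassical.QuadForms.plusForm 4 F v := by
  rw [rho_apply, LieClassical.QuadForms.coe_plusForm]
  exact H925.mem_iso_iff.1 g.1.2 v

theorem finite_end : Finite (Module.End F (Fin 4 ⊕ Fin 4 → F)) :=
  Finite.of_injective (fun f => (f : (Fin 4 ⊕ Fin 4 → F) → (Fin 4 ⊕ Fin 4 → F))) DFunLike.coe_injective

theorem finite_omega : Finite (Cfsg.Omega F (Cfsg.quadFormPlus 4 F)) :=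
  have := finite_end (F := F)
  Finite.of_injective _ (rho_injective (F := F))

theorem finite_pomega : Finite (Cfsg.POmega F (Cfsg.quadFormPlus 4 F)) :=
  have := finite_omega (F := F)
  Finite.of_surjective _ (QuotientGroup.mk'_surjective (center (Cfsg.Omega F (Cfsg.quadFormPlus 4 F))))

variable (F) in
/-- the projection -/
def proj : Cfsg.Omega F (Cfsg.quadFormPlus 4 F) →* Cfsg.POmega F (Cfsg.quadFormPlus 4 F) :=
  QuotientGroup.mk' (center (Cfsg.Omega F (Cfsg.quadFormPlus 4 F)))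

theorem proj_surjective : Function.Surjective (proj F) := QuotientGroup.mk'_surjective _

theorem proj_ker : ∀ z ∈ (proj F).ker, z * z = 1 ∧ ∀ g, g * z = z * g := by
  have hG : Good (LieClassical.OrthForms.plusForm 4 F) := good_plus (by norm_num)
  intro z hz
  have hz' : z ∈ center (Cfsg.Omega F (Cfsg.quadFormPlus 4 F)) := by
    rwa [proj, QuotientGroup.ker_mk'] at hz
  refine ⟨?_, fun g => mem_center_iff.1 hz' g⟩
  clear hz
  revert z
  rw [← LieClassical.OrthForms.coe_plusForm]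
  intro z hz
  exact H948.OnCyc.center_omega_sq hG hz

end basics

variable {F : Type u} [Field F] [Fintype F] {p r : ℕ}

/-- the order of `PΩ₄⁻(q)` -/
theorem dvd_minus [hp : Fact p.Prime] {n : ℕ} (hn : Fintype.card F = p ^ n) {a b : F}
    (hab : ∀ z₁ z₂ : F, z₁ ^ 2 + a * z₁ * z₂ + b * z₂ ^ 2 = 0 → z₁ = 0 ∧ z₂ = 0) {k : ℕ}
    (hk : p ^ k ∣ Nat.card (Cfsg.POmega F (Cfsg.quadFormMinus 1 F a b))) : p ^ k ∣ Fintype.card F ^ 2 := by
  classical
  have hn0 : n ≠ 0 := by
    rintro rfl
    have := Fintype.one_lt_card (α := F)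
    rw [hn, pow_zero] at this
    omega
  let K := GaloisField p (2 * n)
  have hKfin : Finite K := Nat.finite_of_card_ne_zero (by
    rw [GaloisField.card p (2 * n) (by omega)]
    exact pow_ne_zero _ hp.out.ne_zero)
  let _ : Fintype K := Fintype.ofFinite K
  have hK : Fintype.card K = (Fintype.card F) ^ 2 := by
    rw [← Nat.card_eq_fintype_card, GaloisField.card p (2 * n) (by omega), hn, ← pow_mul, mul_comm]
  obtain ⟨e⟩ := S0300.result rfl hK a b hab
  rw [Nat.card_congr e.toEquiv] at hk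
  have h1 : Nat.card (Matrix.ProjectiveSpecialLinearGroup (Fin 2) K) ∣
      Nat.card (Matrix.SpecialLinearGroup (Fin 2) K) :=
    Subgroup.card_quotient_dvd_card _
  have h2 : Nat.card (Matrix.SpecialLinearGroup (Fin 2) K) ∣ Nat.card (Matrix.GeneralLinearGroup (Fin 2) K) :=
    Subgroup.card_dvd_of_injective Matrix.SpecialLinearGroup.toGL Matrix.SpecialLinearGroup.toGL_injective
  have h3 := hk.trans (h1.trans h2)
  rw [Matrix.card_GL_field, Fin.prod_univ_two, hK] at h3
  have hq : 1 < Fintype.card F := Fintype.one_lt_card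
  obtain ⟨Q, hQ⟩ : ∃ Q, Q = Fintype.card F ^ 2 := ⟨_, rfl⟩
  rw [← hQ] at h3 ⊢
  have hQ1 : 1 < Q := by rw [hQ]; exact Nat.one_lt_pow (by norm_num) hq
  have hpQ : p ∣ Q := by rw [hQ, hn, ← pow_mul]; exact dvd_pow_self _ (by omega)
  have h4 : (Q ^ 2 - Q ^ ((0 : Fin 2) : ℕ)) * (Q ^ 2 - Q ^ ((1 : Fin 2) : ℕ)) = ((Q ^ 2 - 1) * (Q - 1)) * Q := by
    have h5 : Q ^ 2 - Q ^ ((1 : Fin 2) : ℕ) = (Q - 1) * Q := by
      rw [Nat.sub_mul, one_mul, ← pow_two]
      simp
    rw [h5]
    simp only [Fin.val_zero, pow_zero]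
    ring
  rw [h4] at h3
  have hc1 : Nat.Coprime p (Q ^ 2 - 1) := by
    rw [Nat.Prime.coprime_iff_not_dvd hp.out]
    intro h
    have h6 : p ∣ Q ^ 2 := hpQ.trans (dvd_pow_self _ (by norm_num))
    have h7 : p ∣ Q ^ 2 - (Q ^ 2 - 1) := Nat.dvd_sub h6 h
    have h8 : 1 ≤ Q ^ 2 := Nat.one_le_pow _ _ (by omega)
    rw [Nat.sub_sub_self h8] at h7
    exact hp.out.one_lt.ne' (Nat.dvd_one.1 h7)
  have hc2 : Nat.Coprime p (Q - 1) := by
    rw [Nat.Prime.coprime_iff_not_dvd hp.out]
    intro h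
    have h7 : p ∣ Q - (Q - 1) := Nat.dvd_sub hpQ h
    rw [Nat.sub_sub_self (by omega)] at h7
    exact hp.out.one_lt.ne' (Nat.dvd_one.1 h7)
  exact (Nat.Coprime.pow_left k (hc1.mul_right hc2)).dvd_of_dvd_mul_left h3

seal _root_.Finset.sum _root_.dotProduct in
/-- **the `p`-part of a perfect centreless subgroup commuting with an element of order `r`** -/
theorem pow_dvd_sq [hp : Fact p.Prime] [CharP F p] (hr : PP (Nat.card F) 4 r)
    {H : Subgroup (Cfsg.POmega F (Cfsg.quadFormPlus 4 F))} (hH : ⁅H, H⁆ = H)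
    (hc : ∀ z ∈ H, (∀ h ∈ H, h * z = z * h) → z = 1) {x : Cfsg.POmega F (Cfsg.quadFormPlus 4 F)} (hx : x ^ r = 1)
    (hx1 : x ≠ 1) (hcomm : ∀ h ∈ H, h * x = x * h) {k : ℕ} (hk : p ^ k ∣ Nat.card H) :
    p ^ k ∣ Nat.card F ^ 2 := by
  classical
  have hfE := finite_end (F := F)
  have hfO := finite_omega (F := F)
  have hfP := finite_pomega (F := F)
  have hrodd : Odd r := hr.odd (by norm_num)
  obtain ⟨y, hyx, hyr, hy⟩ := lift_elt (proj F) proj_surjective proj_ker hrodd hx
  obtain ⟨K, hK, hKH⟩ := exists_perfect_lift (proj F) proj_surjective hH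
  have hπK : ∀ g ∈ K, proj F g ∈ H := fun g hg => hKH ▸ ⟨g, hg, rfl⟩
  have hKy : ∀ g ∈ K, g * y = y * g := fun g hg => hy g (hcomm _ (hπK g hg))
  have hy1 : y ≠ 1 := by
    rintro rfl
    exact hx1 (by rw [← hyx, MonoidHom.map_one])
  -- the data
  have hIso : Iso (LieClassical.QuadForms.plusForm 4 F) (rho F y) r :=
    Iso.mk' hr (by norm_num) (by rw [← MonoidHom.map_pow, hyr, MonoidHom.map_one]) (rho_iso y)
  have hQ : Nondeg (LieClassical.QuadForms.plusForm 4 F) := H955.nondeg_plus 4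
  have hP : H955.IsPlus (LieClassical.QuadForms.plusForm 4 F) := H955.isPlus_plus 4
  have hV : finrank F (Fin 4 ⊕ Fin 4 → F) = 8 := H955.finrank_plus 4
  have hρy : rho F y ≠ 1 := fun h => hy1 (rho_injective (by rw [h, MonoidHom.map_one]))
  let ρ : K →* Module.End F (Fin 4 ⊕ Fin 4 → F) := (rho F).comp K.subtype
  have hρ : Function.Injective ρ := rho_injective.comp K.subtype_injective
  have hρiso : ∀ g v, LieClassical.QuadForms.plusForm 4 F (ρ g v) = LieClassical.QuadForms.plusForm 4 F v :=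
    fun g v => rho_iso g.1 v
  have hρc : ∀ g v, ρ g (rho F y v) = rho F y (ρ g v) := by
    intro g v
    show (rho F g.1 * rho F y) v = (rho F y * rho F g.1) v
    simp only [← map_mul, ← map_mul, hKy g.1 g.2]
  have hdvd := hIso.dvd_cm hr
  have hc0 : finrank F (cm (rho F y)) ≠ 0 := fun h => cm_ne_bot hρy (Submodule.finrank_eq_zero.1 h)
  have hle : finrank F (cm (rho F y)) ≤ 8 := hV ▸ Submodule.finrank_le _
  obtain ⟨n, -, hn⟩ := FiniteField.card F p
  have hkK : p ^ k ∣ Nat.card K := by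
    have h1 := Subgroup.card_map_dvd K (proj F)
    rw [hKH] at h1
    exact hk.trans h1
  have h48 : finrank F (cm (rho F y)) = 4 ∨ finrank F (cm (rho F y)) = 8 := by omega
  rcases h48 with h4 | h8
  · -- the commutator space has dimension 4
    have hKt : commutator K = ⊤ := by
      apply Subgroup.map_injective K.subtype_injective
      simp only [commutator_def (↥K), Subgroup.map_commutator ⊤ ⊤ K.subtype, ← MonoidHom.range_eq_map K.subtype, Subgroup.range_subtype, hK]
    obtain ⟨a, b, hab, φ, hφ⟩ := exists_minus_hom hIso hr hQ hV hP h4 hKt ρ hρ hρiso hρc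
    let ψ : K →* Cfsg.POmega F (Cfsg.quadFormMinus 1 F a b) :=
      (QuotientGroup.mk' (center (Cfsg.Omega F (Cfsg.quadFormMinus 1 F a b)))).comp φ
    have h1 : ψ.ker ≤ ((proj F).comp K.subtype).ker := by
      intro z hz
      have h2 : φ z ∈ center (Cfsg.Omega F (Cfsg.quadFormMinus 1 F a b)) :=
        (QuotientGroup.eq_one_iff _).1 hz
      have h3 : ∀ g, g * z = z * g := by
        intro g
        apply hφ
        simp only [_root_.MonoidHom.map_mul, _root_.MonoidHom.map_mul]
        exact mem_center_iff.1 h2 (φ g)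
      rw [MonoidHom.mem_ker]
      apply hc _ (hπK z z.2)
      intro h hh
      rw [← hKH] at hh
      obtain ⟨g, hg, rfl⟩ := hh
      show proj F g * proj F z = proj F z * proj F g
      simp only [← map_mul, ← map_mul]
      exact congrArg (proj F) (congrArg Subtype.val (h3 ⟨g, hg⟩))
    have h2 : Nat.card H ∣ Nat.card (Cfsg.POmega F (Cfsg.quadFormMinus 1 F a b)) := by
      have h3 : Nat.card H = ((proj F).comp K.subtype).ker.index := by
        simp only [Subgroup.index_ker, MonoidHom.range_comp, Subgroup.range_subtype, hKH]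
      rw [h3]
      refine (Subgroup.index_dvd_of_le h1).trans ?_
      rw [Subgroup.index_ker]
      exact Subgroup.card_subgroup_dvd_card _
    rw [Nat.card_eq_fintype_card]
    exact dvd_minus hn hab (hk.trans h2)
  · -- the commutator space is everything
    have hcm : cm (rho F y) = ⊤ := Submodule.eq_top_of_finrank_eq (by rw [h8, hV])
    obtain ⟨P⟩ : Nonempty (Sylow p K) := inferInstance
    have h1 : Nat.card P ≤ Nat.card F ^ 2 :=
      card_le_sq hIso hr hQ hV hcm P.isPGroup' (ρ.comp ((P : Subgroup K).subtype :))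
        (hρ.comp (P : Subgroup K).subtype_injective) (fun g v => hρiso g.1 v) (fun g v => hρc g.1 v)
    have h2 := P.pow_dvd_card_of_pow_dvd_card hkK
    have h3 := (Nat.le_of_dvd Nat.card_pos h2).trans h1
    rw [Nat.card_eq_fintype_card, hn, ← pow_mul] at h3 ⊢
    exact pow_dvd_pow p ((Nat.pow_le_pow_iff_right hp.out.one_lt).1 h3)

seal _root_.Finset.sum _root_.dotProduct in
/-- **elementary abelian `r`-subgroups** -/
theorem elem_le (hr : PP (Nat.card F) 4 r) {A : Type*} [Group A] [Finite A] (hcomm : ∀ a b : A, a * b = b * a)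
    (hexp : ∀ a : A, a ^ r = 1) (ψ : A →* Cfsg.POmega F (Cfsg.quadFormPlus 4 F)) (hψ : Function.Injective ψ) :
    Nat.card A ≤ r ^ 2 := by
  have hfO := finite_omega (F := F)
  have hr2 : r ≠ 2 := by
    have := hr.lt (by norm_num)
    omega
  have hP : IsPGroup r ψ.range := by
    rintro ⟨_, a, rfl⟩
    refine ⟨1, Subtype.ext ?_⟩
    show ψ a ^ r ^ 1 = 1
    rw [pow_one, ← MonoidHom.map_pow, hexp, MonoidHom.map_one]
  obtain ⟨P', hP', hle, hinj, hcard⟩ := exists_lift_pgroup (proj F) proj_surjective (fun z hz => (proj_ker z hz).1)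
    hr.prime hr2 hP
  have h1 : Nat.card A = Nat.card P' := by
    rw [hcard]
    exact Nat.card_congr (ψ.ofInjective hψ).toEquiv
  rw [h1]
  have hinj2 : ∀ a ∈ P', ∀ b ∈ P', proj F a = proj F b → a = b := by
    intro a ha b hb hab
    have := hinj (a * b⁻¹) (P'.mul_mem ha (P'.inv_mem hb)) (by simp only [_root_.MonoidHom.map_mul, _root_.MonoidHom.map_inv, hab, mul_inv_cancel])
    exact mul_inv_eq_one.1 this
  refine card_le_of_elem hr (H955.finrank_plus 4) ?_ ?_ ((rho F).comp P'.subtype)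
    (rho_injective.comp P'.subtype_injective)
  · rintro ⟨a, ha⟩ ⟨b, hb⟩
    apply Subtype.ext
    apply hinj2 _ (P'.mul_mem ha hb) _ (P'.mul_mem hb ha)
    have hob_ := hle a ha
    obtain ⟨c, hc⟩ := hob_
    have hob_ := hle b hb
    obtain ⟨d, hd⟩ := hob_
    simp only [_root_.MonoidHom.map_mul (proj F) a b, _root_.MonoidHom.map_mul (proj F) b a, ← hc, ← hd, ← _root_.MonoidHom.map_mul ψ c d, ← _root_.MonoidHom.map_mul ψ d c, hcomm c d]
  · rintro ⟨a, ha⟩
    apply Subtype.ext
    apply hinj2 _ (P'.pow_mem ha r) _ P'.one_mem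
    have hob_ := hle a ha
    obtain ⟨c, hc⟩ := hob_
    simp_rw [_root_.MonoidHom.map_pow, _root_.MonoidHom.map_one, ← hc, ← _root_.MonoidHom.map_pow, hexp, _root_.MonoidHom.map_one]

section fac

variable {S : Type*} [Group S] [Finite S] {A M : Subgroup (Cfsg.POmega F (Cfsg.quadFormPlus 4 F))} {l : ℕ}

seal _root_.Finset.sum _root_.dotProduct in
/-- **the `p`-part of `|S|`, two commuting copies of `S`** -/
theorem pow_dvd_of_hom [hp : Fact p.Prime] [CharP F p] (hr : PP (Nat.card F) 4 r) (hS : IsSimpleGroup S)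
    (hna : ¬ IsMulCommutative S) (φ : S × S →* Cfsg.POmega F (Cfsg.quadFormPlus 4 F)) (hφ : Function.Injective φ)
    (hrS : r ∣ Nat.card S) {k : ℕ} (hk : p ^ k ∣ Nat.card S) : p ^ k ∣ Nat.card F ^ 2 := by
  have := Fact.mk hr.prime
  obtain ⟨s, hs⟩ := exists_prime_orderOf_dvd_card' r hrS
  have hinl : Function.Injective (φ.comp (MonoidHom.inl S S)) := fun a b hab => congrArg Prod.fst (hφ hab)
  have hperf : commutator S = ⊤ := H235.ExtOut.commutator_eq_top hna
  have hcen : center S = ⊥ := H427.center_eq_bot_of_simple hS hna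
  refine pow_dvd_sq hr (H := (φ.comp (MonoidHom.inl S S)).range) (x := φ (1, s)) ?_ ?_ ?_ ?_ ?_ (k := k) ?_
  · simp only [MonoidHom.range_eq_map, ← Subgroup.map_commutator, ← commutator_def, hperf]
  · rintro _ ⟨z, rfl⟩ hz
    have h1 : z ∈ center S := by
      rw [mem_center_iff]
      intro g
      apply hinl
      rw [MonoidHom.map_mul, MonoidHom.map_mul]
      exact hz _ ⟨g, rfl⟩
    rw [hcen, mem_bot] at h1
    rw [h1, _root_.MonoidHom.map_one]
  · have h1 : ((1 : S), s) ^ r = 1 := by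
      rw [Prod.pow_mk, one_pow, ← hs, pow_orderOf_eq_one]
      rfl
    rw [← _root_.MonoidHom.map_pow, h1, _root_.MonoidHom.map_one]
  · intro h
    have h1 : ((1 : S), s) = 1 := hφ (by rw [h, _root_.MonoidHom.map_one])
    have h2 : s = 1 := congrArg Prod.snd h1
    rw [h2, orderOf_one] at hs
    exact hr.prime.one_lt.ne hs
  · rintro _ ⟨g, rfl⟩
    show φ (g, 1) * φ (1, s) = φ (1, s) * φ (g, 1)
    simp only [← map_mul, ← map_mul, Prod.mk_mul_mk, Prod.mk_mul_mk, one_mul, mul_one, one_mul, mul_one]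
  · rwa [← Nat.card_congr ((φ.comp (MonoidHom.inl S S)).ofInjective hinl).toEquiv]

/-- `S ^ l ≤ T`, `r ∣ |S|`: `l ≤ 2` -/
theorem le_two_of_hom (hr : PP (Nat.card F) 4 r) (φ : (Fin l → S) →* Cfsg.POmega F (Cfsg.quadFormPlus 4 F))
    (hφ : Function.Injective φ) (hrS : r ∣ Nat.card S) : l ≤ 2 := by
  have := Fact.mk hr.prime
  obtain ⟨s, hs⟩ := exists_prime_orderOf_dvd_card' r hrS
  let ι : (Fin l → Subgroup.zpowers s) →* (Fin l → S) :=
    { toFun := fun f i => (f i : S)
      map_one' := rfl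
      map_mul' := fun _ _ => rfl }
  have hι : Function.Injective ι := by
    intro f g hfg
    funext i
    exact Subtype.ext (congrFun hfg i)
  have h1 := elem_le hr (A := Fin l → Subgroup.zpowers s)
    (fun a b => by
      funext i
      apply Subtype.ext
      obtain ⟨j, hj⟩ := (a i).2
      obtain ⟨j', hj'⟩ := (b i).2
      have h1 : s ^ j = ((a i : Subgroup.zpowers s) : S) := hj
      have h2 : s ^ j' = ((b i : Subgroup.zpowers s) : S) := hj'
      show ((a i : Subgroup.zpowers s) : S) * ((b i : Subgroup.zpowers s) : S) =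
        ((b i : Subgroup.zpowers s) : S) * ((a i : Subgroup.zpowers s) : S)
      rw [← h1, ← h2, ← zpow_add, ← zpow_add, add_comm])
    (fun a => by
      funext i
      apply Subtype.ext
      obtain ⟨j, hj⟩ := (a i).2
      have hj' : s ^ j = ((a i : Subgroup.zpowers s) : S) := hj
      show ((a i : Subgroup.zpowers s) : S) ^ r = 1
      rw [← hj', ← zpow_natCast, zpow_comm, zpow_natCast, ← hs, pow_orderOf_eq_one, one_zpow]) (φ.comp ι) (hφ.comp hι)
  rw [Nat.card_pi] at h1
  simp only [Finset.prod_const, Finset.card_univ, Fintype.card_fin, Nat.card_zpowers, hs] at h1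
  exact (Nat.pow_le_pow_iff_right hr.prime.one_lt).1 h1

theorem fac_eq_two (hr : PP (Nat.card F) 4 r) (h : Fac (Cfsg.POmega F (Cfsg.quadFormPlus 4 F)) A M S l)
    (hrS : r ∣ Nat.card S) : l = 2 := by
  obtain ⟨e⟩ := h.iso
  exact le_antisymm (le_two_of_hom hr (A.subtype.comp e.symm.toMonoidHom)
    (A.subtype_injective.comp e.symm.injective) hrS) h.two_le

theorem fac_pow_dvd [hp : Fact p.Prime] [CharP F p] (hr : PP (Nat.card F) 4 r) (hS : IsSimpleGroup S)
    (hna : ¬ IsMulCommutative S) (h : Fac (Cfsg.POmega F (Cfsg.quadFormPlus 4 F)) A M S l) (hrS : r ∣ Nat.card S)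
    {k : ℕ} (hk : p ^ k ∣ Nat.card S) : p ^ k ∣ Nat.card F ^ 2 := by
  obtain ⟨φ, hφ, -⟩ := h.exists_hom
  exact pow_dvd_of_hom hr hS hna φ hφ hrS hk

/-- **the `p`-part of the index** -/
theorem fac_index [hp : Fact p.Prime] [CharP F p] (hr : PP (Nat.card F) 4 r) (hS : IsSimpleGroup S)
    (hna : ¬ IsMulCommutative S) (h : Fac (Cfsg.POmega F (Cfsg.quadFormPlus 4 F)) A M S l) (hrS : r ∣ Nat.card S)
    {k : ℕ} (hk : p ^ k ∣ M.index) : p ^ k ∣ Nat.card F ^ 4 := by
  have h1 := hk.trans h.index_dvd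
  rw [fac_eq_two hr h hrS] at h1
  have hS0 : Nat.card S ≠ 0 := Nat.card_pos.ne'
  have h2 : k ≤ 2 * (Nat.card S).factorization p := by
    have h3 := (hp.out.pow_dvd_iff_le_factorization (pow_ne_zero 2 hS0)).1 h1
    rwa [Nat.factorization_pow] at h3
  have h4 := fac_pow_dvd hr hS hna h hrS (Nat.ordProj_dvd (Nat.card S) p)
  have h5 := pow_dvd_pow_of_dvd h4 2
  rw [← pow_mul, ← pow_mul] at h5
  exact (pow_dvd_pow p (by omega)).trans h5

/-- the index version: `r ∣ |T : M|` suffices -/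
theorem fac_index' [hp : Fact p.Prime] [CharP F p] (hr : PP (Nat.card F) 4 r) (hS : IsSimpleGroup S)
    (hna : ¬ IsMulCommutative S) (h : Fac (Cfsg.POmega F (Cfsg.quadFormPlus 4 F)) A M S l) (hrM : r ∣ M.index)
    {k : ℕ} (hk : p ^ k ∣ M.index) : p ^ k ∣ Nat.card F ^ 4 :=
  fac_index hr hS hna h (hr.prime.dvd_of_dvd_pow (hrM.trans h.index_dvd)) hk

end fac

end Cfsg.Agent.H953.O8
end

-- part: H953/Cyc/O8f
section
/-!
# Conjugacy of elements of order `r`, `ord_r(q) = 4`, in `Ω₈⁺(q)` (helper953, S3679)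

* `adjust` : `O = Ω K` if `K` contains the reflections of a nondegenerate subspace of dimension at least 2;
* `conj_type0` : two subgroups of order `r` with a 4-dimensional commutator space are conjugate in `Ω`.
-/

set_option autoImplicit false
set_option linter.unusedSectionVars false

namespace Cfsg.Agent.H953.O8

open Subgroup Module QuadraticMap Cfsg.Agent.LieClassical.OrthCore Cfsg.Agent.H955 Cfsg.Agent.H954.TSing
  Cfsg.Agent.H884.El Cfsg.Agent.H899.Pt
open Cfsg.Agent.ClassicalGeometry.Reflection Cfsg.Agent.H175.OmegaAdjust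
open Cfsg.Agent.H501.RowOmega (mt mt_mul mt_one mt_inj isom_polar)
open Cfsg.Agent.H951 (fx cm Inv)
open scoped MatrixGroups Matrix

universe u

variable {F : Type u} [Field F] [Fintype F] {ι : Type} [Fintype ι] [DecidableEq ι] {Q : QuadraticForm F (ι → F)}
  {r n : ℕ}

theorem rd_of_pp (hr : PP (Nat.card F) n r) (hn : 2 ≤ n) : RD F r n :=
  ⟨hr.prime, by have := hr.lt (by omega); omega, PP.ne0 hr (by omega), ord_eq hr⟩

/-- covering `O / Ω` by the isometries trivial on the perp of a nondegenerate subspace -/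
theorem adjust (hQ : Nondeg Q) (hι : 4 < Fintype.card ι) {W : Submodule F (ι → F)} (hW : Nondeg (res Q W))
    (hW2 : 2 ≤ finrank F W) {K : Subgroup (Cfsg.isometryGroup F ⇑Q)}
    (hK : ∀ v ∈ W, ∀ hv : Q v ≠ 0, reflIso Q v hv ∈ K) (g : Cfsg.isometryGroup F ⇑Q) :
    ∃ s ∈ K, g * s ∈ Cfsg.Omega F ⇑Q := by
  have hQ' := nondegenerate_of_nondeg hQ
  have hWn : ∀ w ∈ W, (∀ y ∈ W, polar ⇑Q w y = 0) → w = 0 := by
    intro w hw h
    exact (nondeg_res_iff.1 hW) w hw h
  by_cases h2 : (2 : F) = 0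
  · obtain ⟨v, hv, hv1⟩ : ∃ v ∈ W, Q v ≠ 0 := by
      by_contra hcon
      push Not at hcon
      have hW0 : W = ⊥ := by
        rw [Submodule.eq_bot_iff]
        intro w hw
        refine hWn w hw fun y hy => ?_
        rw [polar, hcon _ (W.add_mem hw hy), hcon _ hw, hcon _ hy, sub_zero, sub_zero]
      rw [hW0, finrank_bot] at hW2
      omega
    exact adjust_two Q h2 hQ' (Or.inr (by omega)) K v hv1 (hK v hv _) g
  · obtain ⟨c, hc⟩ := FiniteField.exists_nonsquare (F := F) (by
      intro h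
      have : CharP F 2 := ringChar.of_eq h
      exact h2 (CharP.cast_eq_zero F 2))
    have hc0 : c ≠ 0 := by
      rintro rfl
      exact hc (IsSquare.zero)
    obtain ⟨v, hv, hv1⟩ := exists_value h2 Q W hW2 hWn 1
    obtain ⟨w, hw, hw1⟩ := exists_value h2 Q W hW2 hWn c
    have hv0 : Q v ≠ 0 := by rw [hv1]; exact one_ne_zero
    have hw0 : Q w ≠ 0 := by rw [hw1]; exact hc0
    exact adjust_odd_refl Q h2 hQ' (by omega) K v w hv0 hw0 (by rw [hv1, hw1, one_mul]; exact hc)
      (hK v hv hv0) (hK w hw hw0) g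

/-- the natural representation of the isometry group -/
noncomputable abbrev R (Q : QuadraticForm F (ι → F)) : Cfsg.isometryGroup F ⇑Q →* Module.End F (ι → F) :=
  Cfsg.Agent.H501.RowOmega.rho ⇑Q

theorem R_injective : Function.Injective (R Q) := Cfsg.Agent.H501.RowOmega.rho_injective _

omit [Fintype F] in
theorem mt_apply (g : Cfsg.isometryGroup F ⇑Q) (v : ι → F) : Q (_root_.Cfsg.Agent.H501.RowOmega.mt g *ᵥ v) = Q v :=
  H925.mem_iso_iff.1 g.2 v

theorem R_iso (g : Cfsg.isometryGroup F ⇑Q) (v : ι → F) : Q (R Q g v) = Q v := by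
  rw [H501.RowOmega.rho_apply]
  exact mt_apply g v

theorem R_mul (g h : Cfsg.isometryGroup F ⇑Q) (v : ι → F) : R Q (g * h) v = R Q g (R Q h v) := by
  rw [MonoidHom.map_mul]; rfl

theorem R_one (v : ι → F) : R Q 1 v = v := by
  rw [MonoidHom.map_one]; rfl

theorem R_inv_apply (g : Cfsg.isometryGroup F ⇑Q) (v : ι → F) : R Q g⁻¹ (R Q g v) = v := by
  rw [← R_mul, inv_mul_cancel, R_one]

theorem R_apply_inv (g : Cfsg.isometryGroup F ⇑Q) (v : ι → F) : R Q g (R Q g⁻¹ v) = v := by
  rw [← R_mul, mul_inv_cancel, R_one]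

theorem R_polar (g : Cfsg.isometryGroup F ⇑Q) (u v : ι → F) : polar ⇑Q (R Q g u) (R Q g v) = polar ⇑Q u v :=
  polar_isom (R_iso g) u v

theorem R_pow {g : Cfsg.isometryGroup F ⇑Q} (hg : g ^ r = 1) : (R Q g) ^ r = 1 := by
  rw [← MonoidHom.map_pow, hg, MonoidHom.map_one]

theorem R_ne_one {g : Cfsg.isometryGroup F ⇑Q} (hg : g ≠ 1) : R Q g ≠ 1 := fun h =>
  hg (R_injective (by rw [h, MonoidHom.map_one]))

/-- reflections of vectors fixed by `x` commute with `x` -/
theorem refl_comm {x : Cfsg.isometryGroup F ⇑Q} {v : ι → F} (hv : v ∈ fx (R Q x)) (hv0 : Q v ≠ 0) :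
    reflIso Q v hv0 ∈ centralizer {x} := by
  rw [Subgroup.mem_centralizer_singleton_iff]
  apply mt_inj
  rw [mt_mul, mt_mul]
  apply Matrix.ext_of_mulVec_single
  intro j
  have h2 : _root_.Cfsg.Agent.H501.RowOmega.mt x *ᵥ v = v := by
    have := H951.mem_fx.1 hv
    rwa [H501.RowOmega.rho_apply] at this
  have hr : ∀ y, _root_.Cfsg.Agent.H501.RowOmega.mt (reflIso Q v hv0) *ᵥ y = y - ((Q v)⁻¹ * polar ⇑Q v y) • v := by
    intro y
    change ((reflIso Q v hv0 : Matrix.GeneralLinearGroup ι F) : Matrix ι ι F) *ᵥ y = _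
    rw [coe_reflIso, reflectionMatrix_mulVec]
  rw [← Matrix.mulVec_mulVec, ← Matrix.mulVec_mulVec, hr, hr, Matrix.mulVec_sub, Matrix.mulVec_smul, h2]
  have h3 : polar ⇑Q v (_root_.Cfsg.Agent.H501.RowOmega.mt x *ᵥ Pi.single j 1) = polar ⇑Q v (Pi.single j 1) := by
    conv_lhs => rw [← h2]
    rw [isom_polar]
  rw [h3]

/-- the isometries trivial on `U` -/
def triv (Q : QuadraticForm F (ι → F)) (U : Submodule F (ι → F)) : Subgroup (Cfsg.isometryGroup F ⇑Q) where
  carrier := {h | ∀ v ∈ U, R Q h v = v}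
  one_mem' := fun v _ => R_one v
  mul_mem' := fun {a b} ha hb v hv => by rw [R_mul, hb v hv, ha v hv]
  inv_mem' := fun {a} ha v hv => by
    conv_lhs => rw [← ha v hv]
    exact R_inv_apply a v

/-- isometries trivial on `U` preserve the perp -/
theorem inv_perp {U : Submodule F (ι → F)} {h : Cfsg.isometryGroup F ⇑Q} (hh : h ∈ triv Q U) :
    _root_.Cfsg.Agent.H951.Inv (R Q h) (perp Q U) := by
  intro z hz
  rw [mem_perp] at hz ⊢
  intro u hu
  rw [← hh u hu, R_polar]
  exact hz u hu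

/-- no `C_r × C_r` in the isometry group of a space of dimension `n` -/
theorem noSq_triv (hr : RD F r n) {x : Cfsg.isometryGroup F ⇑Q} (hQ : Nondeg Q) (hx : x ^ r = 1)
    (hc : finrank F (cm (R Q x)) = n) : NoSq (triv Q (fx (R Q x))) r := by
  intro a ha b hb hao hbo hab
  have hZ : cm (R Q x) = perp Q (fx (R Q x)) := by
    rw [← perp_cm hQ (R_iso x) hr.ne0 (R_pow hx), perp_perp hQ]
  have har : a ^ r = 1 := by rw [← hao, pow_orderOf_eq_one]
  have hbr : b ^ r = 1 := by rw [← hbo, pow_orderOf_eq_one]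
  have hIa : _root_.Cfsg.Agent.H951.Inv (R Q a) (cm (R Q x)) := by rw [hZ]; exact inv_perp ha
  have hIb : _root_.Cfsg.Agent.H951.Inv (R Q b) (cm (R Q x)) := by rw [hZ]; exact inv_perp hb
  have hall : ∀ g : Cfsg.isometryGroup F ⇑Q, g ∈ triv Q (fx (R Q x)) → cm (R Q x) ≤ fx (R Q g) → g = 1 := by
    intro g hg h
    apply R_injective
    rw [MonoidHom.map_one]
    apply LinearMap.ext
    intro v
    have h5 : v ∈ fx (R Q x) ⊔ cm (R Q x) := by
      rw [(H951.isCompl_fx_cm hr.ne0 (R_pow hx)).sup_eq_top]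
      trivial
    obtain ⟨v1, hv1, v2, hv2, rfl⟩ := Submodule.mem_sup.1 h5
    rw [map_add, hg v1 hv1, H951.mem_fx.1 (h hv2)]
    rfl
  have ha1 : a ≠ 1 := by
    rintro rfl
    rw [orderOf_one] at hao
    exact hr.prime.one_lt.ne hao
  have hf : cm (R Q x) ⊓ fx (R Q a) = ⊥ :=
    (hr.fx_or (R_pow har) hIa hc).resolve_left fun h => ha1 (hall a ha h)
  have hcomm : Commute (R Q b) (R Q a) := by
    show R Q b * R Q a = R Q a * R Q b
    rw [← MonoidHom.map_mul, ← MonoidHom.map_mul, hab]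
  obtain ⟨i, -, hi⟩ := hr.exists_triv (R_pow hbr) (R_pow har) hcomm hIb hIa hc hf
  rw [← MonoidHom.map_pow, ← MonoidHom.map_mul] at hi
  have h1 := hall (b * a ^ i) (mul_mem hb (pow_mem ha i)) hi
  have h2 : b = (a ^ i)⁻¹ := (eq_inv_of_mul_eq_one_left h1 :)
  rw [h2]
  exact inv_mem (pow_mem (mem_zpowers a) i)

/-- the commutator space is nondegenerate, not of plus type -/
theorem cm_type (hr : PP (Nat.card F) 4 r) (hQ : Nondeg Q) {x : Cfsg.isometryGroup F ⇑Q} (hx : x ^ r = 1)
    (hc : finrank F (cm (R Q x)) = 4) :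
    Nondeg (res Q (cm (R Q x))) ∧ ¬ IsPlus (res Q (cm (R Q x))) := by
  have := Fact.mk hr.prime
  have hx' : Iso Q (R Q x) r := Iso.mk' hr (by norm_num) (R_pow hx) (R_iso x)
  refine ⟨nondeg_cm hQ hx'.iso hx'.ne0 hx'.pow, ?_⟩
  rw [isPlus_cm_iff hx'.two_lt hQ hx'.iso hx'.ne0 hx'.pow (ord_eq hr) (by decide) (A := 1) (by omega)]
  decide

/-- **subgroups of order `r` with a 4-dimensional commutator space are conjugate in `Ω`** -/
theorem conj_type0 (hr : PP (Nat.card F) 4 r) (hQ : Nondeg Q) (hι : Fintype.card ι = 8)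
    {x y : Cfsg.isometryGroup F ⇑Q} (hx : x ^ r = 1) (hy : y ^ r = 1) (hcx : finrank F (cm (R Q x)) = 4)
    (hcy : finrank F (cm (R Q y)) = 4) : ∃ t ∈ Cfsg.Omega F ⇑Q, t * x * t⁻¹ ∈ zpowers y := by
  have hrd := rd_of_pp hr (by norm_num)
  obtain ⟨h1, h2⟩ := cm_type hr hQ hx hcx
  obtain ⟨h3, h4⟩ := cm_type hr hQ hy hcy
  have hne : ∀ {z : Cfsg.isometryGroup F ⇑Q}, finrank F (cm (R Q z)) = 4 → z ≠ 1 := by
    rintro _ hz rfl
    have : cm (R Q (1 : Cfsg.isometryGroup F ⇑Q)) = ⊥ := by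
      rw [MonoidHom.map_one, cm, sub_self]
      exact LinearMap.range_zero
    rw [this, finrank_bot] at hz
    omega
  have hord : ∀ {z : Cfsg.isometryGroup F ⇑Q}, z ≠ 1 → z ^ r = 1 → orderOf z = r := by
    intro z hz hzr
    have := Fact.mk hr.prime
    exact orderOf_eq_prime hzr hz
  obtain ⟨e, he⟩ := exists_equiv_of_isPlus_iff h1 h3 (by rw [hcx]; decide) (by rw [hcx, hcy])
    (iff_of_false h2 h4)
  obtain ⟨g, hg, hge⟩ := S0750.result Q (nondegenerate_of_nondeg hQ) (cm (R Q x)) (cm (R Q y)) e he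
  obtain ⟨g', hg'⟩ : ∃ g' : Cfsg.isometryGroup F ⇑Q, ∀ v, R Q g' v = g v :=
    ⟨toIso Q g hg, fun v => by rw [H501.RowOmega.rho_apply]; exact toIso_mulVec Q g hg v⟩
  -- the conjugate
  have hx' : g' * x * g'⁻¹ ∈ triv Q (fx (R Q y)) := by
    intro v hv
    rw [← perp_cm hQ (R_iso y) hrd.ne0 (R_pow hy), mem_perp] at hv
    have h5 : R Q g'⁻¹ v ∈ fx (R Q x) := by
      rw [← perp_cm hQ (R_iso x) hrd.ne0 (R_pow hx), mem_perp]
      intro w hw
      rw [← R_polar g', R_apply_inv, hg']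
      have := hge ⟨w, hw⟩
      rw [show g w = g ((⟨w, hw⟩ : cm (R Q x)) : ι → F) from rfl, this]
      exact hv _ (e ⟨w, hw⟩).2
    rw [R_mul, R_mul, H951.mem_fx.1 h5, R_apply_inv]
  have hxo : orderOf (g' * x * g'⁻¹) = r := by
    refine hord (fun h => hne hcx ?_) ?_
    · rwa [mul_inv_eq_one, mul_eq_left] at h
    · rw [conj_pow, hx, mul_one, mul_inv_cancel]
  have hyt : y ∈ triv Q (fx (R Q y)) := fun v hv => H951.mem_fx.1 hv
  obtain ⟨d, -, hd⟩ := conj_of_cyc hr.prime (noSq_triv hrd hQ hy hcy) hyt hx' (hord (hne hcy) hy) hxo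
  -- adjusting
  have hadd := H951.finrank_fx_add_cm hrd.ne0 (R_pow hx)
  have hfx : Nondeg (res Q (fx (R Q x))) := by
    have h5 := nondeg_perp hQ h1
    rwa [perp_cm hQ (R_iso x) hrd.ne0 (R_pow hx)] at h5
  obtain ⟨s, hs, hts⟩ := adjust hQ (by omega) hfx (by
    rw [hcx, Module.finrank_fintype_fun_eq_card, hι] at hadd
    omega) (K := centralizer {x}) (fun v hv hv0 => refl_comm hv hv0) (d * g')
  refine ⟨_, hts, ?_⟩
  have h6 : s * x = x * s := mem_centralizer_singleton_iff.1 hs
  have h7 : d * g' * s * x * (d * g' * s)⁻¹ = d * (g' * x * g'⁻¹) * d⁻¹ := by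
    rw [mul_assoc (d * g') s x, h6]
    group
  rw [h7]
  exact hd

end Cfsg.Agent.H953.O8
end

-- part: H953/Cyc/O8g
section
/-!
# Elements of order `r`, `ord_r(q) = 4`, with a 4-dimensional commutator space are real in `Ω₄⁻(q)` (helper953, S3679)

* `real_minus` : elements of order `r` of `O₄⁻(q)` are inverted by elements of `Ω₄⁻(q)`;
* `real_type0` : an element `w` of order `r` with `dim [V, w] = 4` is inverted by an element of `Ω(V)` trivial on `C_V(w)`.
-/

set_option autoImplicit false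
set_option linter.unusedSectionVars false

namespace Cfsg.Agent.H953.O8

open Subgroup Module QuadraticMap Cfsg.Agent.LieClassical.OrthCore Cfsg.Agent.H955 Cfsg.Agent.H954.TSing
  Cfsg.Agent.H884.El Cfsg.Agent.H899.Pt
open Cfsg.Agent.ClassicalGeometry.Reflection Cfsg.Agent.H175.OmegaAdjust
open Cfsg.Agent.H501.RowOmega (mt mt_mul mt_one mt_inj isom_polar)
open Cfsg.Agent.H951 (fx cm Inv)
open scoped MatrixGroups Matrix

universe u

variable {F : Type u} [Field F] [Fintype F] {r n : ℕ}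

/-- operators commuting with a nontrivial operator of order `r` of a 4-dimensional space commute -/
theorem commute_four {V : Type*} [AddCommGroup V] [Module F V] [FiniteDimensional F V] (hr : RD F r n)
    (hV : finrank F V = n) {z a b : Module.End F V} (hz : z ^ r = 1) (hz1 : z ≠ 1) (ha : Commute a z)
    (hb : Commute b z) : Commute a b := by
  have hn := hr.pos
  have hf : (⊤ : Submodule F V) ⊓ fx z = ⊥ := by
    refine (hr.fx_or hz H951.inv_top (by rw [finrank_top, hV])).resolve_left fun h => hz1 ?_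
    apply LinearMap.ext
    intro v
    exact H951.mem_fx.1 (h Submodule.mem_top)
  rw [top_inf_eq] at hf
  have hnt : Nontrivial V := by
    rw [← Module.finrank_pos_iff (R := F)]
    omega
  obtain ⟨v, hv⟩ := exists_ne (0 : V)
  refine H946.DK.commute_of_cyclic (x := z) (v := v) ?_ ha hb
  intro w
  rw [← H946.DK.mem_cyc]
  have h1 : n ≤ finrank F (H946.DK.cyc z v) := by
    refine hr.le_finrank hz (H946.DK.inv_cyc v) (by rw [hf, inf_bot_eq]) ?_
    intro h
    have := H946.DK.self_mem_cyc (x := z) v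
    rw [h, Submodule.mem_bot] at this
    exact hv this
  have h2 : H946.DK.cyc z v = ⊤ := Submodule.eq_top_of_finrank_eq (le_antisymm (Submodule.finrank_le _) (by omega))
  rw [h2]
  trivial

/-- an element of odd order conjugate to its inverse lies in the commutator subgroup -/
theorem mem_commutator_of_conj {G : Type*} [Group G] {w s : G} (hr : Odd r) (hw : w ^ r = 1)
    (h : s * w * s⁻¹ = w⁻¹) : w ∈ commutator G := by
  have h1 : s * w * s⁻¹ * w⁻¹ ∈ commutator G := by
    have h3 := Subgroup.commutator_mem_commutator (Subgroup.mem_top s) (Subgroup.mem_top w)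
    rw [_root_.commutator_def]
    exact h3
  rw [h] at h1
  obtain ⟨j, hj⟩ := hr
  have h2 : w = (w⁻¹ * w⁻¹) ^ j := by
    rw [← pow_two, ← pow_mul, inv_pow, eq_inv_iff_mul_eq_one, ← pow_succ', ← hj, hw]
  rw [h2]
  exact pow_mem h1 j

/-- reality from the reality of the central quotient -/
theorem real_of_quotient {G : Type*} [Group G] {K : Type*} [Field K] [Fintype K] {p : ℕ} [Fact p.Prime]
    [CharP K p] (hK : 3 < Fintype.card K)
    (e : (G ⧸ center G) ≃* Matrix.ProjectiveSpecialLinearGroup (Fin 2) K) (hr : r.Prime) (hrp : r ≠ p)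
    (hcomm : ∀ z : G, z ^ r = 1 → z ≠ 1 → (∀ g, g * z = z * g) → ∀ g h : G, g * h = h * g)
    {w : G} (hw : w ^ r = 1) : ∃ t, t * w * t⁻¹ = w⁻¹ := by
  have hp : p.Prime := Fact.out
  have hwb : (w : G ⧸ center G) ^ r = 1 := by
    rw [← QuotientGroup.mk_pow, hw]
    rfl
  obtain ⟨tb, htb⟩ : ∃ tb, tb * (w : G ⧸ center G) * tb⁻¹ = (w : G ⧸ center G)⁻¹ := by
    rcases H906.PSL2_real_or_unip p (e w) with ⟨y, hy⟩ | hy
    · refine ⟨e.symm y, ?_⟩
      apply e.injective
      rw [map_mul, map_mul, map_inv, map_inv, e.apply_symm_apply]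
      exact hy
    · have h1 : (w : G ⧸ center G) = 1 := by
        have h2 : (w : G ⧸ center G) ^ p = 1 := e.injective (by rw [map_pow, hy, map_one])
        have h3 : orderOf (w : G ⧸ center G) ∣ Nat.gcd p r := Nat.dvd_gcd (orderOf_dvd_of_pow_eq_one h2)
          (orderOf_dvd_of_pow_eq_one hwb)
        rw [(Nat.coprime_primes hp hr).2 (Ne.symm hrp), Nat.dvd_one, orderOf_eq_one_iff] at h3
        exact h3
      exact ⟨1, by rw [h1]; group⟩
  obtain ⟨t, rfl⟩ := QuotientGroup.mk_surjective tb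
  obtain ⟨z, hz⟩ : ∃ z, z = t * w * t⁻¹ * w := ⟨_, rfl⟩
  have hzc : z ∈ center G := by
    rw [← QuotientGroup.eq_one_iff, hz, QuotientGroup.mk_mul, QuotientGroup.mk_mul, QuotientGroup.mk_mul,
      QuotientGroup.mk_inv, htb, inv_mul_cancel]
  have hzw : t * w * t⁻¹ = z * w⁻¹ := by rw [hz]; group
  have hzr : z ^ r = 1 := by
    have h1 : (t * w * t⁻¹) ^ r = 1 := by rw [conj_pow, hw, mul_one, mul_inv_cancel]
    have h2 : Commute z w⁻¹ := (mem_center_iff.1 hzc w⁻¹).symm
    rw [hzw, h2.mul_pow, inv_pow, hw, inv_one, mul_one] at h1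
    exact h1
  have hz1 : z = 1 := by
    by_contra hz1
    have hc := hcomm z hzr hz1 (mem_center_iff.1 hzc)
    apply H716.S5.not_comm_psl_two hK
    refine ⟨⟨fun x y => e.symm.injective ?_⟩⟩
    obtain ⟨g, hg⟩ := QuotientGroup.mk_surjective (e.symm x)
    obtain ⟨h, hh⟩ := QuotientGroup.mk_surjective (e.symm y)
    rw [map_mul, map_mul, ← hg, ← hh, ← QuotientGroup.mk_mul, ← QuotientGroup.mk_mul, hc]
  refine ⟨t, ?_⟩
  rw [hz1, one_mul] at hzw
  exact hzw

/-- commutativity from a nontrivial central element of order `r` -/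
theorem comm_of_central {V : Type*} [AddCommGroup V] [Module F V] [FiniteDimensional F V] (hr : RD F r n)
    (hV : finrank F V = n) {G : Type*} [Group G] (φ : G →* Module.End F V) (hφ : Function.Injective φ)
    (z : G) (hz : z ^ r = 1) (hz1 : z ≠ 1) (hc : ∀ g, g * z = z * g) (g h : G) : g * h = h * g := by
  apply hφ
  rw [MonoidHom.map_mul, MonoidHom.map_mul]
  refine commute_four hr hV (z := φ z) (by rw [← MonoidHom.map_pow, hz, MonoidHom.map_one])
    (fun h => hz1 (hφ (by rw [h, MonoidHom.map_one]))) ?_ ?_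
  · show φ g * φ z = φ z * φ g
    rw [← MonoidHom.map_mul, hc, MonoidHom.map_mul]
  · show φ h * φ z = φ z * φ h
    rw [← MonoidHom.map_mul, hc, MonoidHom.map_mul]

/-- **reality in `Ω₄⁻(q)`** -/
theorem real_minus (hr : PP (Nat.card F) 4 r) {a b : F}
    (hab : ∀ z₁ z₂ : F, z₁ ^ 2 + a * z₁ * z₂ + b * z₂ ^ 2 = 0 → z₁ = 0 ∧ z₂ = 0)
    {w : Cfsg.isometryGroup F ⇑(LieClassical.QuadForms.minusForm 1 F a b)} (hw : w ^ r = 1) :
    ∃ t ∈ Cfsg.Omega F ⇑(LieClassical.QuadForms.minusForm 1 F a b), t * w * t⁻¹ = w⁻¹ := by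
  have hrd := rd_of_pp hr (by norm_num)
  have hQ : Nondeg (LieClassical.QuadForms.minusForm 1 F a b) := nondeg_minus 1 hab
  have hodd : Odd r := hr.odd (by norm_num)
  have hr2 : r ≠ 2 := by have := hr.lt (by norm_num); omega
  have hob_ := isConj_iff.1 (H501.RowOmega.conj_inv (LieClassical.QuadForms.minusForm 1 F a b)
    (nondegenerate_of_nondeg hQ) hr.prime hr2 (hr.not_dvd (by norm_num)) hw)
  obtain ⟨s, hs⟩ := hob_
  have hwO := mem_commutator_of_conj hodd hw hs
  have hob_ := CharP.exists F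
  obtain ⟨p, hchar⟩ := hob_
  have hob_ := FiniteField.card F p
  obtain ⟨m, hp, hm⟩ := hob_
  have hpf := Fact.mk hp
  have hm1 : 1 ≤ (m : ℕ) := m.2
  have hrp : r ≠ p := by
    rintro rfl
    exact hr.not_dvd (by norm_num) (by rw [Nat.card_eq_fintype_card, hm]; exact dvd_pow_self r m.ne_zero)
  have hr0 : Fact r.Prime := ⟨hr.prime⟩
  -- the field
  let K := GaloisField p (2 * m)
  have hKfin : Finite K := Nat.finite_of_card_ne_zero (by
    rw [GaloisField.card p (2 * m) (by omega)]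
    exact pow_ne_zero _ hp.ne_zero)
  let _ : Fintype K := Fintype.ofFinite K
  have hK : Fintype.card K = (Fintype.card F) ^ 2 := by
    rw [← Nat.card_eq_fintype_card, GaloisField.card p (2 * m) (by omega), hm, ← pow_mul, mul_comm]
  have hq : 1 < Fintype.card F := Fintype.one_lt_card
  have hK3 : 3 < Fintype.card K := by
    rw [hK]
    have : 2 ^ 2 ≤ Fintype.card F ^ 2 := Nat.pow_le_pow_left hq 2
    omega
  have hob_ := S0300.result rfl hK a b hab
  obtain ⟨e⟩ := hob_
  rw [← LieClassical.QuadForms.coe_minusForm] at e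
  have hw₁ : (⟨w, hwO⟩ : Cfsg.Omega F ⇑(LieClassical.QuadForms.minusForm 1 F a b)) ^ r = 1 := Subtype.ext hw
  have hob_ := real_of_quotient hK3 (G := Cfsg.Omega F ⇑(LieClassical.QuadForms.minusForm 1 F a b)) e
    hr.prime hrp (comm_of_central hrd (H955.finrank_minus 1)
      ((R (LieClassical.QuadForms.minusForm 1 F a b)).comp (Subgroup.subtype _))
      (R_injective.comp Subtype.val_injective)) hw₁
  obtain ⟨t, ht⟩ := hob_
  exact ⟨t, t.2, congrArg Subtype.val ht⟩

end Cfsg.Agent.H953.O8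
end

-- part: H953/Cyc/O8h
section
/-!
# Elements of order `r`, `ord_r(q) = 4`, with a 4-dimensional commutator space are real (helper953, S3679)

* `exists_ext` : isometries of a direct summand extend;
* `real_type0` : an element `w` of order `r` with `dim [V, w] = 4` is inverted by an element of `Ω(V)` trivial on `C_V(w)`.
-/

set_option autoImplicit false
set_option linter.unusedSectionVars false

namespace Cfsg.Agent.H953.O8

open Subgroup Module QuadraticMap Cfsg.Agent.LieClassical.OrthCore Cfsg.Agent.H955 Cfsg.Agent.H954.TSing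
  Cfsg.Agent.H884.El Cfsg.Agent.H899.Pt
open Cfsg.Agent.ClassicalGeometry.Reflection Cfsg.Agent.H175.OmegaAdjust
open Cfsg.Agent.H501.RowOmega (mt mt_mul mt_one mt_inj isom_polar)
open Cfsg.Agent.H951 (fx cm Inv)
open scoped MatrixGroups Matrix

universe u

variable {F : Type u} [Field F] [Fintype F] {ι : Type} [Fintype ι] [DecidableEq ι] {Q : QuadraticForm F (ι → F)}
  {r n : ℕ}
variable {κ : Type} [Fintype κ] [DecidableEq κ] {Q' : QuadraticForm F (κ → F)} {U Z : Submodule F (ι → F)}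

theorem R_inj_apply (g : Cfsg.isometryGroup F ⇑Q) : Function.Injective (R Q g) := fun v w h => by
  rw [← R_inv_apply g v, h, R_inv_apply]

/-- isometries of a direct summand extend -/
theorem exists_ext (hUZ : IsCompl U Z) (hp : ∀ u ∈ U, ∀ z ∈ Z, polar ⇑Q u z = 0) (e : Z ≃ₗ[F] (κ → F))
    (he : ∀ z : Z, Q' (e z) = Q (z : ι → F)) :
    ∃ φ : Cfsg.isometryGroup F ⇑Q' →* Cfsg.isometryGroup F ⇑Q, (∀ g, ∀ u ∈ U, R Q (φ g) u = u) ∧
      (∀ g (z : Z), R Q (φ g) (z : ι → F) = (e.symm (R Q' g (e z)) : Z)) := by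
  have h1 : ∀ g : Cfsg.isometryGroup F ⇑Q', ∃ h : Cfsg.isometryGroup F ⇑Q, ∀ (u : U) (z : Z),
      R Q h ((u : ι → F) + z) = u + (e.symm (R Q' g (e z)) : Z) := by
    intro g
    obtain ⟨E, hE⟩ : ∃ E : (κ → F) ≃ₗ[F] (κ → F), ∀ v, E v = R Q' g v :=
      ⟨LinearEquiv.ofInjectiveEndo (R Q' g) (R_inj_apply g), fun v => rfl⟩
    obtain ⟨L, hL⟩ : ∃ L : (ι → F) ≃ₗ[F] (ι → F), ∀ (u : U) (z : Z),
        L ((u : ι → F) + z) = u + (e.symm (E (e z)) : Z) := by
      refine ⟨(Submodule.prodEquivOfIsCompl U Z hUZ).symm.trans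
        (((LinearEquiv.refl F U).prodCongr (e.trans (E.trans e.symm))).trans
          (Submodule.prodEquivOfIsCompl U Z hUZ)), fun u z => ?_⟩
      have h2 : (Submodule.prodEquivOfIsCompl U Z hUZ).symm ((u : ι → F) + z) = (u, z) := by
        rw [LinearEquiv.symm_apply_eq]
        rfl
      rw [LinearEquiv.trans_apply, h2]
      rfl
    have hLQ : ∀ v, Q (L v) = Q v := by
      intro v
      have h3 : v ∈ U ⊔ Z := by rw [hUZ.sup_eq_top]; trivial
      obtain ⟨u, hu, z, hz, rfl⟩ := Submodule.mem_sup.1 h3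
      have h4 : ∀ z' : Z, Q (u + z') = Q u + Q (z' : ι → F) := by
        intro z'
        have := hp u hu z' z'.2
        rw [polar, sub_sub, sub_eq_zero] at this
        exact this
      have h5 := hL ⟨u, hu⟩ ⟨z, hz⟩
      have h6 := h4 ⟨z, hz⟩
      dsimp only at h5 h6
      rw [h5, h4, h6, ← he, e.apply_symm_apply, hE, R_iso, he]
    refine ⟨toIso Q L hLQ, fun u z => ?_⟩
    have h7 : R Q (toIso Q L hLQ) ((u : ι → F) + z) = L (u + z) := by
      rw [H501.RowOmega.rho_apply]
      exact toIso_mulVec Q L hLQ _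
    rw [h7, hL, hE]
  choose f hf using h1
  have hfu : ∀ g, ∀ u ∈ U, R Q (f g) u = u := by
    intro g u hu
    have h2 := hf g ⟨u, hu⟩ 0
    rw [Submodule.coe_zero, add_zero, map_zero, map_zero, map_zero, Submodule.coe_zero, add_zero] at h2
    exact h2
  have hfz : ∀ g (z : Z), R Q (f g) (z : ι → F) = (e.symm (R Q' g (e z)) : Z) := by
    intro g z
    have h2 := hf g 0 z
    rw [Submodule.coe_zero, zero_add, zero_add] at h2
    exact h2
  have hmul : ∀ g h, f (g * h) = f g * f h := by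
    intro g h
    apply R_injective
    apply LinearMap.ext
    intro v
    have h3 : v ∈ U ⊔ Z := by rw [hUZ.sup_eq_top]; trivial
    obtain ⟨u, hu, z, hz, rfl⟩ := Submodule.mem_sup.1 h3
    rw [R_mul, map_add, map_add (R Q (f h)), map_add (R Q (f g)), hfu _ u hu, hfu _ u hu, hfu _ u hu]
    have h4 := hfz (g * h) ⟨z, hz⟩
    have h5 := hfz h ⟨z, hz⟩
    dsimp only at h4 h5
    rw [h4, h5, hfz, e.apply_symm_apply, R_mul]
  refine ⟨MonoidHom.mk' f hmul, hfu, hfz⟩

/-- every isometry trivial on `U` comes from an isometry of the perp -/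
theorem exists_of_triv (hUZ : IsCompl U Z) (hZ : Z = perp Q U) (e : Z ≃ₗ[F] (κ → F))
    (he : ∀ z : Z, Q' (e z) = Q (z : ι → F)) {φ : Cfsg.isometryGroup F ⇑Q' →* Cfsg.isometryGroup F ⇑Q}
    (hφu : ∀ g, ∀ u ∈ U, R Q (φ g) u = u)
    (hφz : ∀ g (z : Z), R Q (φ g) (z : ι → F) = (e.symm (R Q' g (e z)) : Z)) {h : Cfsg.isometryGroup F ⇑Q}
    (hh : h ∈ triv Q U) : ∃ g, φ g = h := by
  have hI : _root_.Cfsg.Agent.H951.Inv (R Q h) Z := by rw [hZ]; exact inv_perp hh
  have hI' : ∀ z ∈ Z, R Q h z ∈ Z := hI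
  obtain ⟨E, hE⟩ : ∃ E : (κ → F) ≃ₗ[F] (κ → F), ∀ v, (e.symm (E v) : ι → F) = R Q h (e.symm v : Z) := by
    refine ⟨e.symm.trans ((LinearEquiv.ofInjectiveEndo ((R Q h).restrict hI') ?_).trans e), fun v => ?_⟩
    · intro x y hxy
      apply Subtype.ext
      apply R_inj_apply h
      exact congrArg Subtype.val hxy
    · rw [LinearEquiv.trans_apply, LinearEquiv.trans_apply, e.symm_apply_apply]
      rfl
  have hEQ : ∀ v, Q' (E v) = Q' v := by
    intro v
    have h1 := he (e.symm (E v))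
    have h2 := he (e.symm v)
    rw [e.apply_symm_apply] at h1 h2
    rw [h1, h2, hE, R_iso]
  refine ⟨toIso Q' E hEQ, ?_⟩
  apply R_injective
  apply LinearMap.ext
  intro v
  have h3 : v ∈ U ⊔ Z := by rw [hUZ.sup_eq_top]; trivial
  obtain ⟨u, hu, z, hz, rfl⟩ := Submodule.mem_sup.1 h3
  have h4 := hφz (toIso Q' E hEQ) ⟨z, hz⟩
  dsimp only at h4
  have h5 : R Q' (toIso Q' E hEQ) (e ⟨z, hz⟩) = E (e ⟨z, hz⟩) := by
    rw [H501.RowOmega.rho_apply]
    exact toIso_mulVec Q' E hEQ _
  rw [map_add, map_add, hφu _ u hu, hh u hu, h4, h5, hE, e.symm_apply_apply]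

theorem map_Omega {κ : Type} [Fintype κ] [DecidableEq κ] {Q' : QuadraticForm F (κ → F)}
    (φ : Cfsg.isometryGroup F ⇑Q' →* Cfsg.isometryGroup F ⇑Q) {g : Cfsg.isometryGroup F ⇑Q'}
    (hg : g ∈ Cfsg.Omega F ⇑Q') : φ g ∈ Cfsg.Omega F ⇑Q := by
  have h1 : φ g ∈ (_root_.commutator (Cfsg.isometryGroup F ⇑Q')).map φ := Subgroup.mem_map_of_mem φ hg
  have h2 : (commutator (Cfsg.isometryGroup F ⇑Q')).map φ ≤ commutator (Cfsg.isometryGroup F ⇑Q) := by
    rw [_root_.commutator_def, _root_.commutator_def, Subgroup.map_commutator]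
    exact Subgroup.commutator_mono le_top le_top
  exact h2 h1

/-- **an element of order `r` with a 4-dimensional commutator space is inverted by an element of `Ω`
trivial on its fixed space** -/
theorem real_type0 (hr : PP (Nat.card F) 4 r) (hQ : Nondeg Q) {w : Cfsg.isometryGroup F ⇑Q}
    (hw : w ^ r = 1) (hc : finrank F (cm (R Q w)) = 4) :
    ∃ t ∈ Cfsg.Omega F ⇑Q, t ∈ triv Q (fx (R Q w)) ∧ t * w * t⁻¹ = w⁻¹ := by
  have hrd := rd_of_pp hr (by norm_num)
  obtain ⟨h1, h2⟩ := cm_type hr hQ hw hc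
  obtain ⟨a, b, hab⟩ := exists_aniso_coeff F
  obtain ⟨e, he⟩ := exists_minus_equiv hab 1 (res Q (cm (R Q w))) h1 (by rw [hc]) h2
  have hUZ : IsCompl (fx (R Q w)) (cm (R Q w)) := H951.isCompl_fx_cm hrd.ne0 (R_pow hw)
  have hfx : perp Q (cm (R Q w)) = fx (R Q w) := perp_cm hQ (R_iso w) hrd.ne0 (R_pow hw)
  have hZ : cm (R Q w) = perp Q (fx (R Q w)) := by rw [← hfx, perp_perp hQ]
  have hp : ∀ u ∈ fx (R Q w), ∀ z ∈ cm (R Q w), polar ⇑Q u z = 0 := by
    intro u hu z hz
    rw [hZ, mem_perp] at hz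
    exact hz u hu
  have he' : ∀ z : cm (R Q w), LieClassical.QuadForms.minusForm 1 F a b (e z) = Q (z : ι → F) := he
  obtain ⟨φ, hφu, hφz⟩ := exists_ext hUZ hp e he'
  obtain ⟨g, hg⟩ := exists_of_triv hUZ hZ e he' hφu hφz (h := w) (fun v hv => H951.mem_fx.1 hv)
  have hφi : Function.Injective φ := by
    intro g₁ g₂ h
    apply R_injective
    apply LinearMap.ext
    intro v
    have h3 := hφz g₁ (e.symm v)
    simp only [h, hφz g₂, e.apply_symm_apply] at h3
    exact e.symm.injective (Subtype.ext h3.symm)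
  have hgr : g ^ r = 1 := hφi (by rw [MonoidHom.map_pow, hg, hw, MonoidHom.map_one])
  obtain ⟨t, ht, htg⟩ := real_minus hr hab hgr
  refine ⟨φ t, map_Omega φ ht, fun u hu => hφu t u hu, ?_⟩
  simp only [← hg, ← map_inv φ t, ← map_mul φ t g, ← map_mul φ (t * g) (t⁻¹), htg, map_inv φ g]

end Cfsg.Agent.H953.O8
end

-- part: H953/Cyc/O8i
section
/-!
# Conjugacy of two commuting elements without fixed vectors of order `r`, `ord_r(q) = 4`, in `Ω₈⁺(q)` (helper953, S3679)

`conj_type8` : `x`, `y` commuting of order `r` without fixed vectors, `y` inverted by an isometry commuting with `x`: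
`x ^ t ∈ ⟨y⟩` for some `t ∈ Ω`.
-/

set_option autoImplicit false
set_option linter.unusedSectionVars false

namespace Cfsg.Agent.H953.O8

open Subgroup Module QuadraticMap Cfsg.Agent.LieClassical.OrthCore Cfsg.Agent.H955 Cfsg.Agent.H954.TSing
  Cfsg.Agent.H884.El Cfsg.Agent.H899.Pt
open Cfsg.Agent.ClassicalGeometry.Reflection Cfsg.Agent.H175.OmegaAdjust
open Cfsg.Agent.H951 (fx cm Inv mem_fx)
open scoped MatrixGroups Matrix

universe u

variable {F : Type u} [Field F] [Fintype F] {ι : Type} [Fintype ι] [DecidableEq ι] {Q : QuadraticForm F (ι → F)}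
  {r n : ℕ}

/-- the commutator space of a nontrivial element with a fixed vector -/
theorem finrank_cm_four (hr : PP (Nat.card F) 4 r) (hι : Fintype.card ι = 8) {z : Cfsg.isometryGroup F ⇑Q}
    (hz : z ^ r = 1) (hz1 : z ≠ 1) {v : ι → F} (hv0 : v ≠ 0) (hv : R Q z v = v) : finrank F (cm (R Q z)) = 4 := by
  have hrd := rd_of_pp hr (by norm_num)
  have h1 := hrd.dvd_cm (R_pow hz)
  have h2 := hrd.le_cm (R_pow hz) (R_ne_one hz1)
  have h3 := H951.finrank_fx_add_cm hrd.ne0 (R_pow hz)
  rw [Module.finrank_fintype_fun_eq_card, hι] at h3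
  have h4 : finrank F (fx (R Q z)) ≠ 0 := by
    intro h
    have h5 := Submodule.finrank_eq_zero.1 h
    have h6 : v ∈ fx (R Q z) := mem_fx.2 hv
    rw [h5, Submodule.mem_bot] at h6
    exact hv0 h6
  omega

theorem fx_le_cm (hr : PP (Nat.card F) 4 r) {x z z' : Cfsg.isometryGroup F ⇑Q} (hz : z ^ r = 1)
    (hxr : x ^ r = 1) (hfx : fx (R Q x) = ⊥) (hzz : z * z' = z' * z) (hx : z * z' = x * x) :
    fx (R Q z') ≤ cm (R Q z) := by
  have hrd := rd_of_pp hr (by norm_num)
  have hI : _root_.Cfsg.Agent.H951.Inv (R Q z) (fx (R Q z')) := by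
    intro v hv
    rw [mem_fx] at hv ⊢
    rw [← R_mul, ← hzz, R_mul, hv]
  have h1 : fx (R Q z') ⊓ fx (R Q z) = ⊥ := by
    rw [eq_bot_iff, ← hfx]
    rintro v ⟨hv, hv'⟩
    rw [SetLike.mem_coe, mem_fx] at hv hv'
    have h2 : R Q (x * x) v = v := by rw [← hx, R_mul, hv, hv']
    obtain ⟨j, hj⟩ := hr.odd (by norm_num)
    have h3 : ∀ k : ℕ, R Q ((x * x) ^ k) v = v := by
      intro k
      induction k with
      | zero => rw [pow_zero, R_one]
      | succ k ih => rw [pow_succ, R_mul, h2, ih]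
    have h4 := h3 (j + 1)
    rw [← pow_two, ← pow_mul, show 2 * (j + 1) = r + 1 by omega, pow_succ, hxr, one_mul] at h4
    exact mem_fx.2 h4
  have h2 := H951.inf_fx_sup_inf_cm hrd.ne0 (R_pow hz) hI
  rw [h1, bot_sup_eq] at h2
  exact inf_eq_left.1 h2

/-- **conjugacy of commuting elements without fixed vectors** -/
theorem conj_type8 (hr : PP (Nat.card F) 4 r) (hQ : Nondeg Q) (hι : Fintype.card ι = 8)
    {x y s : Cfsg.isometryGroup F ⇑Q} (hx : x ^ r = 1) (hy : y ^ r = 1) (hxy : x * y = y * x)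
    (hfx : fx (R Q x) = ⊥) (hfy : fx (R Q y) = ⊥) (hsx : s * x = x * s) (hsy : s * y * s⁻¹ = y⁻¹)
    (hne : ∀ i : ℕ, x * y ^ i ≠ 1) : ∃ t ∈ Cfsg.Omega F ⇑Q, t * x * t⁻¹ ∈ zpowers y := by
  have hrd := rd_of_pp hr (by norm_num)
  have hnt : (⊤ : Submodule F (ι → F)) ≠ ⊥ := by
    intro h
    have h1 : finrank F (ι → F) = 0 := by rw [← finrank_top, h, finrank_bot]
    rw [Module.finrank_fintype_fun_eq_card, hι] at h1
    omega
  have hc : Commute (R Q x) (R Q y) := by
    show R Q x * R Q y = R Q y * R Q x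
    rw [← MonoidHom.map_mul, hxy, MonoidHom.map_mul]
  obtain ⟨i, -, hi⟩ := H884.Cg.exists_fixed hr.prime hrd.ne0 (R_pow hx) (R_pow hy) hc H951.inv_top H951.inv_top hnt
    (by rw [hfy, inf_bot_eq])
  rw [← MonoidHom.map_pow, ← MonoidHom.map_mul, top_inf_eq] at hi
  obtain ⟨v, hv, hv0⟩ := (Submodule.ne_bot_iff _).1 hi
  rw [mem_fx] at hv
  have hyi : Commute x (y ^ i) := (show Commute x y from hxy).pow_right i
  have hyi' : Commute x ((y ^ i)⁻¹) := hyi.inv_right
  obtain ⟨z, hz⟩ : ∃ z, z = x * y ^ i := ⟨_, rfl⟩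
  obtain ⟨z', hz'⟩ : ∃ z', z' = x * (y ^ i)⁻¹ := ⟨_, rfl⟩
  have hyr : (y ^ i) ^ r = 1 := by rw [← pow_mul, mul_comm, pow_mul, hy, one_pow]
  have hzr : z ^ r = 1 := by rw [hz, hyi.mul_pow, hx, hyr, one_mul]
  have hz'r : z' ^ r = 1 := by rw [hz', hyi'.mul_pow, hx, inv_pow, hyr, inv_one, one_mul]
  have hconj : s * z * s⁻¹ = z' := by
    have h1 : s * y ^ i * s⁻¹ = (y ^ i)⁻¹ := by rw [← conj_pow, hsy, inv_pow]
    calc s * z * s⁻¹ = (s * x) * (y ^ i) * s⁻¹ := by rw [hz]; group
      _ = x * (s * y ^ i * s⁻¹) := by rw [hsx]; group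
      _ = z' := by rw [h1, hz']
  have hzz : z * z' = x * x := by
    rw [hz, hz']
    calc x * y ^ i * (x * (y ^ i)⁻¹) = x * (y ^ i * x) * (y ^ i)⁻¹ := by group
      _ = x * (x * y ^ i) * (y ^ i)⁻¹ := by rw [hyi.eq]
      _ = x * x := by group
  have hzz2 : z' * z = x * x := by
    rw [hz, hz']
    calc x * (y ^ i)⁻¹ * (x * y ^ i) = x * ((y ^ i)⁻¹ * x) * y ^ i := by group
      _ = x * (x * (y ^ i)⁻¹) * y ^ i := by rw [hyi'.eq]
      _ = x * x := by group
  have hz1 : z ≠ 1 := by rw [hz]; exact hne i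
  rw [← hz] at hv
  have hc1 : finrank F (cm (R Q z)) = 4 := finrank_cm_four hr hι hzr hz1 hv0 hv
  have hc2 : finrank F (cm (R Q z')) = 4 := by
    refine finrank_cm_four hr hι hz'r ?_ (v := R Q s v) ?_ ?_
    · intro h
      rw [← hconj, mul_inv_eq_one, mul_eq_left] at h
      exact hz1 h
    · intro h
      apply hv0
      rw [← R_inv_apply s v, h, map_zero]
    · rw [← hconj, R_mul, R_mul, R_inv_apply, hv]
  have hf1 : fx (R Q z') ≤ cm (R Q z) := fx_le_cm hr hzr hx hfx (hzz.trans hzz2.symm) hzz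
  have hf2 : fx (R Q z) ≤ cm (R Q z') := fx_le_cm hr hz'r hx hfx (hzz2.trans hzz.symm) hzz2
  have hd1 := H951.finrank_fx_add_cm hrd.ne0 (R_pow hzr)
  have hd2 := H951.finrank_fx_add_cm hrd.ne0 (R_pow hz'r)
  rw [Module.finrank_fintype_fun_eq_card, hι] at hd1 hd2
  have he1 : fx (R Q z') = cm (R Q z) := Submodule.eq_of_le_of_finrank_eq hf1 (by omega)
  have he2 : fx (R Q z) = cm (R Q z') := Submodule.eq_of_le_of_finrank_eq hf2 (by omega)
  obtain ⟨t, ht, htt, htz⟩ := real_type0 hr hQ hz'r hc2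
  have hperp : cm (R Q z') = perp Q (fx (R Q z')) := by
    rw [← perp_cm hQ (R_iso z') hrd.ne0 (R_pow hz'r), perp_perp hQ]
  have hIt : _root_.Cfsg.Agent.H951.Inv (R Q t) (cm (R Q z')) := by rw [hperp]; exact inv_perp htt
  have htc : t * z = z * t := by
    apply R_injective
    apply LinearMap.ext
    intro w
    have h5 : w ∈ fx (R Q z) ⊔ cm (R Q z) := by
      rw [(H951.isCompl_fx_cm hrd.ne0 (R_pow hzr)).sup_eq_top]
      trivial
    obtain ⟨a, ha, b, hb, rfl⟩ := Submodule.mem_sup.1 h5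
    have h6 : R Q t a ∈ fx (R Q z) := by
      rw [he2] at ha ⊢
      exact hIt a ha
    have h7 : R Q z b ∈ fx (R Q z') := by
      rw [he1]
      exact H951.inv_cm b hb
    have h8 : b ∈ fx (R Q z') := by rw [he1]; exact hb
    rw [map_add, map_add, R_mul, R_mul, R_mul, R_mul, mem_fx.1 ha, mem_fx.1 h6, htt b h8, htt _ h7]
  have hx2 : t * (x * x) * t⁻¹ = (y ^ i) * (y ^ i) := by
    have h1 : z'⁻¹ = y ^ i * x⁻¹ := by rw [hz']; group
    calc t * (x * x) * t⁻¹ = (t * z) * z' * t⁻¹ := by rw [← hzz]; group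
      _ = z * (t * z' * t⁻¹) := by rw [htc]; group
      _ = z * z'⁻¹ := by rw [htz]
      _ = x * (y ^ i * y ^ i) * x⁻¹ := by rw [h1, hz]; group
      _ = (y ^ i) * (y ^ i) := by rw [(hyi.mul_right hyi).eq]; group
  refine ⟨t, ht, ?_⟩
  obtain ⟨j, hj⟩ := hr.odd (by norm_num)
  have h1 : x = (x * x) ^ (j + 1) := by
    rw [← pow_two, ← pow_mul, show 2 * (j + 1) = r + 1 by omega, pow_succ, hx, one_mul]
  rw [h1, ← conj_pow, hx2]
  exact pow_mem (mul_mem (pow_mem (mem_zpowers y) i) (pow_mem (mem_zpowers y) i)) _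

end Cfsg.Agent.H953.O8
end

-- part: H953/Cyc/O8j
section
/-!
# Two commuting copies of a simple group in `PΩ₈⁺(q)` (helper953, S3679)

* `pair_conj` : `S × S ≤ PΩ₈⁺(q)`, `s ∈ S` of order `r`, `ord_r(q) = 4`, real: `⟨(1, s)⟩` and `⟨(s, 1)⟩` are conjugate;
* `struct` : `S ≅ PSL₂(q²)` or `|S|` is small.
-/

set_option autoImplicit false
set_option linter.unusedSectionVars false

namespace Cfsg.Agent.H953.O8

open Subgroup Module QuadraticMap Cfsg.Agent.LieClassical.OrthCore Cfsg.Agent.H955 Cfsg.Agent.H954.TSing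
  Cfsg.Agent.H884.El Cfsg.Agent.H899.Pt Cfsg.Agent.H436
open Cfsg.Agent.H951 (fx cm Inv mem_fx)
open scoped MatrixGroups Matrix

universe u

variable {F : Type u} [Field F] [Fintype F] {p r f : ℕ}

theorem card8 : Fintype.card (Fin 4 ⊕ Fin 4) = 8 := by simp

private theorem conj0g {ι : Type} [Fintype ι] [DecidableEq ι] {Q : QuadraticForm F (ι → F)} {q : (ι → F) → F}
    (hq : ⇑Q = q) (hQ : Nondeg Q) (hι : Fintype.card ι = 8) (ρ : Cfsg.Omega F q → Module.End F (ι → F))
    (hρ : ∀ g v, ρ g v = ((g.1.1 : GL ι F) : Matrix ι ι F) *ᵥ v) (hr : PP (Nat.card F) 4 r) {x y : Cfsg.Omega F q}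
    (hx : x ^ r = 1) (hy : y ^ r = 1) (hcx : finrank F (cm (ρ x)) = 4) (hcy : finrank F (cm (ρ y)) = 4) :
    ∃ t : Cfsg.Omega F q, t * x * t⁻¹ ∈ zpowers y := by
  subst hq
  have e : ∀ g, ρ g = R Q g.1 := fun g => LinearMap.ext fun v => hρ g v
  rw [e] at hcx hcy
  obtain ⟨t, ht, h⟩ := conj_type0 hr hQ hι (congrArg Subtype.val hx) (congrArg Subtype.val hy) hcx hcy
  obtain ⟨k, hk⟩ := mem_zpowers_iff.1 h
  exact ⟨⟨t, ht⟩, mem_zpowers_iff.2 ⟨k, Subtype.ext hk⟩⟩

private theorem conj8g {ι : Type} [Fintype ι] [DecidableEq ι] {Q : QuadraticForm F (ι → F)} {q : (ι → F) → F}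
    (hq : ⇑Q = q) (hQ : Nondeg Q) (hι : Fintype.card ι = 8) (ρ : Cfsg.Omega F q → Module.End F (ι → F))
    (hρ : ∀ g v, ρ g v = ((g.1.1 : GL ι F) : Matrix ι ι F) *ᵥ v) (hr : PP (Nat.card F) 4 r) {x y s : Cfsg.Omega F q}
    (hx : x ^ r = 1) (hy : y ^ r = 1) (hxy : x * y = y * x) (hfx : fx (ρ x) = ⊥) (hfy : fx (ρ y) = ⊥)
    (hsx : s * x = x * s) (hsy : s * y * s⁻¹ = y⁻¹) (hne : ∀ i : ℕ, x * y ^ i ≠ 1) :
    ∃ t : Cfsg.Omega F q, t * x * t⁻¹ ∈ zpowers y := by
  subst hq
  have e : ∀ g, ρ g = R Q g.1 := fun g => LinearMap.ext fun v => hρ g v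
  rw [e] at hfx hfy
  obtain ⟨t, ht, h⟩ := conj_type8 hr hQ hι (x := x.1) (y := y.1) (s := s.1)
    (congrArg Subtype.val hx) (congrArg Subtype.val hy) (congrArg Subtype.val hxy) hfx hfy
    (congrArg Subtype.val hsx) (congrArg Subtype.val hsy) (fun i hi => hne i (Subtype.ext hi))
  obtain ⟨k, hk⟩ := mem_zpowers_iff.1 h
  exact ⟨⟨t, ht⟩, mem_zpowers_iff.2 ⟨k, Subtype.ext hk⟩⟩

theorem conj0 (hr : PP (Nat.card F) 4 r) {x y : Cfsg.Omega F (Cfsg.quadFormPlus 4 F)} (hx : x ^ r = 1)
    (hy : y ^ r = 1) (hcx : finrank F (cm (rho F x)) = 4) (hcy : finrank F (cm (rho F y)) = 4) :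
    ∃ t : Cfsg.Omega F (Cfsg.quadFormPlus 4 F), t * x * t⁻¹ ∈ zpowers y :=
  conj0g (LieClassical.QuadForms.coe_plusForm 4) (H955.nondeg_plus 4) card8 (fun g => rho F g) rho_apply hr hx hy hcx hcy

theorem conj8 (hr : PP (Nat.card F) 4 r) {x y s : Cfsg.Omega F (Cfsg.quadFormPlus 4 F)} (hx : x ^ r = 1)
    (hy : y ^ r = 1) (hxy : x * y = y * x) (hfx : fx (rho F x) = ⊥) (hfy : fx (rho F y) = ⊥) (hsx : s * x = x * s)
    (hsy : s * y * s⁻¹ = y⁻¹) (hne : ∀ i : ℕ, x * y ^ i ≠ 1) :
    ∃ t : Cfsg.Omega F (Cfsg.quadFormPlus 4 F), t * x * t⁻¹ ∈ zpowers y :=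
  conj8g (LieClassical.QuadForms.coe_plusForm 4) (H955.nondeg_plus 4) card8 (fun g => rho F g) rho_apply hr hx hy hxy
    hfx hfy hsx hsy hne

theorem proj_ker' : ∀ k : Cfsg.Omega F (Cfsg.quadFormPlus 4 F), proj F k = 1 → k ^ 2 = 1 ∧ ∀ g, k * g = g * k := by
  intro k hk
  have hob_ := proj_ker k (MonoidHom.mem_ker.2 hk)
  obtain ⟨h1, h2⟩ := hob_
  exact ⟨by rw [pow_two, h1], fun g => (h2 g).symm⟩

/-- kernel elements are scalars -/
theorem ker_scalar {k : Cfsg.Omega F (Cfsg.quadFormPlus 4 F)} (hk : k ∈ (proj F).ker) :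
    ∃ c : F, rho F k = c • 1 := by
  have hG : LieClassical.OrthTrans.Good (LieClassical.OrthForms.plusForm 4 F) :=
    ClassicalGeometry.OrthSemiForms.good_plus (by norm_num)
  have hk' : k ∈ center (Cfsg.Omega F (Cfsg.quadFormPlus 4 F)) := by
    rwa [proj, QuotientGroup.ker_mk'] at hk
  have key : ∀ x : Cfsg.Omega F ⇑(LieClassical.OrthForms.plusForm 4 F), x ∈ center _ →
      ∃ c : F, ∀ v : Fin 4 ⊕ Fin 4 → F,
        ((x.1.1 : GL (Fin 4 ⊕ Fin 4) F) : Matrix (Fin 4 ⊕ Fin 4) (Fin 4 ⊕ Fin 4) F) *ᵥ v = c • v := by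
    intro x hx
    let e : Cfsg.Omega F ⇑(LieClassical.OrthForms.plusForm 4 F) ≃*
        ↥(LieClassical.OrthCore.E (LieClassical.OrthForms.plusForm 4 F)) :=
      (LieClassical.OrthFinite.omegaEquiv _).trans (MulEquiv.subgroupCongr hG.commutator_eq_E)
    have h1 : e x ∈ center _ := by
      rw [← LieClassical.OrthFinite.map_center_mulEquiv e]
      exact ⟨x, hx, rfl⟩
    obtain ⟨c, hc⟩ := ClassicalGeometry.OrthAut1.center_scalar hG h1
    refine ⟨c, fun v => ?_⟩
    rw [← hc v]
    rfl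
  rw [LieClassical.OrthForms.coe_plusForm] at key
  have hob_ := key k hk'
  obtain ⟨c, hc⟩ := hob_
  refine ⟨c, LinearMap.ext fun v => ?_⟩
  rw [rho_apply, hc]
  rfl

seal _root_.Finset.sum _root_.dotProduct in
/-- a perfect group commuting with an element with a 4-dimensional commutator space -/
theorem cm_of_comm (hr : PP (Nat.card F) 4 r) {x y : Cfsg.Omega F (Cfsg.quadFormPlus 4 F)} (hx : x ^ r = 1)
    (hy : y ^ r = 1) (hy1 : y ≠ 1) (hcx : finrank F (cm (rho F x)) = 4)
    {H : Subgroup (Cfsg.POmega F (Cfsg.quadFormPlus 4 F))} (hH : ⁅H, H⁆ = H)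
    (hHx : ∀ h ∈ H, h * proj F x = proj F x * h) (hyH : proj F y ∈ H) : finrank F (cm (rho F y)) = 4 := by
  have hfO := finite_omega (F := F)
  have hrodd : Odd r := hr.odd (by norm_num)
  have hrd := rd_of_pp hr (by norm_num)
  have hob_ := exists_perfect_lift (proj F) proj_surjective hH
  obtain ⟨K, hK, hKH⟩ := hob_
  have hπK : ∀ g ∈ K, proj F g ∈ H := fun g hg => hKH ▸ ⟨g, hg, rfl⟩
  have hKx : ∀ g ∈ K, g * x = x * g := fun g hg =>
    (comm_lift hrodd (proj F) proj_ker' hx (hHx _ (hπK g hg)).symm).symm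
  have hyK : y ∈ K := by
    rw [← hKH] at hyH
    obtain ⟨k, hk, hky⟩ := hyH
    have h1 : proj F (k⁻¹ * y) = 1 := by simp only [_root_.MonoidHom.map_mul, _root_.MonoidHom.map_inv, hky, inv_mul_cancel]
    have hob_ := proj_ker' _ h1
    obtain ⟨h2, h3⟩ := hob_
    have h4 : y = k * (k⁻¹ * y) := by group
    obtain ⟨j, hj⟩ := hrodd
    have h5 : y ^ (r + 1) = k ^ (r + 1) := by
      have hc : Commute k (k⁻¹ * y) := (h3 k).symm
      (rewrite [h4]; simp only [hc.mul_pow]; simp only [show r + 1 = 2 * (j + 1) by omega]; simp only [pow_mul (k⁻¹ * y)]; simp only [h2]; simp only [one_pow]; rewrite [mul_one]; with_reducible rfl)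
    rw [pow_succ, hy, one_mul] at h5
    rw [h5]
    exact pow_mem hk _
  have hKt : commutator K = ⊤ := by
    apply Subgroup.map_injective K.subtype_injective
    simp only [_root_.commutator_def (↥K), Subgroup.map_commutator ⊤ ⊤ K.subtype, ← MonoidHom.range_eq_map K.subtype, Subgroup.range_subtype, hK]
  have hIso : Iso (LieClassical.QuadForms.plusForm 4 F) (rho F x) r :=
    Iso.mk' hr (by norm_num) (by rw [← MonoidHom.map_pow, hx, MonoidHom.map_one]) (rho_iso x)
  have htriv := perfect_trivial hIso hr hcx hKt ((rho F).comp K.subtype) (by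
    intro g v
    show (rho F g.1 * rho F x) v = (rho F x * rho F g.1) v
    simp only [← map_mul, ← map_mul, hKx g.1 g.2]) ⟨y, hyK⟩
  have hle : cm (rho F x) ≤ fx (rho F y) := fun v hv => mem_fx.2 (htriv v hv)
  have h1 := Submodule.finrank_mono hle
  have hyr : (rho F y) ^ r = 1 := by rw [← MonoidHom.map_pow, hy, MonoidHom.map_one]
  have h2 := H951.finrank_fx_add_cm hrd.ne0 hyr
  have h3 := hrd.le_cm hyr (fun h => hy1 (rho_injective (by rw [h, MonoidHom.map_one])))
  simp only [Module.finrank_fintype_fun_eq_card, card8] at h2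
  omega

section pair

variable {S : Type*} [Group S] [Finite S]

theorem range_perfect (hS : IsSimpleGroup S) (hna : ¬ IsMulCommutative S) {T : Type*} [Group T] (φ : S →* T) :
    ⁅φ.range, φ.range⁆ = φ.range := by
  rw [MonoidHom.range_eq_map, ← Subgroup.map_commutator, ← _root_.commutator_def, H235.ExtOut.commutator_eq_top hna]

seal _root_.Finset.sum _root_.dotProduct in
/-- **conjugacy of the elements of order `r` of the two factors** -/
theorem pair_conj (hr : PP (Nat.card F) 4 r) (hS : IsSimpleGroup S) (hna : ¬ IsMulCommutative S)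
    (ψ : S × S →* Cfsg.POmega F (Cfsg.quadFormPlus 4 F)) (hψ : Function.Injective ψ) {s g : S} (hs : orderOf s = r)
    (hg : g * s * g⁻¹ = s⁻¹) : ∃ t, t * ψ (1, s) * t⁻¹ ∈ zpowers (ψ (s, 1)) := by
  have hrodd : Odd r := hr.odd (by norm_num)
  have hrd := rd_of_pp hr (by norm_num)
  have hsr : s ^ r = 1 := by rw [← hs, pow_orderOf_eq_one]
  have hs1 : s ≠ 1 := by
    rintro rfl
    rw [orderOf_one] at hs
    exact hr.prime.one_lt.ne hs
  have hxr : (ψ (1, s)) ^ r = 1 := by
    rw [← MonoidHom.map_pow, Prod.pow_mk, hsr, one_pow]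
    exact (map_one ψ :)
  have hyr : (ψ (s, 1)) ^ r = 1 := by
    rw [← MonoidHom.map_pow, Prod.pow_mk, hsr, one_pow]
    exact map_one ψ
  have hob_ := lift_elt (proj F) proj_surjective proj_ker hrodd hxr
  obtain ⟨x, hx, hxr', hxc⟩ := hob_
  have hob_ := lift_elt (proj F) proj_surjective proj_ker hrodd hyr
  obtain ⟨y, hy, hyr', hyc⟩ := hob_
  have hcomm : ∀ a b : S, ψ (a, 1) * ψ (1, b) = ψ (1, b) * ψ (a, 1) := by
    intro a b
    rw [← MonoidHom.map_mul, ← MonoidHom.map_mul]
    simp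
  have hx1 : x ≠ 1 := by
    rintro rfl
    rw [MonoidHom.map_one] at hx
    exact hs1 (congrArg Prod.snd (hψ (hx.symm.trans (map_one ψ).symm)))
  have hy1 : y ≠ 1 := by
    rintro rfl
    rw [MonoidHom.map_one] at hy
    exact hs1 (congrArg Prod.fst (hψ (hy.symm.trans (map_one ψ).symm)))
  suffices h : ∃ t : Cfsg.Omega F (Cfsg.quadFormPlus 4 F), t * x * t⁻¹ ∈ zpowers y by
    obtain ⟨t, ht⟩ := h
    have hob_ := mem_zpowers_iff.1 ht
    obtain ⟨k, hk⟩ := hob_
    refine ⟨proj F t, mem_zpowers_iff.2 ⟨k, ?_⟩⟩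
    simp only [← hx, ← hy, ← map_zpow, hk, _root_.MonoidHom.map_mul, _root_.MonoidHom.map_mul, _root_.MonoidHom.map_inv]
  have hd : ∀ {w : Cfsg.Omega F (Cfsg.quadFormPlus 4 F)}, w ^ r = 1 → w ≠ 1 →
      finrank F (cm (rho F w)) = 4 ∨ fx (rho F w) = ⊥ := by
    intro w hw hw1
    have hwr : (rho F w) ^ r = 1 := by rw [← MonoidHom.map_pow, hw, MonoidHom.map_one]
    have h1 := hrd.dvd_cm hwr
    have h2 := hrd.le_cm hwr (fun h => hw1 (rho_injective (by rw [h, MonoidHom.map_one])))
    have h3 := H951.finrank_fx_add_cm hrd.ne0 hwr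
    simp only [Module.finrank_fintype_fun_eq_card, card8] at h3
    by_cases h4 : finrank F (cm (rho F w)) = 4
    · exact .inl h4
    · exact .inr (Submodule.finrank_eq_zero.1 (by omega))
  have hob_ := hd hxr' hx1
  rcases hob_ with h4 | hfx
  · refine conj0 hr hxr' hyr' h4 ?_
    refine cm_of_comm hr hxr' hyr' hy1 h4 (range_perfect hS hna (ψ.comp (MonoidHom.inl S S))) ?_ ?_
    · rintro _ ⟨a, rfl⟩
      rw [hx]
      exact hcomm a s
    · rw [hy]
      exact ⟨s, rfl⟩
  have hob_ := hd hyr' hy1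
  rcases hob_ with h4 | hfy
  · refine conj0 hr hxr' hyr' ?_ h4
    refine cm_of_comm hr hyr' hxr' hx1 h4 (range_perfect hS hna (ψ.comp (MonoidHom.inr S S))) ?_ ?_
    · rintro _ ⟨a, rfl⟩
      rw [hy]
      exact (hcomm s a).symm
    · rw [hx]
      exact ⟨s, rfl⟩
  have hob_ := proj_surjective (ψ (g, 1))
  obtain ⟨t, ht⟩ := hob_
  have hxy : x * y = y * x := (hxc y (by rw [hy]; exact hcomm s s)).symm
  have htx : t * x = x * t := hxc t (by rw [ht]; exact hcomm g s)
  have hty : t * y * t⁻¹ = y⁻¹ := by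
    have hob_ : ∃ k, k = t * y * t⁻¹ * y := ⟨_, rfl⟩
    obtain ⟨k, hk⟩ := hob_
    have h1 : proj F k = 1 := by
      simp only [hk, _root_.MonoidHom.map_mul (proj F) (t * y * t⁻¹) y, _root_.MonoidHom.map_mul (proj F) (t * y) (t⁻¹), _root_.MonoidHom.map_mul (proj F) t y, _root_.MonoidHom.map_inv (proj F) t, ht, hy, ← _root_.MonoidHom.map_inv ψ ((g, 1)), ← _root_.MonoidHom.map_mul ψ ((g, 1)) ((s, 1)), ← _root_.MonoidHom.map_mul ψ ((g, 1) * (s, 1)) ((g, 1)⁻¹), ← _root_.MonoidHom.map_mul]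
      have h2 : ((g, 1) : S × S) * (s, 1) * (g, 1)⁻¹ * (s, 1) = 1 := by
        rw [Prod.inv_mk, Prod.mk_mul_mk, Prod.mk_mul_mk, Prod.mk_mul_mk, hg, inv_mul_cancel]
        simp
      rw [h2, _root_.MonoidHom.map_one]
    have hob_ := proj_ker' k h1
    obtain ⟨h2, h3⟩ := hob_
    have h4 : t * y * t⁻¹ = k * y⁻¹ := by rw [hk]; group
    have h5 : (k * y⁻¹) ^ r = 1 := by simp only [← h4, conj_pow, hyr', mul_one, mul_inv_cancel]
    have h6 : Commute k y⁻¹ := h3 y⁻¹
    simp only [h6.mul_pow, inv_pow, hyr', inv_one, mul_one] at h5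
    obtain ⟨j, hj⟩ := hrodd
    simp only [hj, pow_succ, pow_mul, h2, one_pow, one_mul] at h5
    rw [h4, h5, one_mul]
  refine conj8 hr hxr' hyr' hxy hfx hfy htx hty ?_
  intro i hi
  have h1 : ψ ((1, s) * (s, 1) ^ i) = 1 := by
    simp_rw [_root_.MonoidHom.map_mul, _root_.MonoidHom.map_pow, ← hx, ← hy, ← _root_.MonoidHom.map_pow, ← _root_.MonoidHom.map_mul, hi, _root_.MonoidHom.map_one]
  have h2 := hψ (h1.trans (map_one ψ).symm)
  have h3 : s = 1 := by
    have := congrArg Prod.snd h2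
    simpa using this
  exact hs1 h3

end pair

end Cfsg.Agent.H953.O8
end

-- part: H953/Cyc/O8k
section
/-!
# Two commuting copies of a simple group in `PΩ₈⁺(q)`: structure (helper953, S3679)

`struct` : `S × S ≤ PΩ₈⁺(q)`, `r ∣ |S|`, `ord_r(q) = 4`: `S ≅ PSL₂(q²)`, or `|S| ∣ 2 (q² + 1) / d`, or `r = 5`, `|S| ∣ 60`.
-/

set_option autoImplicit false
set_option linter.unusedSectionVars false

namespace Cfsg.Agent.H953.O8

open Subgroup Module QuadraticMap Cfsg.Agent.LieClassical.OrthCore Cfsg.Agent.H955 Cfsg.Agent.H954.TSing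
  Cfsg.Agent.H884.El Cfsg.Agent.H899.Pt Cfsg.Agent.H436
open Cfsg.Agent.H951 (fx cm Inv mem_fx)
open scoped MatrixGroups Matrix

universe u

variable {F : Type u} [Field F] [Fintype F] {p r f : ℕ}

/-- the order of the kernel -/
theorem not_dvd_ker (hr : r.Prime) (hr2 : Odd r) : ¬ r ∣ Nat.card (proj F).ker := by
  intro h
  have hfO := finite_omega (F := F)
  have := Fact.mk hr
  obtain ⟨k, hk⟩ := exists_prime_orderOf_dvd_card' r h
  have h1 := (proj_ker' (k : Cfsg.Omega F (Cfsg.quadFormPlus 4 F)) (MonoidHom.mem_ker.1 k.2)).1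
  have h2 : k ^ 2 = 1 := Subtype.ext h1
  have h3 := orderOf_dvd_of_pow_eq_one h2
  rw [hk] at h3
  have h4 := (Nat.prime_dvd_prime_iff_eq hr Nat.prime_two).1 h3
  rw [h4] at hr2
  exact absurd hr2 (by decide)

variable {S : Type*} [Group S] [Finite S]

seal _root_.Finset.sum _root_.dotProduct in
/-- a group commuting with an element with a 4-dimensional commutator space -/
theorem struct_four (hr : PP (Nat.card F) 4 r) (hp : p.Prime) (hf : 1 ≤ f) (hF : Fintype.card F = p ^ f)
    (hrP : Prim p (4 * f) r) (hS : IsSimpleGroup S) (hna : ¬ IsMulCommutative S)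
    (ψ : S →* Cfsg.POmega F (Cfsg.quadFormPlus 4 F)) (hψ : Function.Injective ψ) (hrS : r ∣ Nat.card S)
    {x : Cfsg.Omega F (Cfsg.quadFormPlus 4 F)} (hx : x ^ r = 1) (hcx : finrank F (cm (rho F x)) = 4)
    (hcomm : ∀ s, ψ s * proj F x = proj F x * ψ s) :
    (∃ (E : Type) (_ : Field E) (_ : Fintype E), Fintype.card E = p ^ (2 * f) ∧
      Nonempty (S ≃* Matrix.ProjectiveSpecialLinearGroup (Fin 2) E)) ∨ (r = 5 ∧ Nat.card S ∣ 60) ∨
      Nat.card S ∣ 2 * ((p ^ (2 * f) + 1) / Nat.gcd 2 (p ^ (2 * f) - 1)) := by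
  classical
  have hpf := Fact.mk hp
  have hfO := finite_omega (F := F)
  have hrodd : Odd r := hr.odd (by norm_num)
  obtain ⟨K, hK, hKH⟩ := exists_perfect_lift (proj F) proj_surjective (range_perfect hS hna ψ)
  have hπK : ∀ g ∈ K, proj F g ∈ ψ.range := fun g hg => hKH ▸ ⟨g, hg, rfl⟩
  have hKx : ∀ g ∈ K, g * x = x * g := fun g hg => by
    have hob_ := hπK g hg
    obtain ⟨s, hs⟩ := hob_
    exact (comm_lift hrodd (proj F) proj_ker' hx (by simp only [← hs, hcomm])).symm
  have hKt : commutator K = ⊤ := by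
    apply Subgroup.map_injective K.subtype_injective
    simp only [_root_.commutator_def (↥K), Subgroup.map_commutator ⊤ ⊤ K.subtype, ← MonoidHom.range_eq_map K.subtype, Subgroup.range_subtype, hK]
  have hIso : Iso (LieClassical.QuadForms.plusForm 4 F) (rho F x) r :=
    Iso.mk' hr (by norm_num) (by rw [← MonoidHom.map_pow, hx, MonoidHom.map_one]) (rho_iso x)
  (have h_ob := exists_minus_hom hIso hr (H955.nondeg_plus 4) (H955.finrank_plus 4) (H955.isPlus_plus 4)
    hcx hKt ((rho F).comp K.subtype) (rho_injective.comp K.subtype_injective) (fun g v => rho_iso g.1 v) (by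
      intro g v
      show (rho F g.1 * rho F x) v = (rho F x * rho F g.1) v
      simp only [← map_mul, ← map_mul, hKx g.1 g.2])
   revert h_ob; rintro (⟨a, b, hab, φ, hφ⟩))
  -- the field
  let E := GaloisField p (2 * f)
  have hEfin : Finite E := Nat.finite_of_card_ne_zero (by
    rw [GaloisField.card p (2 * f) (by omega)]
    exact pow_ne_zero _ hp.ne_zero)
  let _ : Fintype E := Fintype.ofFinite E
  have hE : Fintype.card E = p ^ (2 * f) := by
    rw [← Nat.card_eq_fintype_card, GaloisField.card p (2 * f) (by omega)]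
  have hE' : Fintype.card E = (Fintype.card F) ^ 2 := by
    rw [hE, hF, ← pow_mul, mul_comm]
  obtain ⟨e⟩ := S0300.result rfl hE' a b hab
  let χ : K →* Matrix.ProjectiveSpecialLinearGroup (Fin 2) E :=
    e.toMonoidHom.comp ((QuotientGroup.mk' (center (Cfsg.Omega F (Cfsg.quadFormMinus 1 F a b)))).comp φ)
  let α : K →* Cfsg.POmega F (Cfsg.quadFormPlus 4 F) := (proj F).comp K.subtype
  have hα : α.range = ψ.range := by
    show ((proj F).comp K.subtype).range = _
    rw [MonoidHom.range_comp, Subgroup.range_subtype, hKH]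
  have hcS : center S = ⊥ := H427.center_eq_bot_of_simple hS hna
  have h1 : χ.ker ≤ α.ker := by
    intro z hz
    have h2 : φ z ∈ center (Cfsg.Omega F (Cfsg.quadFormMinus 1 F a b)) := by
      have h3 : e (QuotientGroup.mk (φ z)) = 1 := hz
      have h4 : (QuotientGroup.mk (φ z) : Cfsg.POmega F (Cfsg.quadFormMinus 1 F a b)) = 1 :=
        e.injective (h3.trans (map_one e).symm)
      exact (QuotientGroup.eq_one_iff _).1 h4
    have h3 : ∀ g, g * z = z * g := by
      intro g
      apply hφ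
      simp only [_root_.MonoidHom.map_mul, _root_.MonoidHom.map_mul]
      exact mem_center_iff.1 h2 (φ g)
    rw [MonoidHom.mem_ker]
    have hob_ := hπK z z.2
    obtain ⟨s, hs⟩ := hob_
    have h4 : s ∈ center S := by
      rw [mem_center_iff]
      intro t
      apply hψ
      have hob_ : ψ t ∈ K.map (proj F) := by rw [hKH]; exact ⟨t, rfl⟩
      obtain ⟨g, hg, hgt⟩ := hob_
      simp only [_root_.MonoidHom.map_mul ψ t s, _root_.MonoidHom.map_mul ψ s t, hs, ← hgt, ← _root_.MonoidHom.map_mul (proj F) g (↑z), ← _root_.MonoidHom.map_mul (proj F) (↑z) g]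
      exact congrArg (proj F) (congrArg Subtype.val (h3 ⟨g, hg⟩))
    rw [hcS, mem_bot] at h4
    show proj F z = 1
    rw [← hs, h4, MonoidHom.map_one]
  have hcard : Nat.card S = α.ker.index := by
    rw [Subgroup.index_ker, hα]
    exact Nat.card_congr (ψ.ofInjective hψ).toEquiv
  have hdvd : Nat.card S ∣ Nat.card χ.range := by
    rw [hcard, ← Subgroup.index_ker]
    exact Subgroup.index_dvd_of_le h1
  have hE3 : 3 < Fintype.card E := by
    rw [hE']
    have hq : 1 < Fintype.card F := Fintype.one_lt_card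
    have : 2 ^ 2 ≤ Fintype.card F ^ 2 := Nat.pow_le_pow_left hq 2
    omega
  by_cases htop : χ.range = ⊤
  · left
    have hsurj : Function.Surjective χ := MonoidHom.range_eq_top.1 htop
    have hcP : center (Matrix.ProjectiveSpecialLinearGroup (Fin 2) E) = ⊥ :=
      H427.center_eq_bot_of_simple (TwoFusion.SLTwoFacts.isSimpleGroup_psl hE3) (H716.S5.not_comm_psl_two hE3)
    have h2 : α.ker ≤ χ.ker := by
      intro z hz
      have hz1 : proj F z = 1 := hz
      have h3 : χ z ∈ center (Matrix.ProjectiveSpecialLinearGroup (Fin 2) E) := by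
        rw [mem_center_iff]
        intro g
        have hob_ := hsurj g
        obtain ⟨k, rfl⟩ := hob_
        simp only [← map_mul, ← map_mul]
        congr 1
        exact Subtype.ext ((proj_ker' (z : Cfsg.Omega F (Cfsg.quadFormPlus 4 F)) hz1).2 k).symm
      simp only [hcP, mem_bot] at h3
      exact h3
    have h3 : χ.ker = α.ker := le_antisymm h1 h2
    refine ⟨E, inferInstance, inferInstance, hE, ⟨?_⟩⟩
    exact (ψ.ofInjective hψ).trans ((MulEquiv.subgroupCongr hα.symm).trans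
      ((QuotientGroup.quotientKerEquivRange α).symm.trans ((QuotientGroup.quotientMulEquivOfEq h3.symm).trans
        (QuotientGroup.quotientKerEquivOfSurjective χ hsurj))))
  · right
    rcases H946.DK.card_dvd_of_prim hp hE (by omega) (by rwa [show 2 * (2 * f) = 4 * f by omega]) χ.range htop
      (hrS.trans hdvd) with h2 | ⟨h2, ⟨e'⟩⟩
    · exact .inr (hdvd.trans h2)
    · refine .inl ⟨h2, ?_⟩
      rw [Nat.card_congr e'.toEquiv, H946.DK.card_alt5] at hdvd
      exact hdvd

seal _root_.Finset.sum _root_.dotProduct in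
/-- **structure** -/
theorem struct (hr : PP (Nat.card F) 4 r) (hp : p.Prime) (hf : 1 ≤ f) (hF : Fintype.card F = p ^ f)
    (hrP : Prim p (4 * f) r) (hS : IsSimpleGroup S) (hna : ¬ IsMulCommutative S)
    (ψ : S × S →* Cfsg.POmega F (Cfsg.quadFormPlus 4 F)) (hψ : Function.Injective ψ) (hrS : r ∣ Nat.card S) :
    (∃ (E : Type) (_ : Field E) (_ : Fintype E), Fintype.card E = p ^ (2 * f) ∧
      Nonempty (S ≃* Matrix.ProjectiveSpecialLinearGroup (Fin 2) E)) ∨ (r = 5 ∧ Nat.card S ∣ 60) ∨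
      Nat.card S ∣ 2 * ((p ^ (2 * f) + 1) / Nat.gcd 2 (p ^ (2 * f) - 1)) := by
  have hrf := Fact.mk hr.prime
  have hfO := finite_omega (F := F)
  have hrodd : Odd r := hr.odd (by norm_num)
  have hrd := rd_of_pp hr (by norm_num)
  obtain ⟨s, hs⟩ := exists_prime_orderOf_dvd_card' r hrS
  have hsr : s ^ r = 1 := by rw [← hs, pow_orderOf_eq_one]
  have hs1 : s ≠ 1 := by
    rintro rfl
    rw [orderOf_one] at hs
    exact hr.prime.one_lt.ne hs
  have hxr : (ψ (1, s)) ^ r = 1 := by
    rw [← MonoidHom.map_pow, Prod.pow_mk, hsr, one_pow]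
    exact (map_one ψ :)
  obtain ⟨x, hx, hxr', hxc⟩ := lift_elt (proj F) proj_surjective proj_ker hrodd hxr
  have hx1 : x ≠ 1 := by
    rintro rfl
    rw [MonoidHom.map_one] at hx
    exact hs1 (congrArg Prod.snd (hψ (hx.symm.trans (map_one ψ).symm)))
  have hcomm : ∀ a : S, ψ (a, 1) * proj F x = proj F x * ψ (a, 1) := by
    intro a
    simp only [hx, ← map_mul, ← map_mul]
    simp
  have hinl : Function.Injective (ψ.comp (MonoidHom.inl S S)) := fun a b hab => congrArg Prod.fst (hψ hab)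
  by_cases h4 : finrank F (cm (rho F x)) = 4
  · exact struct_four hr hp hf hF hrP hS hna (ψ.comp (MonoidHom.inl S S)) hinl hrS hxr' h4 hcomm
  · have hwr : (rho F x) ^ r = 1 := by rw [← MonoidHom.map_pow, hxr', MonoidHom.map_one]
    have h8 : finrank F (cm (rho F x)) = 2 * 4 := by
      have h1 := hrd.dvd_cm hwr
      have h2 := hrd.le_cm hwr (fun h => hx1 (rho_injective (by rw [h, MonoidHom.map_one])))
      have h3 := H951.finrank_fx_add_cm hrd.ne0 hwr
      simp only [Module.finrank_fintype_fun_eq_card, card8] at h3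
      omega
    have hker : (proj F).ker = center (Cfsg.Omega F (Cfsg.quadFormPlus 4 F)) := QuotientGroup.ker_mk' _
    (have h_ob := H946.DK.dk_lin hp hF (n := 4) (by norm_num) hrP (V := Fin 4 ⊕ Fin 4 → F) (by
        rw [Module.finrank_fintype_fun_eq_card, card8]; norm_num) (proj F) proj_surjective hker.le
        (not_dvd_ker hr.prime hrodd) (rho F) rho_injective (fun k hk => ker_scalar hk)
        (B := fun u v => polar (LieClassical.QuadForms.plusForm 4 F) u v)
        (fun u v w => polar_add_left _ _ _ _) (fun u v w => polar_add_right _ _ _ _)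
        (fun u hu => by
          by_contra hcon
          push Not at hcon
          exact hu (H955.nondeg_plus 4 u hcon))
        (fun g u v => polar_isom (rho_iso g) u v) hxr' h8 (fun h => hna ⟨⟨h⟩⟩) (ψ.comp (MonoidHom.inl S S)) hinl
        hcomm hrS
     revert h_ob; rintro (⟨E, hE1, hE2, hE3, he⟩ | ⟨h5, ⟨e⟩⟩))
    · left
      refine ⟨E, hE1, hE2, ?_, he⟩
      have h6 : Fintype.card E ^ 2 = (p ^ (2 * f)) ^ 2 := by
        rw [hE3, ← pow_mul]
        congr 1
        omega
      exact Nat.pow_left_injective (n := 2) (by norm_num) h6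
    · right
      left
      refine ⟨h5, ?_⟩
      rw [Nat.card_congr e.toEquiv, H946.DK.card_alt5]

end Cfsg.Agent.H953.O8
end

private theorem dce_80f90aadf428 : _root_.True := by
  try have : _root_.True := by simp only [_root_.Cfsg.Agent.H953.O8.proj.eq_1]
  exact _root_.True.intro
end

-- part: H953/Cyc/N9b
section
set_option linter.all false
open scoped Cfsg.Agent.FastGrp

/-!
# `Q₈ ∘ Q₈` in `Ω₄⁺(q)`, `q` odd (helper953, S3679)

* `sq4` : the form `x₀² + x₁² + x₂² + x₃²`, of plus type (`isPlus_sq4`), nondegenerate (`nondeg_sq4`);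
* `exists_q8` : left and right multiplications by quaternions.
-/

set_option autoImplicit false
set_option linter.unusedSectionVars false

namespace Cfsg.Agent.H953.N9

open Subgroup Module QuadraticMap Matrix Cfsg.Agent.LieClassical.OrthCore Cfsg.Agent.H955 Cfsg.Agent.H953.O8
open scoped MatrixGroups Matrix

universe u

variable {F : Type u} [Field F] [Fintype F]

variable (F) in
/-- the sum of four squares -/
noncomputable def sq4 : QuadraticForm F (Fin 4 → F) := QuadraticMap.weightedSumSquares F (fun _ : Fin 4 => (1 : F))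

omit [Fintype F] in
theorem sq4_apply (v : Fin 4 → F) : sq4 F v = v ⬝ᵥ v := by
  rw [sq4, QuadraticMap.weightedSumSquares_apply, dotProduct]
  exact Finset.sum_congr rfl fun i _ => by rw [one_smul]

omit [Fintype F] in
theorem polar_sq4 (v w : Fin 4 → F) : polar (sq4 F) v w = 2 * (v ⬝ᵥ w) := by
  rw [polar, sq4_apply, sq4_apply, sq4_apply, add_dotProduct, dotProduct_add, dotProduct_add, dotProduct_comm w v]
  ring

omit [Fintype F] in
theorem nondeg_sq4 (h2 : (2 : F) ≠ 0) : Nondeg (sq4 F) := by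
  intro v hv
  funext i
  have h := hv (Pi.single i 1)
  rw [polar_sq4, dotProduct_single, mul_one] at h
  exact (mul_eq_zero.1 h).resolve_left h2

theorem exists_sum_sq : ∃ α β : F, α ^ 2 + β ^ 2 = -1 := by
  obtain ⟨p, hchar⟩ := CharP.exists F
  have hp : Fact p.Prime := ⟨CharP.char_is_prime F p⟩
  obtain ⟨a, b, hab⟩ := ZMod.sq_add_sq p (-1)
  refine ⟨ZMod.castHom dvd_rfl F a, ZMod.castHom dvd_rfl F b, ?_⟩
  rw [← map_pow, ← map_pow, ← map_add, hab, map_neg, map_one]

theorem isPlus_sq4 : IsPlus (sq4 F) := by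
  obtain ⟨α, β, h⟩ := exists_sum_sq (F := F)
  let L : (Fin 2 → F) →ₗ[F] (Fin 4 → F) :=
    { toFun := fun v => ![v 0, v 1, v 0 * α - v 1 * β, v 0 * β + v 1 * α]
      map_add' := fun v w => by
        funext i
        fin_cases i <;> simp <;> ring
      map_smul' := fun c v => by
        funext i
        fin_cases i <;> simp <;> ring }
  have hL : Function.Injective L := by
    intro v w hvw
    funext i
    fin_cases i
    · exact congrFun hvw 0
    · exact congrFun hvw 1
  refine ⟨LinearMap.range L, ?_, ?_⟩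
  · rintro _ ⟨v, rfl⟩
    show sq4 F ![v 0, v 1, v 0 * α - v 1 * β, v 0 * β + v 1 * α] = 0
    rw [sq4_apply]
    simp only [dotProduct, Fin.sum_univ_four, Matrix.cons_val_zero, Matrix.cons_val_one, Matrix.cons_val]
    linear_combination (v 0 ^ 2 + v 1 ^ 2) * h
  · rw [LinearMap.finrank_range_of_inj hL, Module.finrank_fintype_fun_eq_card, Module.finrank_fintype_fun_eq_card]
    rfl

/-- an orthogonal integer matrix as an isometry -/
noncomputable def iso (F : Type u) [Field F] (A : Matrix (Fin 4) (Fin 4) ℤ) (hA : Aᵀ * A = 1) :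
    Cfsg.isometryGroup F ⇑(sq4 F) :=
  have h : (A.map (Int.cast : ℤ → F))ᵀ * A.map (Int.cast : ℤ → F) = 1 := by
    rw [← Matrix.transpose_map, ← Matrix.map_mul_intCast, hA, Matrix.map_one _ Int.cast_zero Int.cast_one]
  ⟨⟨A.map (Int.cast : ℤ → F), (A.map (Int.cast : ℤ → F))ᵀ, mul_eq_one_comm.1 h, h⟩,
    H925.mem_iso_iff.2 fun v => by
      show sq4 F ((A.map (Int.cast : ℤ → F)) *ᵥ v) = sq4 F v
      rw [sq4_apply, sq4_apply, Matrix.dotProduct_mulVec, ← Matrix.mulVec_transpose, Matrix.mulVec_mulVec, h,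
        Matrix.one_mulVec]⟩

theorem iso_mul {A B C : Matrix (Fin 4) (Fin 4) ℤ} (hA : Aᵀ * A = 1) (hB : Bᵀ * B = 1) (hC : Cᵀ * C = 1)
    (h : A * B = C) : iso F A hA * iso F B hB = iso F C hC := by
  apply Subtype.ext
  apply Units.ext
  show A.map (Int.cast : ℤ → F) * B.map (Int.cast : ℤ → F) = C.map (Int.cast : ℤ → F)
  rw [← Matrix.map_mul_intCast, h]

theorem iso_inv {A : Matrix (Fin 4) (Fin 4) ℤ} (hA : Aᵀ * A = 1) (hA' : Aᵀᵀ * Aᵀ = 1) :
    (iso F A hA)⁻¹ = iso F Aᵀ hA' := by
  rw [inv_eq_iff_mul_eq_one, iso_mul hA hA' (C := 1) (by rw [Matrix.transpose_one, one_mul])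
    (mul_eq_one_comm.1 hA)]
  apply Subtype.ext
  apply Units.ext
  show (1 : Matrix (Fin 4) (Fin 4) ℤ).map (Int.cast : ℤ → F) = 1
  rw [Matrix.map_one _ Int.cast_zero Int.cast_one]

def LI : Matrix (Fin 4) (Fin 4) ℤ := !![0, -1, 0, 0; 1, 0, 0, 0; 0, 0, 0, -1; 0, 0, 1, 0]
def LJ : Matrix (Fin 4) (Fin 4) ℤ := !![0, 0, -1, 0; 0, 0, 0, 1; 1, 0, 0, 0; 0, -1, 0, 0]
def LK : Matrix (Fin 4) (Fin 4) ℤ := !![0, 0, 0, -1; 0, 0, -1, 0; 0, 1, 0, 0; 1, 0, 0, 0]
def RI : Matrix (Fin 4) (Fin 4) ℤ := !![0, -1, 0, 0; 1, 0, 0, 0; 0, 0, 0, 1; 0, 0, -1, 0]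
def RJ : Matrix (Fin 4) (Fin 4) ℤ := !![0, 0, -1, 0; 0, 0, 0, -1; 1, 0, 0, 0; 0, 1, 0, 0]
def RK : Matrix (Fin 4) (Fin 4) ℤ := !![0, 0, 0, -1; 0, 0, 1, 0; 0, -1, 0, 0; 1, 0, 0, 0]
def SG : Matrix (Fin 4) (Fin 4) ℤ := !![1, 0, 0, 0; 0, 1, 0, 0; 0, 0, 0, -1; 0, 0, 1, 0]
def TA : Matrix (Fin 4) (Fin 4) ℤ := !![1, 0, 0, 0; 0, 0, 0, 1; 0, 0, 1, 0; 0, -1, 0, 0]
def MO : Matrix (Fin 4) (Fin 4) ℤ := -1

theorem mem_omega {A B C : Matrix (Fin 4) (Fin 4) ℤ} (hA : Aᵀ * A = 1) (hB : Bᵀ * B = 1) (hC : Cᵀ * C = 1)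
    (hA' : Aᵀᵀ * Aᵀ = 1) (hB' : Bᵀᵀ * Bᵀ = 1) (h1 : (A * B)ᵀ * (A * B) = 1) (h2 : (A * B * Aᵀ)ᵀ * (A * B * Aᵀ) = 1)
    (h : A * B * Aᵀ * Bᵀ = C) : iso F C hC ∈ Cfsg.Omega F ⇑(sq4 F) := by
  have h3 : iso F C hC = iso F A hA * iso F B hB * (iso F A hA)⁻¹ * (iso F B hB)⁻¹ := by
    rw [iso_inv hA hA', iso_inv hB hB', iso_mul hA hB h1 rfl, iso_mul h1 hA' h2 rfl, iso_mul h2 hB' hC h]
  rw [h3]
  exact Subgroup.commutator_mem_commutator (Subgroup.mem_top _) (Subgroup.mem_top _)

theorem mem_li : iso F LI (by decide) ∈ Cfsg.Omega F ⇑(sq4 F) :=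
  mem_omega (A := SG) (B := LJ) (by decide) (by decide) (by decide) (by decide) (by decide) (by decide) (by decide)
    (by decide)

theorem mem_lj : iso F LJ (by decide) ∈ Cfsg.Omega F ⇑(sq4 F) :=
  mem_omega (A := TA) (B := LK) (by decide) (by decide) (by decide) (by decide) (by decide) (by decide) (by decide)
    (by decide)

theorem mem_ri : iso F RIᵀ (by decide) ∈ Cfsg.Omega F ⇑(sq4 F) :=
  mem_omega (A := SG) (B := RJ) (by decide) (by decide) (by decide) (by decide) (by decide) (by decide) (by decide)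
    (by decide)

theorem mem_rj : iso F RJᵀ (by decide) ∈ Cfsg.Omega F ⇑(sq4 F) :=
  mem_omega (A := TA) (B := RK) (by decide) (by decide) (by decide) (by decide) (by decide) (by decide) (by decide)
    (by decide)

/-- **`Q₈ ∘ Q₈`** -/
theorem exists_q8 : ∃ a b c d z : Cfsg.isometryGroup F ⇑(sq4 F), a ∈ Cfsg.Omega F ⇑(sq4 F) ∧
    b ∈ Cfsg.Omega F ⇑(sq4 F) ∧ c ∈ Cfsg.Omega F ⇑(sq4 F) ∧ d ∈ Cfsg.Omega F ⇑(sq4 F) ∧ a * a = z ∧ b * b = z ∧
    c * c = z ∧ d * d = z ∧ z * z = 1 ∧ a * b = z * (b * a) ∧ c * d = z * (d * c) ∧ a * c = c * a ∧ a * d = d * a ∧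
    ∀ v, R (sq4 F) z v = -v := by
  have hone : iso F 1 (by decide) = 1 := by
    apply Subtype.ext
    apply Units.ext
    show (1 : Matrix (Fin 4) (Fin 4) ℤ).map (Int.cast : ℤ → F) = 1
    rw [Matrix.map_one _ Int.cast_zero Int.cast_one]
  have key : ∀ {A B A' B' : Matrix (Fin 4) (Fin 4) ℤ} (hA : Aᵀ * A = 1) (hB : Bᵀ * B = 1) (hA' : A'ᵀ * A' = 1)
      (hB' : B'ᵀ * B' = 1) (h1 : (A * B)ᵀ * (A * B) = 1), A * B = A' * B' →
      iso F A hA * iso F B hB = iso F A' hA' * iso F B' hB' := by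
    intro A B A' B' hA hB hA' hB' h1 h
    rw [iso_mul hA hB h1 rfl, iso_mul hA' hB' h1 h.symm]
  refine ⟨iso F LI (by decide), iso F LJ (by decide), iso F RIᵀ (by decide), iso F RJᵀ (by decide),
    iso F MO (by decide), mem_li, mem_lj, mem_ri, mem_rj, iso_mul _ _ _ (by decide), iso_mul _ _ _ (by decide),
    iso_mul _ _ _ (by decide), iso_mul _ _ _ (by decide), ?_, ?_, ?_, ?_, ?_, ?_⟩
  · rw [iso_mul _ _ (C := 1) (by decide) (by decide), hone]
  · rw [iso_mul (A := LJ) (B := LI) (C := LJ * LI) (by decide) (by decide) (by decide) rfl]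
    exact key (A := LI) (B := LJ) (A' := MO) (B' := LJ * LI) (by decide) (by decide) (by decide) (by decide) (by decide)
      (by decide)
  · rw [iso_mul (A := RJᵀ) (B := RIᵀ) (C := RJᵀ * RIᵀ) (by decide) (by decide) (by decide) rfl]
    exact key (A := RIᵀ) (B := RJᵀ) (A' := MO) (B' := RJᵀ * RIᵀ) (by decide) (by decide) (by decide) (by decide)
      (by decide) (by decide)
  · exact key (A := LI) (B := RIᵀ) (A' := RIᵀ) (B' := LI) (by decide) (by decide) (by decide) (by decide) (by decide)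
      (by decide)
  · exact key (A := LI) (B := RJᵀ) (A' := RJᵀ) (B' := LI) (by decide) (by decide) (by decide) (by decide) (by decide)
      (by decide)
  · intro v
    rw [H501.RowOmega.rho_apply]
    show (MO.map (Int.cast : ℤ → F)) *ᵥ v = -v
    have h1 : MO.map (Int.cast : ℤ → F) = -1 := by
      rw [MO, Matrix.map_neg _ Int.cast_neg, Matrix.map_one _ Int.cast_zero Int.cast_one]
    rw [h1, Matrix.neg_mulVec, Matrix.one_mulVec]

end Cfsg.Agent.H953.N9

private theorem dce_f80a9afc202b : _root_.True := by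
  try have : _root_.True := by simp only [_root_.Cfsg.Agent.H953.N9.MO.eq_1]
  try have : _root_.True := by simp only [_root_.Cfsg.Agent.H953.N9.sq4.eq_1]
  exact _root_.True.intro
end
end
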